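import Mathlib.Algebra.Category.ModuleCat.Sheaf.Abelian
import Mathlib.Algebra.Category.ModuleCat.Sheaf.Colimits
import Mathlib.Algebra.Category.ModuleCat.Sheaf.Limits
import Mathlib.Algebra.Category.ModuleCat.Presheaf.Generator
import Mathlib.Algebra.Category.Grp.AB
import Mathlib.CategoryTheory.Abelian.GrothendieckAxioms.FunctorCategory
import Mathlib.Algebra.Category.Grp.FilteredColimits
import Mathlib.CategoryTheory.Abelian.GrothendieckCategory.Basic
import Mathlib.CategoryTheory.Abelian.GrothendieckCategory.EnoughInjectives

/-!
# Sheaves of modules on a small ringed site form a Grothendieck abelian category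
-/

set_option autoImplicit false

universe u

open CategoryTheory Limits

namespace ModSiteLib

variable {C : Type u} [SmallCategory C] {J : GrothendieckTopology C}

instance presheafOfModules_ab5 (R₀ : Cᵒᵖ ⥤ RingCat.{u}) :
    AB5OfSize.{u, u} (PresheafOfModules.{u} R₀) where
  ofShape K _ _ :=
    HasExactColimitsOfShape.domain_of_functor K (PresheafOfModules.toPresheaf.{u} R₀)

variable (R : Sheaf J RingCat.{u})

/-- The sheafification of the free presheaves of modules on representables. -/
def freeShs : ObjectProperty (SheafOfModules.{u} R) :=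
  .ofObj fun X : C => (PresheafOfModules.sheafification.{u} (𝟙 R.obj)).obj
    ((PresheafOfModules.free R.obj).obj (yoneda.obj X))

instance : ObjectProperty.Small.{u} (freeShs R) := by
  dsimp [freeShs]
  infer_instance

lemma freeShs_isSeparating : (freeShs R).IsSeparating := by
  intro M N f g h
  apply (SheafOfModules.forget R).map_injective
  apply PresheafOfModules.freeYoneda.isSeparating R.obj
  rintro G ⟨X⟩ a
  have e := h _ (ObjectProperty.ofObj_apply _ X)
    (((PresheafOfModules.sheafificationAdjunction.{u} (𝟙 R.obj)).homEquiv _ M).symm a)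
  have e' := congrArg ((PresheafOfModules.sheafificationAdjunction.{u} (𝟙 R.obj)).homEquiv _ N) e
  rw [Adjunction.homEquiv_naturality_right, Adjunction.homEquiv_naturality_right] at e'
  erw [Equiv.apply_symm_apply] at e'
  exact e'

instance sheafOfModules_hasSeparator : HasSeparator (SheafOfModules.{u} R) :=
  ⟨_, (isSeparator_of_isColimit_cofan (f := fun X : C =>
      (PresheafOfModules.sheafification.{u} (𝟙 R.obj)).obj
        ((PresheafOfModules.free R.obj).obj (yoneda.obj X)))
    (freeShs_isSeparating R) (coproductIsCoproduct _))⟩

instance sheafOfModules_isGrothendieckAbelian :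
    IsGrothendieckAbelian.{u} (SheafOfModules.{u} R) where
  hasFilteredColimitsOfSize := ⟨fun _ _ _ => inferInstance⟩
  ab5OfSize := ⟨fun K _ _ =>
    (PresheafOfModules.sheafificationAdjunction.{u} (𝟙 R.obj)).hasExactColimitsOfShape K⟩

instance sheafOfModules_enoughInjectives : EnoughInjectives (SheafOfModules.{u} R) :=
  IsGrothendieckAbelian.enoughInjectives.{u}

end ModSiteLib
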