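import Mathlib.Algebra.Category.ModuleCat.Presheaf.Monoidal
import Mathlib.Algebra.Category.ModuleCat.Sheaf.Localization
import Mathlib.CategoryTheory.Sites.LocallyBijective

/-!
# Tensoring preserves local isomorphisms of presheaves of modules

If `f : P ⟶ Q` is locally bijective and `F` is a sheaf of modules, then every morphism
`P ⊗ N ⟶ F` extends uniquely along `f ▷ N`.
-/

set_option autoImplicit false

universe u

open CategoryTheory MonoidalCategory Opposite Limits

namespace ModSiteLib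

section

variable {C : Type u} [SmallCategory C] (J : GrothendieckTopology C) {R : Cᵒᵖ ⥤ CommRingCat.{u}}
  {P Q N F : PresheafOfModules.{u} (R ⋙ forget₂ CommRingCat RingCat)}

/-- Restriction maps of a presheaf of modules, as plain functions. -/
noncomputable def res (M : PresheafOfModules.{u} (R ⋙ forget₂ CommRingCat RingCat))
    {X Y : Cᵒᵖ} (g : X ⟶ Y) (m : M.obj X) : M.obj Y := M.map g m

section res

variable (M : PresheafOfModules.{u} (R ⋙ forget₂ CommRingCat RingCat)) {X Y Z : Cᵒᵖ}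

lemma res_add (g : X ⟶ Y) (m m' : M.obj X) : res M g (m + m') = res M g m + res M g m' :=
  map_add (M.map g).hom m m'

lemma res_smul (g : X ⟶ Y) (r : R.obj X) (m : M.obj X) :
    res M g (r • m) = R.map g r • res M g m :=
  M.map_smul g r m

lemma res_comp (g : X ⟶ Y) (h : Y ⟶ Z) (m : M.obj X) :
    res M h (res M g m) = res M (g ≫ h) m :=
  (M.map_comp_apply g h m).symm

lemma res_id (m : M.obj X) : res M (𝟙 X) m = m := by
  unfold res; rw [M.map_id]; rfl

end res

lemma app_res (f : P ⟶ Q) {X Y : Cᵒᵖ} (g : X ⟶ Y) (p : P.obj X) :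
    f.app Y (res P g p) = res Q g (f.app X p) :=
  PresheafOfModules.naturality_apply f g p

lemma sheaf_sep (hF : Presheaf.IsSheaf J F.presheaf) {X : C} {S : Sieve X} (hS : S ∈ J X)
    {x y : F.obj (op X)} (h : ∀ ⦃Y : C⦄ (g : Y ⟶ X), S g → res F g.op x = res F g.op y) : x = y :=
  Presheaf.IsSheaf.isSeparated hF X S hS x y h

/-- The value on a pure tensor of a morphism out of a tensor product of presheaves of modules. -/
noncomputable def bil (φ : P ⊗ N ⟶ F) {X : Cᵒᵖ} (p : P.obj X) (n : N.obj X) : F.obj X :=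
  φ.app X (TensorProduct.tmul (R.obj X) p n)

lemma bil_add_left (φ : P ⊗ N ⟶ F) {X : Cᵒᵖ} (p p' : P.obj X) (n : N.obj X) :
    bil φ (p + p') n = bil φ p n + bil φ p' n := by
  unfold bil; rw [TensorProduct.add_tmul]; exact map_add (φ.app X).hom _ _

lemma bil_add_right (φ : P ⊗ N ⟶ F) {X : Cᵒᵖ} (p : P.obj X) (n n' : N.obj X) :
    bil φ p (n + n') = bil φ p n + bil φ p n' := by
  unfold bil; rw [TensorProduct.tmul_add]; exact map_add (φ.app X).hom _ _

lemma bil_smul_left (φ : P ⊗ N ⟶ F) {X : Cᵒᵖ} (r : R.obj X) (p : P.obj X) (n : N.obj X) :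
    bil φ (r • p) n = r • bil φ p n := by
  unfold bil; erw [← TensorProduct.smul_tmul']; exact map_smul (φ.app X).hom _ _

lemma bil_smul_right (φ : P ⊗ N ⟶ F) {X : Cᵒᵖ} (r : R.obj X) (p : P.obj X) (n : N.obj X) :
    bil φ p (r • n) = r • bil φ p n := by
  unfold bil; erw [TensorProduct.tmul_smul]; exact map_smul (φ.app X).hom _ _

lemma res_bil (φ : P ⊗ N ⟶ F) {X Y : Cᵒᵖ} (g : X ⟶ Y) (p : P.obj X) (n : N.obj X) :
    res F g (bil φ p n) = bil φ (res P g p) (res N g n) :=
  (PresheafOfModules.naturality_apply φ g _).symm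

variable (f : P ⟶ Q) (φ : P ⊗ N ⟶ F)

lemma bil_congr [Presheaf.IsLocallyInjective J ((PresheafOfModules.toPresheaf _).map f)]
    (hF : Presheaf.IsSheaf J F.presheaf) {X : C} (p p' : P.obj (op X)) (n : N.obj (op X))
    (h : f.app (op X) p = f.app (op X) p') : bil φ p n = bil φ p' n := by
  refine sheaf_sep J hF (Presheaf.equalizerSieve_mem J
    ((PresheafOfModules.toPresheaf _).map f) (X := op X) p p' h) (fun Y g hg => ?_)
  rw [res_bil, res_bil]
  exact congrArg (fun t => bil φ t _) hg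

lemma exists_covering_preimage
    [Presheaf.IsLocallySurjective J ((PresheafOfModules.toPresheaf _).map f)]
    {X : C} (q : Q.obj (op X)) :
    ∃ S ∈ J X, ∀ ⦃Y : C⦄ (g : Y ⟶ X), S.arrows g →
      ∃ p : P.obj (op Y), f.app (op Y) p = res Q g.op q :=
  by
    let f' := (PresheafOfModules.toPresheaf _).map f
    refine ⟨Presheaf.imageSieve f' (U := X) q, Presheaf.imageSieve_mem J f' (U := op X) q,
      fun Y g hg => ?_⟩
    obtain ⟨p, hp⟩ := hg
    exact ⟨p, hp⟩

/-- `e` is the value at `(q, n)` of the extension of `φ` along `f`. -/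
def IsExt {X : C} (q : Q.obj (op X)) (n : N.obj (op X)) (e : F.obj (op X)) : Prop :=
  ∀ ⦃Y : C⦄ (g : Y ⟶ X) (p : P.obj (op Y)), f.app (op Y) p = res Q g.op q →
    res F g.op e = bil φ p (res N g.op n)

variable (hF : Presheaf.IsSheaf J F.presheaf)
  [Presheaf.IsLocallyInjective J ((PresheafOfModules.toPresheaf _).map f)]
  [Presheaf.IsLocallySurjective J ((PresheafOfModules.toPresheaf _).map f)]

include hF in
lemma exists_isExt {X : C} (q : Q.obj (op X)) (n : N.obj (op X)) : ∃ e, IsExt f φ q n e := by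
  obtain ⟨S, hS, hp⟩ := exists_covering_preimage J f q
  choose loc hloc using hp
  have hF' := ((isSheaf_iff_isSheaf_of_type _ _).1
    ((Presheaf.isSheaf_iff_isSheaf_forget J F.presheaf (forget AddCommGrpCat.{u})).1 hF)) S hS
  let x : Presieve.FamilyOfElements (F.presheaf ⋙ forget AddCommGrpCat.{u}) S.arrows :=
    fun Y g hg => bil φ (loc g hg) (res N g.op n)
  have hx : x.Compatible := by
    intro Y₁ Y₂ Z g₁ g₂ f₁ f₂ h₁ h₂ fac
    change res F g₁.op (bil φ (loc f₁ h₁) (res N f₁.op n)) =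
      res F g₂.op (bil φ (loc f₂ h₂) (res N f₂.op n))
    rw [res_bil, res_bil, res_comp, res_comp, ← op_comp, ← op_comp, fac]
    refine bil_congr J f φ hF _ _ _ ?_
    rw [app_res, app_res, hloc, hloc, res_comp, res_comp, ← op_comp, ← op_comp, fac]
  obtain ⟨e₀, he, -⟩ := hF' x hx
  let e : F.obj (op X) := e₀
  refine ⟨e, fun Y g p hp => ?_⟩
  refine sheaf_sep J hF (J.pullback_stable g hS) (fun Z h hh₀ => ?_)
  have hh : S.arrows (h ≫ g) := hh₀
  have e₁ : res F (h ≫ g).op e = bil φ (loc (h ≫ g) hh) (res N (h ≫ g).op n) := he (h ≫ g) hh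
  rw [res_bil, res_comp, res_comp, ← op_comp, e₁]
  refine bil_congr J f φ hF _ _ _ ?_
  rw [app_res, hp, hloc, res_comp, ← op_comp]

/-- The extension of `φ` on a pair of sections. -/
noncomputable def ext₀ {X : C} (q : Q.obj (op X)) (n : N.obj (op X)) : F.obj (op X) :=
  (exists_isExt J f φ hF q n).choose

lemma ext₀_spec {X : C} (q : Q.obj (op X)) (n : N.obj (op X)) :
    IsExt f φ q n (ext₀ J f φ hF q n) :=
  (exists_isExt J f φ hF q n).choose_spec

lemma ext₀_add_left {X : C} (q q' : Q.obj (op X)) (n : N.obj (op X)) :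
    ext₀ J f φ hF (q + q') n = ext₀ J f φ hF q n + ext₀ J f φ hF q' n := by
  obtain ⟨S, hS, hp⟩ := exists_covering_preimage J f q
  obtain ⟨S', hS', hp'⟩ := exists_covering_preimage J f q'
  refine sheaf_sep J hF (J.intersection_covering hS hS') (fun Y g hg => ?_)
  obtain ⟨p, h⟩ := hp g hg.1
  obtain ⟨p', h'⟩ := hp' g hg.2
  rw [res_add, ext₀_spec J f φ hF q n g p h, ext₀_spec J f φ hF q' n g p' h',
    ext₀_spec J f φ hF (q + q') n g (p + p') (by rw [res_add, ← h, ← h']; exact map_add _ _ _),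
    bil_add_left]

lemma ext₀_smul_left {X : C} (r : R.obj (op X)) (q : Q.obj (op X)) (n : N.obj (op X)) :
    ext₀ J f φ hF (r • q) n = r • ext₀ J f φ hF q n := by
  obtain ⟨S, hS, hp⟩ := exists_covering_preimage J f q
  refine sheaf_sep J hF hS (fun Y g hg => ?_)
  obtain ⟨p, h⟩ := hp g hg
  rw [res_smul, ext₀_spec J f φ hF q n g p h,
    ext₀_spec J f φ hF (r • q) n g (R.map g.op r • p)
      (by rw [res_smul, ← h]; exact map_smul (f.app (op Y)).hom _ _),
    bil_smul_left]

lemma ext₀_add_right {X : C} (q : Q.obj (op X)) (n n' : N.obj (op X)) :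
    ext₀ J f φ hF q (n + n') = ext₀ J f φ hF q n + ext₀ J f φ hF q n' := by
  obtain ⟨S, hS, hp⟩ := exists_covering_preimage J f q
  refine sheaf_sep J hF hS (fun Y g hg => ?_)
  obtain ⟨p, h⟩ := hp g hg
  rw [res_add, ext₀_spec J f φ hF q n g p h, ext₀_spec J f φ hF q n' g p h,
    ext₀_spec J f φ hF q (n + n') g p h, res_add, bil_add_right]

lemma ext₀_smul_right {X : C} (r : R.obj (op X)) (q : Q.obj (op X)) (n : N.obj (op X)) :
    ext₀ J f φ hF q (r • n) = r • ext₀ J f φ hF q n := by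
  obtain ⟨S, hS, hp⟩ := exists_covering_preimage J f q
  refine sheaf_sep J hF hS (fun Y g hg => ?_)
  obtain ⟨p, h⟩ := hp g hg
  rw [res_smul, ext₀_spec J f φ hF q n g p h, ext₀_spec J f φ hF q (r • n) g p h, res_smul,
    bil_smul_right]

lemma res_ext₀ {X X' : C} (g : X' ⟶ X) (q : Q.obj (op X)) (n : N.obj (op X)) :
    ext₀ J f φ hF (res Q g.op q) (res N g.op n) = res F g.op (ext₀ J f φ hF q n) := by
  obtain ⟨S, hS, hp⟩ := exists_covering_preimage J f (res Q g.op q)
  refine sheaf_sep J hF hS (fun Z h hh => ?_)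
  obtain ⟨p, hp⟩ := hp h hh
  rw [ext₀_spec J f φ hF _ (res N g.op n) h p hp, res_comp, res_comp, ← op_comp,
    ext₀_spec J f φ hF q n (h ≫ g) p (by rw [hp, res_comp, ← op_comp])]

/-- The extension of a morphism `P ⊗ N ⟶ F` into a sheaf along a locally bijective `P ⟶ Q`. -/
noncomputable def extHom : Q ⊗ N ⟶ F where
  app X := ModuleCat.MonoidalCategory.tensorLift (fun q n => ext₀ J f φ hF (X := X.unop) q n)
    (fun q q' n => ext₀_add_left J f φ hF (X := X.unop) q q' n)
    (fun r q n => ext₀_smul_left J f φ hF (X := X.unop) r q n)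
    (fun q n n' => ext₀_add_right J f φ hF (X := X.unop) q n n')
    (fun r q n => ext₀_smul_right J f φ hF (X := X.unop) r q n)
  naturality {_ _} g := ModuleCat.MonoidalCategory.tensor_ext (fun q n =>
    res_ext₀ J f φ hF g.unop q n)

lemma whiskerRight_extHom : (f ▷ N) ≫ extHom J f φ hF = φ := by
  ext1 X
  refine ModuleCat.MonoidalCategory.tensor_ext (fun p n => ?_)
  change ext₀ J f φ hF (f.app X p) n = bil φ p n
  have h := ext₀_spec J f φ hF (f.app X p) n (𝟙 X.unop) p (by rw [op_id, res_id])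
  rw [op_id, res_id, res_id] at h
  exact h

include hF in
/-- Precomposition with `f ▷ N` is bijective on morphisms to a sheaf. -/
lemma whiskerRight_comp_bijective :
    Function.Bijective (fun ψ : Q ⊗ N ⟶ F => (f ▷ N) ≫ ψ) := by
  refine ⟨fun ψ ψ' h => ?_, fun φ => ⟨extHom J f φ hF, whiskerRight_extHom J f φ hF⟩⟩
  ext1 X
  refine ModuleCat.MonoidalCategory.tensor_ext (fun q n => ?_)
  change bil ψ q n = bil ψ' q n
  obtain ⟨S, hS, hp⟩ := exists_covering_preimage J f (X := X.unop) q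
  refine sheaf_sep J hF hS (fun Y g hg => ?_)
  obtain ⟨p, hp⟩ := hp g hg
  rw [res_bil, res_bil, ← hp]
  exact congrArg (fun a : P ⊗ N ⟶ F => bil a p (res N g.op n)) h

end

end ModSiteLib
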