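import Groth.Prelude.Def_ModSite
import Groth.Agent.ModSiteLib.Tensor
import Groth.Agent.ModSiteLib.Grothendieck
import Mathlib.CategoryTheory.Adjunction.AdjointFunctorTheorems
import Mathlib.CategoryTheory.Monoidal.Closed.Braided

/-!
# The tensor product of sheaves of modules is a left adjoint in each variable
-/

set_option autoImplicit false

universe u

open CategoryTheory MonoidalCategory Limits Opposite

namespace ModSiteLib

section

universe w₁ w₂ v₁ v₂ v₃ u₁ u₂ u₃

variable {A : Type u₁} [Category.{v₁} A] {B : Type u₂} [Category.{v₂} B]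
  {E : Type u₃} [Category.{v₃} E] {L : A ⥤ B} {R : B ⥤ A}

/-- If `L ⊣ R` is a reflection and `T` preserves colimits and inverts the unit, then `R ⋙ T`
preserves colimits. -/
lemma preservesColimitsOfShape_comp_of_inverts_unit (adj : L ⊣ R) [IsIso adj.counit] (T : A ⥤ E)
    {Jc : Type w₁} [Category.{w₂} Jc] [HasColimitsOfShape Jc A] [PreservesColimitsOfShape Jc T]
    (h : ∀ X, IsIso (T.map (adj.unit.app X))) : PreservesColimitsOfShape Jc (R ⋙ T) := by
  refine ⟨fun {K} => ?_⟩
  have : PreservesColimitsOfSize.{w₂, w₁} L := adj.leftAdjoint_preservesColimits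
  let c := colimit.cocone (K ⋙ R)
  let e : K ≅ (K ⋙ R) ⋙ L :=
    NatIso.ofComponents (fun j => (asIso (adj.counit.app (K.obj j))).symm)
      (fun {i j} a => by
        simp only [Iso.symm_hom, asIso_inv]
        rw [IsIso.eq_inv_comp, ← Category.assoc, IsIso.comp_inv_eq]
        exact (adj.counit.naturality (K.map a)).symm)
  let d : Cocone K := (Cocone.precompose e.hom).obj (L.mapCocone c)
  have hd : IsColimit d := (IsColimit.precomposeHomEquiv e _).symm
    (isColimitOfPreserves L (colimit.isColimit (K ⋙ R)))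
  have := h c.pt
  refine preservesColimit_of_preserves_colimit_cocone hd ?_
  refine IsColimit.ofIsoColimit (isColimitOfPreserves T (colimit.isColimit (K ⋙ R)))
    (Cocone.ext (asIso (T.map (adj.unit.app c.pt))) (fun j => ?_))
  change T.map (c.ι.app j) ≫ T.map (adj.unit.app c.pt) =
    T.map (R.map (inv (adj.counit.app (K.obj j)) ≫ L.map (c.ι.app j)))
  rw [← Functor.map_comp]
  congr 1
  have h1 : R.map (inv (adj.counit.app (K.obj j))) = adj.unit.app (R.obj (K.obj j)) := by
    rw [Functor.map_inv, IsIso.inv_eq_of_inv_hom_id]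
    exact adj.right_triangle_components _
  rw [Functor.map_comp, h1]
  exact adj.unit.naturality (c.ι.app j)

end

variable {C : Type u} [SmallCategory C] {J : GrothendieckTopology C} (O : Sheaf J CommRingCat.{u})

/-- Presheaves of modules over the underlying presheaf of rings of `O`. -/
abbrev PMod : Type (u + 1) :=
  PresheafOfModules.{u} (O.obj ⋙ forget₂ CommRingCat.{u} RingCat.{u})

/-- Sheafification `PMod O ⥤ Mod O`. -/
noncomputable def aP : PMod O ⥤ ModSite.Mod O := ModSite.sheafify O

/-- The right adjoint of sheafification. -/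
noncomputable def jP : ModSite.Mod O ⥤ PMod O :=
  SheafOfModules.forget (ModSite.ringSh O) ⋙
    PresheafOfModules.restrictScalars (𝟙 (ModSite.ringSh O).obj)

/-- The sheafification adjunction for modules over `O`. -/
noncomputable def adjP : aP O ⊣ jP O :=
  PresheafOfModules.sheafificationAdjunction.{u} (J := J) (R := ModSite.ringSh O)
    (𝟙 (ModSite.ringSh O).obj)

instance : IsIso (adjP O).counit :=
  inferInstanceAs (IsIso (PresheafOfModules.sheafificationAdjunction.{u}
    (𝟙 (ModSite.ringSh O).obj)).counit)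

/-- `P ↦ a(P ⊗ N)`. -/
noncomputable def tensorSh (N : PMod O) : PMod O ⥤ ModSite.Mod O :=
  tensorRight N ⋙ aP O

instance (N : PMod O) : PreservesColimitsOfSize.{u, u} (tensorSh O N) := by
  have : PreservesColimitsOfSize.{u, u} (aP O) := (adjP O).leftAdjoint_preservesColimits
  exact Limits.comp_preservesColimits (tensorRight N) (aP O)

lemma W_unit (P : PMod O) :
    J.W ((PresheafOfModules.toPresheaf _).map ((adjP O).unit.app P)) :=
  J.W_toSheafify (A := AddCommGrpCat.{u}) P.presheaf

lemma isIso_tensorSh_map (N : PMod O) {P Q : PMod O} (f : P ⟶ Q)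
    (hf : J.W ((PresheafOfModules.toPresheaf _).map f)) : IsIso ((tensorSh O N).map f) := by
  rw [GrothendieckTopology.W_iff_isLocallyBijective] at hf
  have := hf.1
  have := hf.2
  refine isIso_of_coyoneda_map_bijective _ (fun T => ?_)
  have hb := whiskerRight_comp_bijective J f (N := N) (F := (jP O).obj T) T.isSheaf
  let eP := (adjP O).homEquiv (P ⊗ N) T
  let eQ := (adjP O).homEquiv (Q ⊗ N) T
  have : (fun x => (tensorSh O N).map f ≫ x) =
      eP.symm ∘ (fun ψ => (f ▷ N) ≫ ψ) ∘ eQ := by
    funext x
    refine eP.injective ?_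
    exact ((adjP O).homEquiv_naturality_left (f ▷ N) x).trans (eP.apply_symm_apply _).symm
  rw [this]
  exact eP.symm.bijective.comp (hb.comp eQ.bijective)

lemma preservesColimits_jP_tensorSh (N : PMod O) :
    PreservesColimitsOfSize.{u, u} (jP O ⋙ tensorSh O N) :=
  ⟨fun {_} _ => preservesColimitsOfShape_comp_of_inverts_unit (adjP O) (tensorSh O N)
    (fun P => isIso_tensorSh_map O N _ (W_unit O P))⟩

lemma isLeftAdjoint_jP_tensorSh (N : PMod O) : (jP O ⋙ tensorSh O N).IsLeftAdjoint := by
  have := preservesColimits_jP_tensorSh O N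
  have : WellPowered.{u} (ModSite.Mod O)ᵒᵖ :=
    @Abelian.wellPowered_opposite _ _ _ _
      (IsGrothendieckAbelian.wellPowered.{u} (ModSite.Mod O))
  exact isLeftAdjoint_of_preservesColimits_of_isSeparating
    (freeShs_isSeparating (ModSite.ringSh O)) _

lemma hasSheafHom (N : ModSite.Mod O) : ModSite.HasSheafHom N := by
  have := isLeftAdjoint_jP_tensorSh O ((jP O).obj N)
  exact Functor.isLeftAdjoint_of_iso
    (NatIso.ofComponents (fun M => Iso.refl _) :
      jP O ⋙ tensorSh O ((jP O).obj N) ≅ (ModSite.tensorBi O).flip.obj N)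

end ModSiteLib
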