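/-
Extension by zero of presheaves of modules along `C/U → C`.
-/
import Groth.Agent.ModSiteLib.TensorSheaf
import Groth.Agent.ModSiteLib.Grothendieck
import Mathlib.Algebra.Category.ModuleCat.Presheaf.Pushforward
import Mathlib.Algebra.Category.ModuleCat.AB

set_option autoImplicit false
set_option linter.style.haveILetI false

universe u

open CategoryTheory Limits Opposite

namespace ModSiteLib

variable {C : Type u} [SmallCategory C] {J : GrothendieckTopology C} {O : Sheaf J CommRingCat.{u}}
  {U : C}

/-- The fibre over `g` of a presheaf of modules on `C/U`. -/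
noncomputable abbrev mfib (G : PMod (O.over U)) (V : Cᵒᵖ) (g : V.unop ⟶ U) :
    ModuleCat.{u} (O.obj.obj V) :=
  G.obj (op (Over.mk g))

/-- Inclusion of the fibre over `g`. -/
noncomputable abbrev mι (G : PMod (O.over U)) (V : Cᵒᵖ) (g : V.unop ⟶ U) :
    mfib G V g ⟶ ∐ mfib G V := Sigma.ι (mfib G V) g

lemma mι_congr (G : PMod (O.over U)) {V W : Cᵒᵖ} {g : V.unop ⟶ U} (k : W.unop ⟶ V.unop)
    {a b : W.unop ⟶ U} (hab : a = b) (ha : k ≫ g = a) (hb : k ≫ g = b) (x : mfib G V g) :
    mι G W a (G.map (Over.homMk (U := Over.mk a) (V := Over.mk g) k ha).op x) =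
      mι G W b (G.map (Over.homMk (U := Over.mk b) (V := Over.mk g) k hb).op x) := by
  subst hab
  rfl

/-- The restriction map of the extension by zero. -/
noncomputable def oLanMap (G : PMod (O.over U)) {V W : Cᵒᵖ} (f : V ⟶ W) :
    (∐ mfib G V) ⟶ (ModuleCat.restrictScalars (O.obj.map f).hom).obj (∐ mfib G W) :=
  Sigma.desc fun g => (G.map (Over.homMk (U := Over.mk (f.unop ≫ g)) (V := Over.mk g) f.unop rfl).op :
      mfib G V g ⟶ (ModuleCat.restrictScalars (O.obj.map f).hom).obj (mfib G W (f.unop ≫ g))) ≫
    (ModuleCat.restrictScalars (O.obj.map f).hom).map (mι G W (f.unop ≫ g))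

lemma oLanMap_mι (G : PMod (O.over U)) {V W : Cᵒᵖ} (f : V ⟶ W) (g : V.unop ⟶ U) (x : mfib G V g) :
    oLanMap G f (mι G V g x) =
      mι G W (f.unop ≫ g)
        (G.map (Over.homMk (U := Over.mk (f.unop ≫ g)) (V := Over.mk g) f.unop rfl).op x) := by
  have h : mι G V g ≫ oLanMap G f = _ := Sigma.ι_desc _ g
  exact congr($(h).hom x)

/-- The extension by zero of a presheaf of modules. -/
noncomputable def oLanObj (G : PMod (O.over U)) : PMod O where
  obj V := ∐ mfib G V
  map {V W} f := oLanMap G f
  map_id V := by
    refine Sigma.hom_ext _ _ fun g => ?_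
    ext x
    refine (oLanMap_mι G (𝟙 V) g x).trans ?_
    refine (mι_congr G (𝟙 V.unop) (Category.id_comp g) rfl (Category.id_comp g) x).trans ?_
    exact congrArg (mι G V g) ((G.congr_map_apply (g := 𝟙 (op (Over.mk g))) rfl x).trans
      (by simp [PresheafOfModules.map_id]))
  map_comp {V W Z} f f' := by
    refine Sigma.hom_ext _ _ fun g => ?_
    ext x
    refine (oLanMap_mι G (f ≫ f') g x).trans ?_
    refine Eq.trans ?_ ((congrArg (oLanMap G f') (oLanMap_mι G f g x)).trans
      (oLanMap_mι G f' (f.unop ≫ g) _)).symm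
    refine (mι_congr G ((f ≫ f').unop) (Category.assoc _ _ _) rfl (Category.assoc _ _ _) x).trans ?_
    refine congrArg (mι G Z (f'.unop ≫ f.unop ≫ g)) ?_
    rw [← PresheafOfModules.map_comp_apply]
    rfl

variable (O U) in
/-- Extension by zero of presheaves of modules. -/
noncomputable def oLan : PMod (O.over U) ⥤ PMod O where
  obj := oLanObj
  map {G G'} a :=
    { app := fun V => (Limits.Sigma.map fun g => a.app (op (Over.mk g)) : (∐ mfib G V) ⟶ ∐ mfib G' V)
      naturality := fun {V W} f => by
        refine Sigma.hom_ext _ _ fun g => ?_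
        ext x
        have h : ∀ (V : Cᵒᵖ) (g : V.unop ⟶ U) (y : mfib G V g),
            (Limits.Sigma.map fun g => a.app (op (Over.mk g)) : (∐ mfib G V) ⟶ ∐ mfib G' V)
              (mι G V g y) = mι G' V g (a.app (op (Over.mk g)) y) := fun V g y => by
          have h' : mι G V g ≫ (Limits.Sigma.map fun g => a.app (op (Over.mk g)) :
              (∐ mfib G V) ⟶ ∐ mfib G' V) = a.app (op (Over.mk g)) ≫ mι G' V g :=
            Limits.Sigma.ι_map _ g
          exact congr($(h').hom y)
        refine ((congrArg _ (oLanMap_mι G f g x)).trans (h W _ _)).trans ?_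
        refine Eq.trans ?_ ((congrArg (oLanMap G' f) (h V g x)).trans (oLanMap_mι G' f g _)).symm
        exact congrArg (mι G' W (f.unop ≫ g)) (PresheafOfModules.naturality_apply a _ x) }
  map_id G := by
    ext V : 1
    refine Sigma.hom_ext _ _ fun g => ?_
    have h' : mι G V g ≫ (Limits.Sigma.map fun g => (𝟙 G : G ⟶ G).app (op (Over.mk g)) :
        (∐ mfib G V) ⟶ ∐ mfib G V) = (𝟙 G : G ⟶ G).app (op (Over.mk g)) ≫ mι G V g :=
      Limits.Sigma.ι_map _ g
    exact h'.trans ((Category.id_comp _).trans (Category.comp_id _).symm)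
  map_comp {G G' G''} a b := by
    ext V : 1
    refine Sigma.hom_ext _ _ fun g => ?_
    ext x
    have h : ∀ {G G' : PMod (O.over U)} (a : G ⟶ G') (y : mfib G V g),
        (Limits.Sigma.map fun g => a.app (op (Over.mk g)) : (∐ mfib G V) ⟶ ∐ mfib G' V)
          (mι G V g y) = mι G' V g (a.app (op (Over.mk g)) y) := fun {G G'} a y => by
      have h' : mι G V g ≫ (Limits.Sigma.map fun g => a.app (op (Over.mk g)) :
          (∐ mfib G V) ⟶ ∐ mfib G' V) = a.app (op (Over.mk g)) ≫ mι G' V g :=
            Limits.Sigma.ι_map _ g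
      exact congr($(h').hom y)
    exact (h (a ≫ b) x).trans ((congrArg _ (h a x)).trans (h b _)).symm

instance preservesMonomorphisms_oLan : (oLan O U).PreservesMonomorphisms where
  preserves {G G'} a _ := by
    haveI : ∀ V, Mono (((oLan O U).map a).app V) := fun V => by
      have hg : ∀ g : V.unop ⟶ U, Mono (a.app (op (Over.mk g))) := fun g =>
        inferInstanceAs (Mono ((PresheafOfModules.evaluation _ (op (Over.mk g))).map a))
      haveI : AB4OfSize.{u} (ModuleCat.{u} (O.obj.obj V)) := inferInstance
      haveI : HasExactColimitsOfShape (Discrete (V.unop ⟶ U)) (ModuleCat.{u} (O.obj.obj V)) :=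
        AB4OfSize.ofShape _
      let η : Discrete.functor (mfib G V) ⟶ Discrete.functor (mfib G' V) :=
        Discrete.natTrans fun g => a.app (op (Over.mk g.as))
      haveI : ∀ g, Mono (η.app g) := fun g => hg g.as
      haveI : Mono η := NatTrans.mono_of_mono_app _
      exact (colim (J := Discrete (V.unop ⟶ U)) (C := ModuleCat.{u} (O.obj.obj V))).map_mono η
    exact PresheafOfModules.mono_of_injective (fun V => (ModuleCat.mono_iff_injective _).1 inferInstance)

variable (O U) in
/-- Restriction of presheaves of modules. -/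
noncomputable abbrev oRes : PMod O ⥤ PMod (O.over U) :=
  PresheafOfModules.pushforward₀OfCommRingCat (Over.forget U) O.obj

/-- Maps out of the extension by zero. -/
noncomputable def oLanEquiv (G : PMod (O.over U)) (M : PMod O) :
    ((oLan O U).obj G ⟶ M) ≃ (G ⟶ (oRes O U).obj M) where
  toFun φ :=
    { app := fun W => (mι G (op W.unop.left) W.unop.hom ≫ φ.app (op W.unop.left) : _)
      naturality := fun {W W'} k => by
        ext x
        have h : oLanMap G k.unop.left.op (mι G (op W.unop.left) W.unop.hom x) =
            mι G (op W'.unop.left) W'.unop.hom (G.map k x) :=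
          (oLanMap_mι G k.unop.left.op W.unop.hom x).trans
            ((mι_congr G (V := op W.unop.left) (W := op W'.unop.left) k.unop.left (Over.w k.unop) rfl
              (Over.w k.unop) x).trans rfl)
        refine (congrArg (φ.app (op W'.unop.left)) h.symm).trans ?_
        exact PresheafOfModules.naturality_apply φ k.unop.left.op _ }
  invFun ψ :=
    { app := fun V => (Sigma.desc fun g => ψ.app (op (Over.mk g)) : (∐ mfib G V) ⟶ M.obj V)
      naturality := fun {V W} f => by
        refine Sigma.hom_ext _ _ fun g => ?_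
        ext x
        have h : ∀ (V : Cᵒᵖ) (g : V.unop ⟶ U) (y : mfib G V g),
            (Sigma.desc fun g => ψ.app (op (Over.mk g)) : (∐ mfib G V) ⟶ M.obj V) (mι G V g y) =
              ψ.app (op (Over.mk g)) y := fun V g y => by
          have h' : mι G V g ≫ (Sigma.desc fun g => ψ.app (op (Over.mk g)) : (∐ mfib G V) ⟶ M.obj V) =
              ψ.app (op (Over.mk g)) := Sigma.ι_desc _ g
          exact congr($(h').hom y)
        refine ((congrArg _ (oLanMap_mι G f g x)).trans (h W _ _)).trans ?_
        refine (PresheafOfModules.naturality_apply ψ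
          (Over.homMk (U := Over.mk (f.unop ≫ g)) (V := Over.mk g) f.unop rfl).op x).trans ?_
        exact congrArg (M.map f) (h V g x).symm }
  left_inv φ := by
    ext V : 1
    exact Sigma.hom_ext _ _ fun g => Sigma.ι_desc _ _
  right_inv ψ := by
    ext W : 1
    exact Sigma.ι_desc _ _

variable (O U) in
/-- The adjunction. -/
noncomputable def oLanAdj : oLan O U ⊣ oRes O U :=
  Adjunction.mkOfHomEquiv
    { homEquiv := oLanEquiv
      homEquiv_naturality_left_symm := fun {G G' M} a ψ => by
        ext V : 1
        refine Sigma.hom_ext _ _ fun g => ?_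
        refine (Sigma.ι_desc _ _).trans (Eq.trans ?_ ((Category.assoc _ _ _).symm.trans
          ((congrArg (· ≫ _) (Limits.Sigma.ι_map _ g)).trans ((Category.assoc _ _ _).trans
            (congrArg (_ ≫ ·) (Sigma.ι_desc _ _))))).symm)
        rfl
      homEquiv_naturality_right := fun {G M N} φ b => by
        ext W : 1
        exact (Category.assoc _ _ _).symm }

end ModSiteLib
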