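/-
Extension by zero is exact and reflects exactness.
-/
import Groth.Agent.ModSiteLib.OverLanMod
import Mathlib.CategoryTheory.Sites.Over
import Mathlib.Algebra.Homology.ShortComplex.ExactFunctor
import Mathlib.CategoryTheory.Abelian.Exact

set_option autoImplicit false
set_option linter.style.haveILetI false
set_option backward.isDefEq.respectTransparency false

universe u

open CategoryTheory Limits Opposite

namespace ModSiteLib

variable {C : Type u} [SmallCategory C] {J : GrothendieckTopology C} (O : Sheaf J CommRingCat.{u})
  (U : C)

/-- Restriction commutes with forgetting to presheaves. -/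
noncomputable def restrPreIso : ModSite.restr O U ⋙ jP (O.over U) ≅ jP O ⋙ oRes O U :=
  NatIso.ofComponents (fun M => PresheafOfModules.isoMk (fun _ => Iso.refl _) (fun _ _ _ => rfl))
    (fun f => by ext V : 1; rfl)

/-- Extension by zero of a sheafified presheaf is the sheafification of the extension by zero. -/
noncomputable def sheafifyExtZeroIso :
    aP (O.over U) ⋙ ModSite.extZero O U ≅ oLan O U ⋙ aP O :=
  Adjunction.leftAdjointUniq
    (((adjP (O.over U)).comp (ModSite.extZeroAdj O U)).ofNatIsoRight (restrPreIso O U))
    ((oLanAdj O U).comp (adjP O))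

/-- Extension by zero as a composite. -/
noncomputable def extZeroIso :
    ModSite.extZero O U ≅ jP (O.over U) ⋙ oLan O U ⋙ aP O :=
  (Functor.leftUnitor _).symm ≪≫
    Functor.isoWhiskerRight (asIso (adjP (O.over U)).counit).symm (ModSite.extZero O U) ≪≫
    Functor.associator _ _ _ ≪≫ Functor.isoWhiskerLeft _ (sheafifyExtZeroIso O U)

instance additive_restr : (ModSite.restr O U).Additive := ⟨fun {_ _ _ _} => rfl⟩

instance additive_jP : (jP O).Additive := ⟨fun {_ _ _ _} => rfl⟩

instance additive_extZero : (ModSite.extZero O U).Additive :=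
  (ModSite.extZeroAdj O U).left_adjoint_additive

lemma preservesMonomorphisms_extZero : (ModSite.extZero O U).PreservesMonomorphisms := by
  haveI : PreservesFiniteLimits (aP O) :=
    inferInstanceAs (PreservesFiniteLimits (PresheafOfModules.sheafification.{u}
      (𝟙 (ModSite.ringSh O).obj)))
  haveI : (jP (O.over U)).PreservesMonomorphisms :=
    Functor.preservesMonomorphisms_of_adjunction (adjP (O.over U))
  haveI : (oLan O U ⋙ aP O).PreservesMonomorphisms := inferInstance
  haveI : (jP (O.over U) ⋙ oLan O U ⋙ aP O).PreservesMonomorphisms := inferInstance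
  exact Functor.PreservesMonomorphisms.of_iso (extZeroIso O U).symm

lemma preservesHomology_extZero : (ModSite.extZero O U).PreservesHomology := by
  haveI := preservesMonomorphisms_extZero O U
  haveI : PreservesColimitsOfSize.{0, 0} (ModSite.extZero O U) :=
    (ModSite.extZeroAdj O U).leftAdjoint_preservesColimits
  exact Functor.preservesHomology_of_preservesMonos_and_cokernels _

lemma preservesFiniteLimits_extZero : PreservesFiniteLimits (ModSite.extZero O U) :=
  haveI := preservesHomology_extZero O U
  Functor.preservesFiniteLimits_of_preservesHomology _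

variable {O U}

lemma isZero_of_isZero_extZero {G : ModSite.Mod (O.over U)}
    (h : IsZero ((ModSite.extZero O U).obj G)) : IsZero G := by
  have h' : IsZero ((aP O).obj ((oLan O U).obj ((jP (O.over U)).obj G))) :=
    h.of_iso ((extZeroIso O U).app G).symm
  have hW := W_unit O ((oLan O U).obj ((jP (O.over U)).obj G))
  rw [GrothendieckTopology.W_iff_isLocallyBijective] at hW
  haveI := hW.1
  have key : ∀ (W : (Over U)ᵒᵖ) (m : ((jP (O.over U)).obj G).obj W), m = 0 := by
    intro W m
    let x := mι ((jP (O.over U)).obj G) (op W.unop.left) W.unop.hom m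
    have h0 : ((adjP O).unit.app ((oLan O U).obj ((jP (O.over U)).obj G))).app (op W.unop.left) x =
        ((adjP O).unit.app ((oLan O U).obj ((jP (O.over U)).obj G))).app (op W.unop.left) 0 :=
      (ModuleCat.subsingleton_of_isZero
        ((PresheafOfModules.evaluation _ (op W.unop.left)).map_isZero ((jP O).map_isZero h'))).elim _ _
    have hS := Presheaf.equalizerSieve_mem J
      ((PresheafOfModules.toPresheaf _).map
        ((adjP O).unit.app ((oLan O U).obj ((jP (O.over U)).obj G)))) x 0 h0
    refine Presheaf.IsSheaf.isSeparated G.isSheaf W.unop _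
      (GrothendieckTopology.overEquiv_symm_mem_over J W.unop _ hS) m 0 ?_
    intro Z g hg
    rw [Sieve.overEquiv_symm_iff] at hg
    have hx : oLanMap ((jP (O.over U)).obj G) g.left.op x = 0 := by
      refine Eq.trans hg ?_
      exact map_zero (oLanMap ((jP (O.over U)).obj G) g.left.op).hom
    rw [oLanMap_mι] at hx
    have hinj : Mono (mι ((jP (O.over U)).obj G) (op Z.left) (g.left ≫ W.unop.hom)) := inferInstance
    have h1 : ((jP (O.over U)).obj G).map
        (Over.homMk (U := Over.mk (g.left ≫ W.unop.hom)) (V := Over.mk W.unop.hom) g.left rfl).op m = 0 :=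
      ((ModuleCat.mono_iff_injective _).1 hinj) (hx.trans (map_zero _).symm)
    have hk : ∀ (a : Z.left ⟶ U) (ha : g.left ≫ W.unop.hom = a),
        ((jP (O.over U)).obj G).map
          (Over.homMk (U := Over.mk a) (V := Over.mk W.unop.hom) g.left ha).op m = 0 := by
      rintro a rfl
      exact h1
    show ((jP (O.over U)).obj G).map g.op m = ((jP (O.over U)).obj G).map g.op 0
    rw [map_zero]
    exact hk Z.hom (Over.w g)
  rw [IsZero.iff_id_eq_zero]
  apply SheafOfModules.hom_ext
  ext W : 1
  ext m
  exact key W m

lemma exact_of_exact_map_extZero' (S : ShortComplex (ModSite.Mod (O.over U)))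
    (h : (S.map (ModSite.extZero O U)).Exact) : S.Exact := by
  haveI := preservesHomology_extZero O U
  rw [ShortComplex.exact_iff_isZero_homology] at h ⊢
  exact isZero_of_isZero_extZero (h.of_iso (S.mapHomologyIso (ModSite.extZero O U)).symm)

lemma mono_of_mono_map_extZero {G G' : ModSite.Mod (O.over U)} (f : G ⟶ G')
    [Mono ((ModSite.extZero O U).map f)] : Mono f := by
  haveI := preservesHomology_extZero O U
  have h : ((ShortComplex.mk (0 : G ⟶ G) f zero_comp).map (ModSite.extZero O U)).Exact :=
    ((ShortComplex.mk (0 : G ⟶ G) f zero_comp).map (ModSite.extZero O U)).exact_iff_mono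
      (Functor.map_zero _ _ _) |>.2 ‹_›
  exact (ShortComplex.exact_iff_mono _ rfl).1 (exact_of_exact_map_extZero' _ h)

end ModSiteLib
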