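import Groth.Agent.ModSiteLib.TensorSheaf
import Mathlib.Algebra.Category.ModuleCat.Sheaf.ChangeOfRings
import Mathlib.Algebra.Category.ModuleCat.Sheaf.PushforwardContinuous
import Mathlib.CategoryTheory.Sites.CoverLifting

/-!
# Colimits of sheaves of modules are computed on underlying abelian sheaves
-/

set_option autoImplicit false

universe u

open CategoryTheory Limits

namespace ModSiteLib

variable {C : Type u} [SmallCategory C] {J : GrothendieckTopology C} (R : Sheaf J RingCat.{u})

instance toSheaf_preservesColimits :
    PreservesColimitsOfSize.{u, u} (SheafOfModules.toSheaf.{u} R) := by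
  let adj := PresheafOfModules.sheafificationAdjunction.{u} (𝟙 R.obj)
  have : IsIso adj.counit := inferInstance
  have : PreservesColimitsOfSize.{u, u} (presheafToSheaf J AddCommGrpCat.{u}) :=
    (CategoryTheory.sheafificationAdjunction J AddCommGrpCat.{u}).leftAdjoint_preservesColimits
  let T := PresheafOfModules.toPresheaf.{u} R.obj ⋙ presheafToSheaf J AddCommGrpCat.{u}
  have hT : ∀ P, IsIso (T.map (adj.unit.app P)) := fun P =>
    (J.W_iff _).1 (J.W_toSheafify (A := AddCommGrpCat.{u}) P.presheaf)
  refine ⟨fun {K} _ => ?_⟩
  have := preservesColimitsOfShape_comp_of_inverts_unit adj T (Jc := K) hT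
  exact preservesColimitsOfShape_of_natIso
    (F := (SheafOfModules.forget R ⋙ PresheafOfModules.restrictScalars (𝟙 R.obj)) ⋙ T)
    (Functor.isoWhiskerRight (asIso adj.counit) (SheafOfModules.toSheaf R))

instance toSheaf_reflectsColimits :
    ReflectsColimitsOfSize.{u, u} (SheafOfModules.toSheaf.{u} R) :=
  reflectsColimits_of_reflectsIsomorphisms

instance toSheaf_preservesLimits :
    PreservesLimitsOfSize.{u, u} (SheafOfModules.toSheaf.{u} R) := by
  have : PreservesLimitsOfSize.{u, u}
      (SheafOfModules.toSheaf.{u} R ⋙ sheafToPresheaf J AddCommGrpCat.{u}) :=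
    inferInstanceAs (PreservesLimitsOfSize.{u, u}
      (SheafOfModules.forget.{u} R ⋙ PresheafOfModules.toPresheaf R.obj))
  exact preservesLimits_of_reflects_of_preserves _ (sheafToPresheaf J AddCommGrpCat.{u})

instance toSheaf_reflectsLimits :
    ReflectsLimitsOfSize.{u, u} (SheafOfModules.toSheaf.{u} R) :=
  reflectsLimits_of_reflectsIsomorphisms

variable {R}

/-- A functor between categories of sheaves of modules is cocontinuous if it is so on underlying
abelian sheaves. -/
lemma preservesColimits_of_comp_toSheaf {D : Type u} [SmallCategory D] {K : GrothendieckTopology D}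
    {S : Sheaf K RingCat.{u}} (G : SheafOfModules.{u} R ⥤ SheafOfModules.{u} S)
    [PreservesColimitsOfSize.{u, u} (G ⋙ SheafOfModules.toSheaf S)] :
    PreservesColimitsOfSize.{u, u} G :=
  preservesColimits_of_reflects_of_preserves G (SheafOfModules.toSheaf S)

lemma isLeftAdjoint_of_preservesColimits {D : Type u} [SmallCategory D] {K : GrothendieckTopology D}
    {S : Sheaf K RingCat.{u}} (G : SheafOfModules.{u} R ⥤ SheafOfModules.{u} S)
    [PreservesColimitsOfSize.{u, u} G] : G.IsLeftAdjoint := by
  have : WellPowered.{u} (SheafOfModules.{u} R)ᵒᵖ :=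
    @Abelian.wellPowered_opposite _ _ _ _
      (IsGrothendieckAbelian.wellPowered.{u} (SheafOfModules.{u} R))
  exact isLeftAdjoint_of_preservesColimits_of_isSeparating (freeShs_isSeparating R) _

lemma restrictScalars_preserves {A B : Sheaf J RingCat.{u}} (φ : A ⟶ B) :
    PreservesLimitsOfSize.{u, u} (SheafOfModules.restrictScalars.{u} φ) ∧
    PreservesColimitsOfSize.{u, u} (SheafOfModules.restrictScalars.{u} φ) ∧
    (SheafOfModules.restrictScalars.{u} φ).ReflectsIsomorphisms := by
  let e : SheafOfModules.restrictScalars.{u} φ ⋙ SheafOfModules.toSheaf A ≅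
      SheafOfModules.toSheaf B := Iso.refl _
  refine ⟨?_, ?_, ?_⟩
  · have := preservesLimits_of_natIso e.symm
    exact preservesLimits_of_reflects_of_preserves _ (SheafOfModules.toSheaf A)
  · have := preservesColimits_of_natIso e.symm
    exact preservesColimits_of_comp_toSheaf _
  · have := reflectsIsomorphisms_of_iso e.symm
    exact reflectsIsomorphisms_of_comp _ (SheafOfModules.toSheaf A)

/-- Precomposition with a continuous cocontinuous functor, with restriction of scalars, is a left
adjoint on sheaves of modules. -/
lemma pushforward_isLeftAdjoint_of_isCocontinuous {C D : Type u} [SmallCategory C] [SmallCategory D]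
    {J : GrothendieckTopology C} {K : GrothendieckTopology D} (F : C ⥤ D) [F.IsContinuous J K]
    [F.IsCocontinuous J K] {S : Sheaf J RingCat.{u}} {R : Sheaf K RingCat.{u}}
    (φ : S ⟶ (F.sheafPushforwardContinuous RingCat.{u} J K).obj R) :
    (SheafOfModules.pushforward.{u} φ).IsLeftAdjoint := by
  have : PreservesColimitsOfSize.{u, u} (F.sheafPushforwardContinuous AddCommGrpCat.{u} J K) :=
    (F.sheafAdjunctionCocontinuous AddCommGrpCat.{u} J K).leftAdjoint_preservesColimits
  let e : SheafOfModules.pushforward.{u} φ ⋙ SheafOfModules.toSheaf S ≅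
      SheafOfModules.toSheaf R ⋙ F.sheafPushforwardContinuous AddCommGrpCat.{u} J K := Iso.refl _
  have := preservesColimits_of_natIso e.symm
  have := preservesColimits_of_comp_toSheaf (SheafOfModules.pushforward.{u} φ)
  exact isLeftAdjoint_of_preservesColimits _

end ModSiteLib
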