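import Groth.Prelude.Def_ModSite
import Groth.Agent.ModSiteLib.TensorSheaf
import Mathlib.CategoryTheory.Limits.FunctorCategory.Basic

/-!
# Flat sheaves of modules: symmetry of the tensor product and direct sums
-/

set_option autoImplicit false

universe u

open CategoryTheory Limits MonoidalCategory

namespace ModSiteLib

variable {C : Type u} [SmallCategory C] {J : GrothendieckTopology C} (O : Sheaf J CommRingCat.{u})

/-- The symmetry `X ⊗ F ≅ F ⊗ X` of the tensor product of sheaves of modules. -/
noncomputable def tensorFlipIso (F : ModSite.Mod O) :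
    (ModSite.tensorBi O).flip.obj F ≅ (ModSite.tensorBi O).obj F :=
  let e₁ : jP O ⋙ tensorRight ((jP O).obj F) ⋙ aP O ≅ (ModSite.tensorBi O).flip.obj F :=
    NatIso.ofComponents (fun M => Iso.refl _)
  let e₂ : jP O ⋙ tensorLeft ((jP O).obj F) ⋙ aP O ≅ (ModSite.tensorBi O).obj F :=
    NatIso.ofComponents (fun M => Iso.refl _)
  e₁.symm ≪≫ Functor.isoWhiskerLeft (jP O) (Functor.isoWhiskerRight
    (BraidedCategory.tensorLeftIsoTensorRight ((jP O).obj F)).symm (aP O)) ≪≫ e₂

lemma preservesColimits_tensor_flip (F : ModSite.Mod O) :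
    PreservesColimitsOfSize.{u, u} ((ModSite.tensorBi O).flip.obj F) := by
  have := hasSheafHom O F
  exact (Adjunction.ofIsLeftAdjoint _).leftAdjoint_preservesColimits

lemma preservesColimits_tensor (F : ModSite.Mod O) :
    PreservesColimitsOfSize.{u, u} ((ModSite.tensorBi O).obj F) := by
  have := preservesColimits_tensor_flip O F
  exact preservesColimits_of_natIso (tensorFlipIso O F)

lemma preservesFiniteColimits_tensor_flip (F : ModSite.Mod O) :
    PreservesFiniteColimits ((ModSite.tensorBi O).flip.obj F) := by
  have := preservesColimits_tensor_flip O F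
  exact PreservesColimitsOfSize.preservesFiniteColimits _

variable {O}

/-- Flatness is left exactness of tensoring. -/
lemma isFlat_of_preservesFiniteLimits {F : ModSite.Mod O}
    (h : PreservesFiniteLimits ((ModSite.tensorBi O).flip.obj F)) : ModSite.IsFlat F :=
  ⟨h, preservesFiniteColimits_tensor_flip O F⟩

/-- A colimit of flat modules over a diagram with exact colimits is flat. -/
lemma isFlat_of_isColimit {K : Type u} [SmallCategory K]
    [HasExactColimitsOfShape K (ModSite.Mod O)] (D : K ⥤ ModSite.Mod O)
    (hD : ∀ k, ModSite.IsFlat (D.obj k)) {c : Cocone D} (hc : IsColimit c) :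
    ModSite.IsFlat c.pt := by
  refine isFlat_of_preservesFiniteLimits ?_
  let T := (ModSite.tensorBi O).flip
  have hT : IsColimit (T.mapCocone c) :=
    evaluationJointlyReflectsColimits _ (fun X =>
      have := preservesColimits_tensor O X
      isColimitOfPreserves ((ModSite.tensorBi O).obj X) hc)
  let e : T.obj c.pt ≅ (D ⋙ T).flip ⋙ colim :=
    hT.coconePointUniqueUpToIso (colimit.isColimit _) ≪≫ colimitIsoFlipCompColim _
  have : PreservesFiniteLimits (D ⋙ T).flip := ⟨fun I _ _ =>
    preservesLimitsOfShape_of_evaluation _ I (fun k =>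
      have : PreservesFiniteLimits (T.obj (D.obj k)) := (hD k).1
      (inferInstanceAs (PreservesLimitsOfShape I (T.obj (D.obj k)))))⟩
  have : PreservesFiniteLimits (colim : (K ⥤ ModSite.Mod O) ⥤ ModSite.Mod O) :=
    HasExactColimitsOfShape.preservesFiniteLimits
  have := comp_preservesFiniteLimits (D ⋙ T).flip colim
  exact preservesFiniteLimits_of_natIso e.symm

lemma isFlat_cofan {ι : Type u} (F : ι → ModSite.Mod O) (hF : ∀ i, ModSite.IsFlat (F i))
    (c : Cofan F) (hc : IsColimit c) : ModSite.IsFlat c.pt := by
  have : HasExactColimitsOfShape (Discrete ι) (ModSite.Mod O) := AB4OfSize.ofShape ι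
  exact isFlat_of_isColimit (Discrete.functor F) (fun i => hF i.as) hc

end ModSiteLib
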