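import Groth.Agent.ModSiteLib.FreeOn
import Groth.Agent.ModSiteLib.Flat
import Mathlib.RingTheory.Flat.CategoryTheory

/-!
# Free modules are flat, and every module is a quotient of a flat one
-/

set_option autoImplicit false

universe u

open CategoryTheory Limits MonoidalCategory Opposite

namespace ModSiteLib

variable {C : Type u} [SmallCategory C]

/-- Tensoring with a sectionwise flat presheaf of modules is left exact. -/
lemma presheaf_tensorRight_preservesFiniteLimits {R : Cᵒᵖ ⥤ CommRingCat.{u}}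
    (F : PresheafOfModules.{u} (R ⋙ forget₂ CommRingCat.{u} RingCat.{u}))
    (hF : ∀ X : Cᵒᵖ, Module.Flat (R.obj X) (F.obj X)) :
    PreservesFiniteLimits (tensorRight F) := by
  refine ⟨fun I _ _ => ⟨fun {K} => ⟨fun {c} hc => ⟨?_⟩⟩⟩⟩
  refine PresheafOfModules.evaluationJointlyReflectsLimits _ _ (fun X => ?_)
  have := hF X
  have : PreservesFiniteLimits (tensorRight (show ModuleCat (R.obj X) from F.obj X)) :=
    (Module.Flat.iff_preservesFiniteLimits_tensorRight _).1 (hF X)
  exact isLimitOfPreserves (tensorRight (show ModuleCat (R.obj X) from F.obj X))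
    (isLimitOfPreserves (PresheafOfModules.evaluation _ X) hc)

variable {J : GrothendieckTopology C} (O : Sheaf J CommRingCat.{u})

lemma preservesFiniteLimits_tensorSh (P : PMod O) (hP : ∀ X, Module.Flat (O.obj.obj X) (P.obj X)) :
    PreservesFiniteLimits (jP O ⋙ tensorSh O P) := by
  have := presheaf_tensorRight_preservesFiniteLimits P hP
  have : PreservesFiniteLimits (aP O) :=
    inferInstanceAs (PreservesFiniteLimits (PresheafOfModules.sheafification.{u}
      (𝟙 (ModSite.ringSh O).obj)))
  have : PreservesLimitsOfSize.{0, 0} (jP O) := (adjP O).rightAdjoint_preservesLimits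
  have : PreservesFiniteLimits (jP O) := PreservesLimitsOfSize.preservesFiniteLimits _
  have : PreservesFiniteLimits (tensorSh O P) := comp_preservesFiniteLimits (tensorRight P) (aP O)
  exact comp_preservesFiniteLimits (jP O) (tensorSh O P)

/-- `G ⊗ a(P) ≅ a(G ⊗ P)`. -/
noncomputable def tensorSheafifyIso (P : PMod O) :
    jP O ⋙ tensorSh O P ≅ (ModSite.tensorBi O).flip.obj ((aP O).obj P) :=
  let η : tensorRight P ⟶ tensorRight ((jP O).obj ((aP O).obj P)) :=
    { app := fun G => G ◁ (adjP O).unit.app P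
      naturality := fun G G' a => (MonoidalCategory.whisker_exchange a _).symm }
  have : ∀ G, IsIso (((Functor.whiskerRight η (aP O))).app G) := fun G => by
    change IsIso ((aP O).map (G ◁ (adjP O).unit.app P))
    have := isIso_tensorSh_map O G _ (W_unit O P)
    have e : G ◁ (adjP O).unit.app P =
        (β_ G _).hom ≫ ((adjP O).unit.app P ▷ G) ≫ (β_ G _).inv := by
      rw [← BraidedCategory.braiding_naturality_right_assoc, Iso.hom_inv_id, Category.comp_id]
    have : IsIso ((aP O).map ((adjP O).unit.app P ▷ G)) := this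
    rw [e, Functor.map_comp, Functor.map_comp]
    infer_instance
  let e₁ : jP O ⋙ tensorSh O ((jP O).obj ((aP O).obj P)) ≅
      (ModSite.tensorBi O).flip.obj ((aP O).obj P) :=
    NatIso.ofComponents (fun M => Iso.refl _)
  Functor.isoWhiskerLeft (jP O) (NatIso.ofComponents (fun G => @asIso _ _ _ _ _ (this G))
    (fun a => (Functor.whiskerRight η (aP O)).naturality a)) ≪≫ e₁

lemma isFlat_sheafify (P : PMod O) (hP : ∀ X, Module.Flat (O.obj.obj X) (P.obj X)) :
    ModSite.IsFlat ((aP O).obj P) := by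
  have := preservesFiniteLimits_tensorSh O P hP
  exact isFlat_of_preservesFiniteLimits (preservesFiniteLimits_of_natIso (tensorSheafifyIso O P))

lemma isFlat_of_iso {M N : ModSite.Mod O} (e : M ≅ N) (h : ModSite.IsFlat M) : ModSite.IsFlat N := by
  have := h.1
  exact isFlat_of_preservesFiniteLimits
    (preservesFiniteLimits_of_natIso ((ModSite.tensorBi O).flip.mapIso e))

/-- The free presheaf of modules on a representable. -/
noncomputable abbrev freeY (X : C) : PMod O :=
  (PresheafOfModules.free (O.obj ⋙ forget₂ CommRingCat.{u} RingCat.{u})).obj (yoneda.obj X)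

lemma freeY_flat (X : C) (V : Cᵒᵖ) : Module.Flat (O.obj.obj V) ((freeY O X).obj V) := by
  have : Module.Free (O.obj.obj V) ((freeY O X).obj V) :=
    inferInstanceAs (Module.Free (O.obj.obj V) ((V.unop ⟶ X) →₀ O.obj.obj V))
  infer_instance

/-- `j_{X!} O_X` is the sheafification of the free presheaf on the representable. -/
noncomputable def freeOnIso (X : C) : (aP O).obj (freeY O X) ≅ ModSite.freeOn O X :=
  isoOfHomEquiv (fun M => (((adjP O).homEquiv (freeY O X) M).trans
      (PresheafOfModules.freeYonedaEquiv (M := (jP O).obj M) (X := X))).trans (freeOnEquiv M X).symm)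
    (fun {M N} a p => by
      apply (freeOnEquiv N X).injective
      rw [freeOnEquiv_comp]
      refine ((freeOnEquiv N X).apply_symm_apply _).trans ?_
      refine Eq.trans ?_ (congrArg _ ((freeOnEquiv M X).apply_symm_apply _).symm)
      change PresheafOfModules.freeYonedaEquiv ((adjP O).homEquiv _ N (a ≫ p)) = _
      rw [Adjunction.homEquiv_naturality_right, PresheafOfModules.freeYonedaEquiv_comp]
      rfl)

lemma isFlat_freeOn (X : C) : ModSite.IsFlat (ModSite.freeOn O X) :=
  isFlat_of_iso O (freeOnIso O X) (isFlat_sheafify O _ (freeY_flat O X))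

/-- The free module on all sections of `F`, with its map to `F`. -/
lemma exists_epi_of_isFlat (F : ModSite.Mod O) :
    ∃ (G : ModSite.Mod O) (π : G ⟶ F), ModSite.IsFlat G ∧ Epi π := by
  let ι := Σ X : C, F.val.obj (op X)
  let f : ι → ModSite.Mod O := fun i => ModSite.freeOn O i.1
  refine ⟨∐ f, Sigma.desc (fun i => (freeOnEquiv F i.1).symm i.2),
    isFlat_cofan f (fun i => isFlat_freeOn O i.1) _ (coproductIsCoproduct f), ⟨fun {Z} g h e => ?_⟩⟩
  apply freeOn_isSeparating O Set.univ (fun X => ⟨PUnit, fun _ => X, fun _ => 𝟙 X, by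
    convert J.top_mem X
    ext Y q
    simp only [Sieve.top_apply, iff_true]
    exact ⟨_, q, 𝟙 X, ⟨PUnit.unit⟩, Category.comp_id q⟩, fun _ => Set.mem_univ _⟩)
  rintro _ ⟨X⟩ a
  have := congrArg (fun t => Sigma.ι f ⟨X, freeOnEquiv F X a⟩ ≫ t) e
  simpa [f] using this

end ModSiteLib

namespace ModSiteLib

variable {C : Type u} [SmallCategory C] {J : GrothendieckTopology C} (O : Sheaf J CommRingCat.{u})

/-- `(G ⊗ F) ⊗ F' ≅ G ⊗ (F ⊗ F')` for presheaves, naturally in `G`. -/
noncomputable def tensorRightCompIso (P P' : PMod O) :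
    tensorRight P ⋙ tensorRight P' ≅ tensorRight (P ⊗ P') :=
  NatIso.ofComponents (fun G => α_ G P P') (fun a => associator_naturality_left a P P')

/-- `(G ⊗ F) ⊗ F' ≅ G ⊗ (F ⊗ F')`, naturally in `G`. -/
noncomputable def tensorAssocIso (F F' : ModSite.Mod O) :
    (jP O ⋙ tensorSh O ((jP O).obj F)) ⋙ (jP O ⋙ tensorSh O ((jP O).obj F')) ≅
      jP O ⋙ tensorSh O ((jP O).obj F ⊗ (jP O).obj F') :=
  let T' := tensorSh O ((jP O).obj F')
  let u : T' ≅ (aP O ⋙ jP O) ⋙ T' :=
    NatIso.ofComponents (fun Z => @asIso _ _ _ _ (T'.map ((adjP O).unit.app Z))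
      (isIso_tensorSh_map O _ _ (W_unit O Z)))
      (fun a => (Functor.whiskerRight (adjP O).unit T').naturality a)
  let e₁ : (jP O ⋙ tensorSh O ((jP O).obj F)) ⋙ (jP O ⋙ T') ≅
      (jP O ⋙ tensorRight ((jP O).obj F)) ⋙ ((aP O ⋙ jP O) ⋙ T') :=
    NatIso.ofComponents (fun _ => Iso.refl _)
  let e₂ : (jP O ⋙ tensorRight ((jP O).obj F)) ⋙ T' ≅
      jP O ⋙ (tensorRight ((jP O).obj F) ⋙ tensorRight ((jP O).obj F')) ⋙ aP O :=
    NatIso.ofComponents (fun _ => Iso.refl _)
  e₁ ≪≫ Functor.isoWhiskerLeft _ u.symm ≪≫ e₂ ≪≫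
    Functor.isoWhiskerLeft (jP O) (Functor.isoWhiskerRight (tensorRightCompIso O _ _) (aP O))

lemma isFlat_tensor {F F' : ModSite.Mod O} (hF : ModSite.IsFlat F) (hF' : ModSite.IsFlat F') :
    ModSite.IsFlat (((ModSite.tensorBi O).obj F).obj F') := by
  have e : ∀ M : ModSite.Mod O, jP O ⋙ tensorSh O ((jP O).obj M) ≅
      (ModSite.tensorBi O).flip.obj M := fun M => NatIso.ofComponents (fun X => Iso.refl _)
  have := hF.1
  have := hF'.1
  have : PreservesFiniteLimits (jP O ⋙ tensorSh O ((jP O).obj F)) :=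
    preservesFiniteLimits_of_natIso (e F).symm
  have : PreservesFiniteLimits (jP O ⋙ tensorSh O ((jP O).obj F')) :=
    preservesFiniteLimits_of_natIso (e F').symm
  have : PreservesFiniteLimits ((jP O ⋙ tensorSh O ((jP O).obj F)) ⋙
      (jP O ⋙ tensorSh O ((jP O).obj F'))) := comp_preservesFiniteLimits _ _
  have := preservesFiniteLimits_of_natIso
    (tensorAssocIso O F F' ≪≫ tensorSheafifyIso O ((jP O).obj F ⊗ (jP O).obj F'))
  exact isFlat_of_preservesFiniteLimits this

end ModSiteLib
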