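/-
Short exact sequences with flat quotient stay exact after tensoring.
-/
import Groth.Agent.ModSiteLib.FlatFree
import Groth.Prelude.Def_KFlatSite
import Mathlib.CategoryTheory.Abelian.Refinements
import Mathlib.Algebra.Homology.ShortComplex.ExactFunctor

set_option autoImplicit false
set_option linter.unusedSectionVars false
set_option linter.style.haveILetI false

universe v u

open CategoryTheory Limits

namespace Groth.Agent.ModSiteLib.FlatExact

section Abstract

variable {A : Type u} [Category.{v} A] [Abelian A] (T : A ⥤ A ⥤ A) [T.Additive]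
  [∀ X, (T.obj X).Additive] [∀ Z, (T.flip.obj Z).Additive]
  [∀ Z, PreservesFiniteColimits (T.flip.obj Z)] [∀ X, PreservesFiniteColimits (T.obj X)]

theorem exact_and_epi_map (F : A ⥤ A) [F.Additive] [PreservesFiniteColimits F] {S : ShortComplex A}
    (hS : S.ShortExact) : (S.map F).Exact ∧ Epi (S.map F).g :=
  (S.map F).exact_and_epi_g_iff_g_is_cokernel.2
    ⟨CokernelCofork.mapIsColimit _ hS.gIsCokernel F⟩

/-- If the quotient is flat, tensoring with anything covered by a flat object keeps the first map mono. -/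
theorem mono_map_app {S : ShortComplex A} (hS : S.ShortExact)
    [(T.obj S.X₃).PreservesMonomorphisms] {G P : A} (π : P ⟶ G) [Epi π]
    [(T.flip.obj P).PreservesMonomorphisms] : Mono ((T.map S.f).app G) := by
  let Sπ : ShortComplex A := ShortComplex.mk (kernel.ι π) π (kernel.condition π)
  have hπ : Sπ.ShortExact := { exact := ShortComplex.exact_kernel π }
  haveI : Mono S.f := hS.mono_f
  haveI : Mono ((T.map S.f).app P) := (T.flip.obj P).map_mono S.f
  haveI : Mono ((T.obj S.X₃).map Sπ.f) := (T.obj S.X₃).map_mono (kernel.ι π)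
  refine Preadditive.mono_of_cancel_zero _ fun {W} x hx => ?_
  haveI : Epi ((T.obj S.X₁).map π) := (exact_and_epi_map (T.obj S.X₁) hπ).2
  obtain ⟨W₁, e₁, he₁, y, hy⟩ := surjective_up_to_refinements_of_epi ((T.obj S.X₁).map π) x
  obtain ⟨W₂, e₂, he₂, z, hz⟩ := (exact_and_epi_map (T.obj S.X₂) hπ).1.exact_up_to_refinements
    (y ≫ (T.map S.f).app P) (by
      show (y ≫ (T.map S.f).app P) ≫ (T.obj S.X₂).map π = 0
      rw [Category.assoc, ← (T.map S.f).naturality, ← Category.assoc, ← hy, Category.assoc, hx,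
        comp_zero])
  obtain ⟨z', hz⟩ : ∃ z' : W₂ ⟶ (T.obj S.X₂).obj (kernel π),
      e₂ ≫ y ≫ (T.map S.f).app P = z' ≫ (T.obj S.X₂).map (kernel.ι π) := ⟨z, hz⟩
  have hzg : z' ≫ (T.map S.g).app (kernel π) = 0 := by
    rw [← cancel_mono ((T.obj S.X₃).map (kernel.ι π)), zero_comp, Category.assoc,
      ← (T.map S.g).naturality, ← Category.assoc, ← hz]
    simp only [Category.assoc, ← NatTrans.comp_app, ← T.map_comp, S.zero]
    simp
  obtain ⟨W₃, e₃, he₃, w, hw⟩ := (exact_and_epi_map (T.flip.obj (kernel π)) hS).1.exact_up_to_refinements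
    z' hzg
  obtain ⟨w', hw⟩ : ∃ w' : W₃ ⟶ (T.obj S.X₁).obj (kernel π),
      e₃ ≫ z' = w' ≫ (T.map S.f).app (kernel π) := ⟨w, hw⟩
  have key : e₃ ≫ e₂ ≫ y = w' ≫ (T.obj S.X₁).map (kernel.ι π) := by
    rw [← cancel_mono ((T.map S.f).app P)]
    simp only [Category.assoc, (T.map S.f).naturality]
    rw [hz, ← Category.assoc, hw, Category.assoc]
  rw [← cancel_epi e₁, ← cancel_epi e₂, ← cancel_epi e₃, comp_zero, comp_zero, comp_zero, hy,
    reassoc_of% key, ← Functor.map_comp, kernel.condition, Functor.map_zero, comp_zero]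

/-- The tensored sequence is short exact. -/
theorem shortExact_map {S : ShortComplex A} (hS : S.ShortExact)
    [(T.obj S.X₃).PreservesMonomorphisms] {G P : A} (π : P ⟶ G) [Epi π]
    [(T.flip.obj P).PreservesMonomorphisms] : (S.map (T.flip.obj G)).ShortExact :=
  { exact := (exact_and_epi_map (T.flip.obj G) hS).1
    mono_f := mono_map_app T hS π
    epi_g := (exact_and_epi_map (T.flip.obj G) hS).2 }

end Abstract

end Groth.Agent.ModSiteLib.FlatExact

namespace ModSiteLib

variable {C : Type u} [SmallCategory C] {J : GrothendieckTopology C} (O : Sheaf J CommRingCat.{u})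

instance preservesFiniteColimits_tensorBi_obj (F : ModSite.Mod O) :
    PreservesFiniteColimits ((ModSite.tensorBi O).obj F) :=
  haveI := preservesColimits_tensor O F
  PreservesColimitsOfSize.preservesFiniteColimits _

instance preservesFiniteColimits_tensorBi_flip_obj (F : ModSite.Mod O) :
    PreservesFiniteColimits ((ModSite.tensorBi O).flip.obj F) :=
  preservesFiniteColimits_tensor_flip O F

instance additive_tensorBi_flip_obj (F : ModSite.Mod O) : ((ModSite.tensorBi O).flip.obj F).Additive :=
  Functor.additive_of_iso (tensorFlipIso O F).symm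

variable {O}

theorem preservesMono_flip_of_isFlat {F : ModSite.Mod O} (h : ModSite.IsFlat F) :
    ((ModSite.tensorBi O).flip.obj F).PreservesMonomorphisms :=
  haveI := h.1
  inferInstance

theorem preservesMono_of_isFlat {F : ModSite.Mod O} (h : ModSite.IsFlat F) :
    ((ModSite.tensorBi O).obj F).PreservesMonomorphisms :=
  haveI := h.1
  haveI := preservesFiniteLimits_of_natIso (tensorFlipIso O F)
  inferInstance

theorem isFlat_of_preservesMono {F : ModSite.Mod O}
    (h : ((ModSite.tensorBi O).flip.obj F).PreservesMonomorphisms) : ModSite.IsFlat F :=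
  haveI := h
  haveI : ((ModSite.tensorBi O).flip.obj F).PreservesHomology :=
    Functor.preservesHomology_of_preservesMonos_and_cokernels _
  isFlat_of_preservesFiniteLimits (Functor.preservesFiniteLimits_of_preservesHomology _)

/-- Tensoring a short exact sequence with flat quotient. -/
theorem shortExact_tensor {S : ShortComplex (ModSite.Mod O)} (hS : S.ShortExact)
    (hF : ModSite.IsFlat S.X₃) (G : ModSite.Mod O) :
    (S.map ((ModSite.tensorBi O).flip.obj G)).ShortExact := by
  obtain ⟨P, π, hP, hπ⟩ := exists_epi_of_isFlat O G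
  haveI := preservesMono_flip_of_isFlat hP
  haveI := preservesMono_of_isFlat hF
  haveI := hπ
  exact Groth.Agent.ModSiteLib.FlatExact.shortExact_map (ModSite.tensorBi O) hS π

/-- Extensions of flat modules are flat. -/
theorem isFlat_X₂ {S : ShortComplex (ModSite.Mod O)} (hS : S.ShortExact)
    (h₁ : ModSite.IsFlat S.X₁) (h₃ : ModSite.IsFlat S.X₃) : ModSite.IsFlat S.X₂ := by
  refine isFlat_of_preservesMono ⟨fun {G' G} f _ => ?_⟩
  have e := fun H => shortExact_tensor hS h₃ H
  haveI := preservesMono_flip_of_isFlat h₁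
  haveI := preservesMono_flip_of_isFlat h₃
  let φ : (ShortComplex.map S ((ModSite.tensorBi O).flip.obj G')) ⟶ S.map ((ModSite.tensorBi O).flip.obj G) :=
    S.mapNatTrans ((ModSite.tensorBi O).flip.map f)
  haveI : Mono φ.τ₁ := by
    haveI := preservesMono_of_isFlat h₁
    exact inferInstanceAs (Mono (((ModSite.tensorBi O).obj S.X₁).map f))
  haveI : Mono φ.τ₃ := by
    haveI := preservesMono_of_isFlat h₃
    exact inferInstanceAs (Mono (((ModSite.tensorBi O).obj S.X₃).map f))
  haveI : Mono φ.τ₂ := @ShortComplex.mono_τ₂_of_exact_of_mono _ _ _ _ _ _ φ (e G').exact (e G').mono_f (e G).mono_f ‹Mono φ.τ₁› ‹Mono φ.τ₃›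
  haveI : Mono (((ModSite.tensorBi O).obj S.X₂).map f) := ‹Mono φ.τ₂›
  have h := (tensorFlipIso O S.X₂).hom.naturality f
  haveI : Mono (((ModSite.tensorBi O).flip.obj S.X₂).map f ≫ (tensorFlipIso O S.X₂).hom.app G) := by
    rw [h]; infer_instance
  exact mono_of_mono _ ((tensorFlipIso O S.X₂).hom.app G)

/-- Kernels of epimorphisms of flat modules are flat. -/
theorem isFlat_X₁ {S : ShortComplex (ModSite.Mod O)} (hS : S.ShortExact)
    (h₂ : ModSite.IsFlat S.X₂) (h₃ : ModSite.IsFlat S.X₃) : ModSite.IsFlat S.X₁ := by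
  refine isFlat_of_preservesMono ⟨fun {G' G} f _ => ?_⟩
  have e := fun H => shortExact_tensor hS h₃ H
  let φ : (ShortComplex.map S ((ModSite.tensorBi O).flip.obj G')) ⟶ S.map ((ModSite.tensorBi O).flip.obj G) :=
    S.mapNatTrans ((ModSite.tensorBi O).flip.map f)
  haveI : Mono φ.τ₂ := by
    haveI := preservesMono_of_isFlat h₂
    exact inferInstanceAs (Mono (((ModSite.tensorBi O).obj S.X₂).map f))
  haveI : Mono (S.map ((ModSite.tensorBi O).flip.obj G')).f := (e G').mono_f
  haveI : Mono (φ.τ₁ ≫ (S.map ((ModSite.tensorBi O).flip.obj G)).f) :=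
    φ.comm₁₂.symm ▸ mono_comp' (e G').mono_f ‹Mono φ.τ₂›
  haveI : Mono (((ModSite.tensorBi O).obj S.X₁).map f) := mono_of_mono φ.τ₁ (S.map ((ModSite.tensorBi O).flip.obj G)).f
  have h := (tensorFlipIso O S.X₁).hom.naturality f
  haveI : Mono (((ModSite.tensorBi O).flip.obj S.X₁).map f ≫ (tensorFlipIso O S.X₁).hom.app G) := by
    rw [h]; infer_instance
  exact mono_of_mono _ ((tensorFlipIso O S.X₁).hom.app G)

end ModSiteLib
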