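/-
Totalisation of a bifunctor: colimits and monomorphisms.
-/
import Groth.Agent.KFlatLib.Generic
import Mathlib.CategoryTheory.Abelian.GrothendieckAxioms.Basic
import Mathlib.CategoryTheory.Abelian.GrothendieckAxioms.Colim
import Mathlib.Algebra.Homology.HomologicalComplexLimits

set_option autoImplicit false
set_option linter.unusedSectionVars false
set_option linter.style.haveILetI false

open CategoryTheory CategoryTheory.Limits HomologicalComplex KFlatLib

universe w w' v₁ v₂ v₃ u₁ u₂ u₃

namespace Groth.Agent.ModSiteLib.BimapExact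

variable {A₁ : Type u₁} {A₂ : Type u₂} {B : Type u₃} [Category.{v₁} A₁] [Category.{v₂} A₂]
  [Category.{v₃} B] [Abelian A₁] [Abelian A₂] [Abelian B] (F : A₁ ⥤ A₂ ⥤ B) [F.Additive]
  [∀ X, (F.obj X).Additive]
  [∀ (K₁ : CochainComplex A₁ ℤ) (K₂ : CochainComplex A₂ ℤ),
    HasMapBifunctor K₁ K₂ F (ComplexShape.up ℤ)] (E : CochainComplex A₂ ℤ)

section Colim

variable {J : Type w} [Category.{w'} J] (K : J ⥤ CochainComplex A₁ ℤ) {c : Cocone K} (hc : IsColimit c)
  [HasColimitsOfShape J A₁] [∀ Y, PreservesColimitsOfShape J (F.flip.obj Y)]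

/-- The summand `(p, q)` of a mapped colimit is a colimit. -/
noncomputable def isColimitSummand (p q : ℤ) :
    IsColimit ((F.flip.obj (E.X q)).mapCocone ((eval A₁ (ComplexShape.up ℤ) p).mapCocone c)) :=
  isColimitOfPreserves _ (isColimitOfPreserves (eval A₁ (ComplexShape.up ℤ) p) hc)

/-- A cocone under the total complexes gives one under each summand. -/
noncomputable abbrev summandCocone (n : ℤ)
    (s : Cocone ((K ⋙ bimap₁ F E) ⋙ eval B (ComplexShape.up ℤ) n)) (p q : ℤ) (h : p + q = n) :
    Cocone ((K ⋙ eval A₁ (ComplexShape.up ℤ) p) ⋙ F.flip.obj (E.X q)) where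
  pt := s.pt
  ι :=
    { app := fun j => ιMapBifunctor (K.obj j) E F (ComplexShape.up ℤ) p q n h ≫ s.ι.app j
      naturality := fun i j f => by
        show (F.map ((K.map f).f p)).app (E.X q) ≫ _ = _ ≫ 𝟙 _
        rw [Category.comp_id]
        refine (Category.assoc _ _ _).symm.trans
          ((congrArg (· ≫ _) (ι_bimap₁_map F E (K.map f) p q n h).symm).trans ?_)
        exact (Category.assoc _ _ _).trans (congrArg (_ ≫ ·) (s.w f)) }

/-- Totalisation preserves colimits preserved by the bifunctor in the first variable. -/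
noncomputable def isColimitBimap₁ : IsColimit ((bimap₁ F E).mapCocone c) :=
  isColimitOfEval _ _ fun n =>
  { desc := fun s => mapBifunctorDesc fun p q h =>
      (isColimitSummand F E K hc p q).desc (summandCocone F E K n s p q h)
    fac := fun s j => mapBifunctor.hom_ext fun p q h => by
      refine ((Category.assoc _ _ _).symm.trans
        (congrArg (· ≫ _) (ι_bimap₁_map F E (c.ι.app j) p q n h))).trans ?_
      refine (Category.assoc _ _ _).trans ((congrArg (_ ≫ ·) (ι_mapBifunctorDesc _ p q h)).trans ?_)
      exact (isColimitSummand F E K hc p q).fac (summandCocone F E K n s p q h) j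
    uniq := fun s m hm => mapBifunctor.hom_ext fun p q h => by
      refine (isColimitSummand F E K hc p q).hom_ext fun j => ?_
      refine Eq.trans ?_ ((congrArg (_ ≫ ·) (ι_mapBifunctorDesc _ p q h)).trans
        ((isColimitSummand F E K hc p q).fac (summandCocone F E K n s p q h) j)).symm
      show (F.map ((c.ι.app j).f p)).app (E.X q) ≫ _ = _
      refine (Category.assoc _ _ _).symm.trans
        ((congrArg (· ≫ _) (ι_bimap₁_map F E (c.ι.app j) p q n h).symm).trans ?_)
      exact (Category.assoc _ _ _).trans (congrArg (_ ≫ ·) (hm j)) }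

theorem preservesColimitsOfShape : PreservesColimitsOfShape J (bimap₁ F E) :=
  ⟨fun {K} => ⟨fun hc => ⟨isColimitBimap₁ F E K hc⟩⟩⟩

end Colim

variable [HasCoproducts.{0} B] [AB4OfSize.{0} B]

/-- Totalisation of a map which is mono on all summands is mono. -/
theorem mono_map {K K' : CochainComplex A₁ ℤ} (g : K ⟶ K')
    (hg : ∀ p q, Mono ((F.map (g.f p)).app (E.X q))) : Mono ((bimap₁ F E).map g) := by
  haveI : ∀ n, Mono (((bimap₁ F E).map g).f n) := fun n => by
    let X := (((F.mapBifunctorHomologicalComplex _ _).obj K).obj E).toGradedObject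
    let X' := (((F.mapBifunctorHomologicalComplex _ _).obj K').obj E).toGradedObject
    let π := ComplexShape.π (ComplexShape.up ℤ) (ComplexShape.up ℤ) (ComplexShape.up ℤ)
    let I := π ⁻¹' {n}
    let η : Discrete.functor (X.mapObjFun π n) ⟶ Discrete.functor (X'.mapObjFun π n) :=
      Discrete.natTrans fun i => (F.map (g.f i.as.1.1)).app (E.X i.as.1.2)
    haveI : ∀ i, Mono (η.app i) := fun i => hg _ _
    haveI : Mono η := NatTrans.mono_of_mono_app _
    haveI : HasExactColimitsOfShape (Discrete I) B := AB4OfSize.ofShape _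
    haveI : Mono (colimMap η) := (colim (J := Discrete I) (C := B)).map_mono η
    let e := IsColimit.coconePointUniqueUpToIso (colimit.isColimit _) (X.isColimitCofanMapObj π n)
    let e' := IsColimit.coconePointUniqueUpToIso (colimit.isColimit _) (X'.isColimitCofanMapObj π n)
    have h : e.inv ≫ colimMap η ≫ e'.hom = ((bimap₁ F E).map g).f n := by
      rw [Iso.inv_comp_eq]
      refine colimit.hom_ext fun i => ?_
      rw [ι_colimMap_assoc, colimit.comp_coconePointUniqueUpToIso_hom,
        colimit.comp_coconePointUniqueUpToIso_hom_assoc]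
      exact (ι_bimap₁_map F E g i.as.1.1 i.as.1.2 n i.as.2).symm
    exact h ▸ mono_comp' inferInstance (mono_comp' ‹Mono (colimMap η)› inferInstance)
  exact HomologicalComplex.mono_of_mono_f _ inferInstance

section Single

variable (M : A₁) [HasZeroObject A₁]

/-- The inclusion of the only nonzero summand of the total complex of a module in degree zero. -/
noncomputable def singleMap (n : ℤ) : (F.obj M).obj (E.X n) ⟶
    (mapBifunctor ((single A₁ (ComplexShape.up ℤ) 0).obj M) E F (ComplexShape.up ℤ)).X n :=
  (F.map (singleObjXSelf (ComplexShape.up ℤ) 0 M).inv).app (E.X n) ≫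
    ιMapBifunctor _ E F (ComplexShape.up ℤ) 0 n n (zero_add n)

instance isIso_singleMap (n : ℤ) : IsIso (singleMap F E M n) := by
  have hz : ∀ p q, p ≠ 0 →
      IsZero ((F.obj (((single A₁ (ComplexShape.up ℤ) 0).obj M).X p)).obj (E.X q)) :=
    fun p q hp => (F.flip.obj (E.X q)).map_isZero (isZero_single_obj_X (ComplexShape.up ℤ) 0 M p hp)
  let r : (mapBifunctor ((single A₁ (ComplexShape.up ℤ) 0).obj M) E F (ComplexShape.up ℤ)).X n ⟶
      (F.obj M).obj (E.X n) :=
    mapBifunctorDesc fun p q h => if hp : p = 0 then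
      (F.map (((((single A₁ (ComplexShape.up ℤ) 0).obj M).XIsoOfEq hp).hom) ≫
        (singleObjXSelf (ComplexShape.up ℤ) 0 M).hom)).app (E.X q) ≫
        (F.obj M).map (E.XIsoOfEq (show q = n by have : p + q = n := h; omega)).hom
      else 0
  refine ⟨r, ?_, mapBifunctor.hom_ext fun p q h => ?_⟩
  · rw [singleMap, Category.assoc, ι_mapBifunctorDesc, dif_pos rfl]
    simp only [XIsoOfEq_rfl, Iso.refl_hom, Category.id_comp, CategoryTheory.Functor.map_id,
      Category.comp_id, ← NatTrans.comp_app, ← F.map_comp, Iso.inv_hom_id]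
    rfl
  · by_cases hp : p = 0
    · subst hp
      obtain rfl : q = n := by have : 0 + q = n := h; omega
      rw [Category.comp_id, ← Category.assoc, ι_mapBifunctorDesc, dif_pos rfl, singleMap]
      simp only [XIsoOfEq_rfl, Iso.refl_hom, Category.id_comp, CategoryTheory.Functor.map_id,
        Category.comp_id, ← Category.assoc, ← NatTrans.comp_app, ← F.map_comp, Iso.hom_inv_id]
      simp
    · exact (hz p q hp).eq_of_src _ _

/-- The total complex of a module in degree zero. -/
noncomputable def singleIso : ((F.obj M).mapHomologicalComplex (ComplexShape.up ℤ)).obj E ≅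
    mapBifunctor ((single A₁ (ComplexShape.up ℤ) 0).obj M) E F (ComplexShape.up ℤ) :=
  HomologicalComplex.Hom.isoOfComponents (fun n => @asIso _ _ _ _ (singleMap F E M n) (isIso_singleMap F E M n)) (fun n n' hn => by
    have hn' : n + 1 = n' := hn
    show singleMap F E M n ≫ _ = (F.obj M).map (E.d n n') ≫ singleMap F E M n'
    rw [singleMap, singleMap, Category.assoc, mapBifunctor.d_eq, Preadditive.comp_add,
      mapBifunctor.ι_D₁, mapBifunctor.ι_D₂,
      mapBifunctor.d₁_eq _ _ _ _ (rfl : (ComplexShape.up ℤ).Rel 0 (0 + 1)) n n'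
        (show 0 + 1 + n = n' by omega),
      mapBifunctor.d₂_eq _ _ _ _ 0 (hn : (ComplexShape.up ℤ).Rel n n') n'
        (show 0 + n' = n' by omega)]
    simp only [single_obj_d, F.map_zero, NatTrans.app_zero, zero_comp, smul_zero, zero_add]
    rw [show (ComplexShape.ε₂ (ComplexShape.up ℤ) (ComplexShape.up ℤ) (ComplexShape.up ℤ) (0, n) : ℤˣ) = 1
      from Int.negOnePow_zero, one_smul, ← Category.assoc, ← Category.assoc]
    congr 1
    exact ((F.map (singleObjXSelf (ComplexShape.up ℤ) 0 M).inv).naturality (E.d n n')).symm)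

end Single

end Groth.Agent.ModSiteLib.BimapExact
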