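/-
K-flat complexes of modules on a ringed site.
-/
import Groth.Agent.ModSiteLib.BimapExact
import Groth.Agent.ModSiteLib.FlatExact
import Groth.Agent.ModSiteLib.Grothendieck
import Groth.Agent.KFlatLib.TotalMap
import Groth.Agent.FreeResLib.Colimit
import Groth.Prelude.Def_KFlatSite
import Mathlib.Algebra.Homology.BifunctorFlip
import Mathlib.Algebra.Homology.BifunctorShift
import Mathlib.Algebra.Homology.HomotopyCategory.DegreewiseSplit
import Mathlib.Algebra.Homology.HomotopyCategory.ShiftSequence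

set_option autoImplicit false
set_option linter.unusedSectionVars false
set_option linter.style.haveILetI false

universe u

open CategoryTheory CategoryTheory.Limits HomologicalComplex MonoidalCategory KFlatLib
open CochainComplex (mappingCone)

namespace ModSiteLib

variable {C : Type u} [SmallCategory C] {J : GrothendieckTopology C} {O : Sheaf J CommRingCat.{u}}

variable (O) in
/-- The symmetry of the tensor product. -/
noncomputable def symX (a b : ModSite.Mod O) :
    ((ModSite.tensorBi O).obj a).obj b ≅ ((ModSite.tensorBi O).flip.obj a).obj b :=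
  (aP O).mapIso (β_ ((jP O).obj a) ((jP O).obj b))

theorem symX₁ {a a' : ModSite.Mod O} (f : a ⟶ a') (b : ModSite.Mod O) :
    ((ModSite.tensorBi O).map f).app b ≫ (symX O a' b).hom =
      (symX O a b).hom ≫ ((ModSite.tensorBi O).flip.map f).app b := by
  show (aP O).map ((jP O).map f ▷ ((jP O).obj b)) ≫ (aP O).map _ =
    (aP O).map _ ≫ (aP O).map (((jP O).obj b) ◁ (jP O).map f)
  rw [← Functor.map_comp, ← Functor.map_comp]
  exact congrArg _ (BraidedCategory.braiding_naturality_left _ _)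

theorem symX₂ (a : ModSite.Mod O) {b b' : ModSite.Mod O} (g : b ⟶ b') :
    ((ModSite.tensorBi O).obj a).map g ≫ (symX O a b').hom =
      (symX O a b).hom ≫ ((ModSite.tensorBi O).flip.obj a).map g := by
  show (aP O).map (((jP O).obj a) ◁ (jP O).map g) ≫ (aP O).map _ =
    (aP O).map _ ≫ (aP O).map ((jP O).map g ▷ ((jP O).obj a))
  rw [← Functor.map_comp, ← Functor.map_comp]
  exact congrArg _ (BraidedCategory.braiding_naturality_right _ _)

variable (O) in
/-- Tensoring on the right with `E`. -/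
noncomputable abbrev tF (E : CochainComplex (ModSite.Mod O) ℤ) :
    CochainComplex (ModSite.Mod O) ℤ ⥤ CochainComplex (ModSite.Mod O) ℤ :=
  bimap₁ (ModSite.tensorBi O) E

variable (O) in
/-- The symmetry of the tensor product of complexes. -/
noncomputable def symCx (K L : CochainComplex (ModSite.Mod O) ℤ) :
    (tF O K).obj L ≅ (tF O L).obj K :=
  totalMapIso (ModSite.tensorBi O).flip (ModSite.tensorBi O) (𝟭 _) (𝟭 _) (𝟭 _)
    (fun a b => symX O a b) (fun f b => symX₁ f b) (fun a _ _ g => symX₂ a g) L K ≪≫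
  mapBifunctorFlipIso K L (ModSite.tensorBi O) (ComplexShape.up ℤ)

/-- Acyclic complexes. -/
abbrev Acy {A : Type*} [Category* A] [Abelian A] (K : CochainComplex A ℤ) : Prop :=
  ∀ i : ℤ, IsZero (K.homology i)

theorem acy_of_iso {A : Type*} [Category* A] [Abelian A] {K L : CochainComplex A ℤ} (e : K ≅ L)
    (h : Acy K) : Acy L :=
  fun i => (h i).of_iso ((homologyFunctor A _ i).mapIso e).symm

theorem acy_shift {A : Type*} [Category* A] [Abelian A] {K : CochainComplex A ℤ} (h : Acy K) (n : ℤ) :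
    Acy (K⟦n⟧) := fun i =>
  (h (n + i)).of_iso (((HomologicalComplex.homologyFunctor A (ComplexShape.up ℤ) 0).shiftIso
    n i (n + i) rfl).app K)

theorem acy_three {A : Type*} [Category* A] [Abelian A] {S : ShortComplex (CochainComplex A ℤ)}
    (hS : S.ShortExact) :
    (Acy S.X₁ → Acy S.X₂ → Acy S.X₃) ∧ (Acy S.X₁ → Acy S.X₃ → Acy S.X₂) ∧
      (Acy S.X₂ → Acy S.X₃ → Acy S.X₁) :=
  ⟨fun h₁ h₂ i => (hS.homology_exact₃ i (i + 1) (by simp)).isZero_of_both_zeros
      ((h₂ i).eq_of_src _ _) ((h₁ (i + 1)).eq_of_tgt _ _),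
    fun h₁ h₃ i => (hS.homology_exact₂ i).isZero_of_both_zeros
      ((h₁ i).eq_of_src _ _) ((h₃ i).eq_of_tgt _ _),
    fun h₂ h₃ i => (hS.homology_exact₁ (i - 1) i (by simp)).isZero_of_both_zeros
      ((h₃ (i - 1)).eq_of_src _ _) ((h₂ i).eq_of_tgt _ _)⟩

theorem acy_acyclic {A : Type*} [Category* A] [Abelian A] {K : CochainComplex A ℤ} :
    K.Acyclic ↔ Acy K := forall_congr' fun i => exactAt_iff_isZero_homology K i

theorem isKFlat_iff (K : CochainComplex (ModSite.Mod O) ℤ) :
    ModSite.IsKFlat K ↔ ∀ E, Acy E → Acy ((tF O E).obj K) :=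
  ⟨fun h E hE => acy_of_iso (symCx O K E) (h E hE), fun h E hE => acy_of_iso (symCx O E K) (h E hE)⟩

theorem isKFlat_of_iso {K L : CochainComplex (ModSite.Mod O) ℤ} (e : K ≅ L) (h : ModSite.IsKFlat K) :
    ModSite.IsKFlat L :=
  (isKFlat_iff L).2 fun E hE => acy_of_iso ((tF O E).mapIso e) ((isKFlat_iff K).1 h E hE)

/-- Two out of three for sequences which stay exact after tensoring. -/
theorem isKFlat_three (S : ShortComplex (CochainComplex (ModSite.Mod O) ℤ))
    (hS : ∀ E, (S.map (tF O E)).ShortExact) :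
    (ModSite.IsKFlat S.X₁ → ModSite.IsKFlat S.X₂ → ModSite.IsKFlat S.X₃) ∧
      (ModSite.IsKFlat S.X₁ → ModSite.IsKFlat S.X₃ → ModSite.IsKFlat S.X₂) ∧
      (ModSite.IsKFlat S.X₂ → ModSite.IsKFlat S.X₃ → ModSite.IsKFlat S.X₁) := by
  refine ⟨fun h h' => (isKFlat_iff _).2 fun E hE => ?_, fun h h' => (isKFlat_iff _).2 fun E hE => ?_,
    fun h h' => (isKFlat_iff _).2 fun E hE => ?_⟩
  · exact (acy_three (hS E)).1 ((isKFlat_iff _).1 h E hE) ((isKFlat_iff _).1 h' E hE)
  · exact (acy_three (hS E)).2.1 ((isKFlat_iff _).1 h E hE) ((isKFlat_iff _).1 h' E hE)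
  · exact (acy_three (hS E)).2.2 ((isKFlat_iff _).1 h E hE) ((isKFlat_iff _).1 h' E hE)

theorem shortExact_tF_of_degSplit {S : ShortComplex (CochainComplex (ModSite.Mod O) ℤ)} (h : DegSplit S)
    (E : CochainComplex (ModSite.Mod O) ℤ) : (S.map (tF O E)).ShortExact :=
  shortExact_of_degSplit (degSplitBimap₁ (ModSite.tensorBi O) E h)

theorem preservesColimitsOfShape_tF (J' : Type*) [Category* J'] [HasColimitsOfShape J' (ModSite.Mod O)]
    [∀ Y, PreservesColimitsOfShape J' ((ModSite.tensorBi O).flip.obj Y)]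
    (E : CochainComplex (ModSite.Mod O) ℤ) : PreservesColimitsOfShape J' (tF O E) :=
  Groth.Agent.ModSiteLib.BimapExact.preservesColimitsOfShape (ModSite.tensorBi O) E

instance preservesColimitsOfSize_zero_tensor_flip (Y : ModSite.Mod O) :
    PreservesColimitsOfSize.{0, 0} ((ModSite.tensorBi O).flip.obj Y) :=
  haveI := preservesColimits_tensor_flip O Y
  preservesColimitsOfSize_shrink.{0, u, 0, u} _

instance hasCoproducts_zero : HasCoproducts.{0} (ModSite.Mod O) :=
  fun I => ModSite.hasColimitsOfShape_discrete O I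

instance ab4_zero : AB4OfSize.{0} (ModSite.Mod O) :=
  haveI : AB4OfSize.{u} (ModSite.Mod O) := IsGrothendieckAbelian.ab4OfSize.{u} _
  AB4OfSize_shrink.{0, u} _

/-- Sequences with termwise flat quotient stay exact after tensoring. -/
theorem shortExact_tF_of_flat {S : ShortComplex (CochainComplex (ModSite.Mod O) ℤ)} (hS : S.ShortExact)
    (h₃ : ∀ n, ModSite.IsFlat (S.X₃.X n)) (E : CochainComplex (ModSite.Mod O) ℤ) :
    (S.map (tF O E)).ShortExact := by
  haveI : PreservesFiniteColimits (tF O E) :=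
    ⟨fun J' _ _ => preservesColimitsOfShape_tF J' E⟩
  obtain ⟨hex, hepi⟩ := Groth.Agent.ModSiteLib.FlatExact.exact_and_epi_map (tF O E) hS
  exact
    { exact := hex
      mono_f := Groth.Agent.ModSiteLib.BimapExact.mono_map (ModSite.tensorBi O) E S.f fun p q =>
        (shortExact_tensor ((shortExact_iff_degreewise_shortExact S).1 hS p) (h₃ p) (E.X q)).mono_f
      epi_g := hepi }

theorem isKFlat_of_contractible {K : CochainComplex (ModSite.Mod O) ℤ} (h : Homotopy (𝟙 K) 0) :
    ModSite.IsKFlat K :=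
  (isKFlat_iff K).2 fun E _ =>
    isZero_homology_of_contractible (contractibleBimap₁ (ModSite.tensorBi O) E h)

theorem isKFlat_of_isZero {K : CochainComplex (ModSite.Mod O) ℤ} (h : IsZero K) : ModSite.IsKFlat K :=
  isKFlat_of_contractible (Homotopy.ofEq (h.eq_of_src _ _))

theorem isKFlat_shift {K : CochainComplex (ModSite.Mod O) ℤ} (h : ModSite.IsKFlat K) (n : ℤ) :
    ModSite.IsKFlat (K⟦n⟧) :=
  (isKFlat_iff _).2 fun E hE => acy_of_iso
    (CochainComplex.mapBifunctorShift₁Iso K E (ModSite.tensorBi O) n).symm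
    (acy_shift ((isKFlat_iff K).1 h E hE) n)

theorem isKFlat_of_shift {K : CochainComplex (ModSite.Mod O) ℤ} (n : ℤ) (h : ModSite.IsKFlat (K⟦n⟧)) :
    ModSite.IsKFlat K :=
  isKFlat_of_iso ((shiftEquiv (CochainComplex (ModSite.Mod O) ℤ) n).unitIso.app K).symm
    (isKFlat_shift h (-n))

/-- Two out of three for mapping cones. -/
theorem isKFlat_cone_three {P Q : CochainComplex (ModSite.Mod O) ℤ} (φ : P ⟶ Q) :
    (ModSite.IsKFlat P → ModSite.IsKFlat Q → ModSite.IsKFlat (mappingCone φ)) ∧
      (ModSite.IsKFlat P → ModSite.IsKFlat (mappingCone φ) → ModSite.IsKFlat Q) ∧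
      (ModSite.IsKFlat Q → ModSite.IsKFlat (mappingCone φ) → ModSite.IsKFlat P) := by
  let S := CochainComplex.mappingCone.triangleRotateShortComplex φ
  have h : DegSplit S := CochainComplex.mappingCone.triangleRotateShortComplexSplitting φ
  obtain ⟨t₁, t₂, t₃⟩ := isKFlat_three S (shortExact_tF_of_degSplit h)
  exact ⟨fun hP hQ => t₂ hQ (isKFlat_shift hP 1),
    fun hP hc => t₃ hc (isKFlat_shift hP 1),
    fun hQ hc => isKFlat_of_shift 1 (t₁ hQ hc)⟩

theorem isKFlat_biprod {P Q : CochainComplex (ModSite.Mod O) ℤ} (hP : ModSite.IsKFlat P)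
    (hQ : ModSite.IsKFlat Q) : ModSite.IsKFlat (P ⊞ Q) :=
  (isKFlat_three (ShortComplex.mk (biprod.inl : P ⟶ P ⊞ Q) biprod.snd biprod.inl_snd)
    (shortExact_tF_of_degSplit fun n => ShortComplex.Splitting.map
      { r := biprod.fst, s := biprod.inr, f_r := biprod.inl_fst, s_g := biprod.inr_snd,
        id := biprod.total } (eval (ModSite.Mod O) (ComplexShape.up ℤ) n))).2.1 hP hQ

theorem acy_map_of_isFlat {M : ModSite.Mod O} (hM : ModSite.IsFlat M)
    {E : CochainComplex (ModSite.Mod O) ℤ} (hE : Acy E) :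
    Acy ((((ModSite.tensorBi O).obj M).mapHomologicalComplex (ComplexShape.up ℤ)).obj E) := fun i => by
  haveI := hM.1
  haveI := preservesFiniteLimits_of_natIso (tensorFlipIso O M)
  exact (((ModSite.tensorBi O).obj M).map_isZero (hE i)).of_iso
    ((E.sc i).mapHomologyIso ((ModSite.tensorBi O).obj M))

theorem isKFlat_single {M : ModSite.Mod O} (hM : ModSite.IsFlat M) (j : ℤ) :
    ModSite.IsKFlat ((CochainComplex.singleFunctor (ModSite.Mod O) j).obj M) := by
  have h0 : ModSite.IsKFlat ((CochainComplex.singleFunctor (ModSite.Mod O) 0).obj M) :=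
    (isKFlat_iff _).2 fun E hE => acy_of_iso
      (Groth.Agent.ModSiteLib.BimapExact.singleIso (ModSite.tensorBi O) E M) (acy_map_of_isFlat hM hE)
  exact isKFlat_of_iso (((CochainComplex.singleFunctors (ModSite.Mod O)).shiftIso (-j) j 0
    (by omega)).app M) (isKFlat_shift h0 (-j))

/-- Exact colimits of K-flat complexes are K-flat. -/
theorem isKFlat_of_isColimit (J' : Type*) [Category* J'] [HasColimitsOfShape J' (ModSite.Mod O)]
    [∀ Y, PreservesColimitsOfShape J' ((ModSite.tensorBi O).flip.obj Y)]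
    [HasExactColimitsOfShape J' (ModSite.Mod O)]
    (K : J' ⥤ CochainComplex (ModSite.Mod O) ℤ) {c : Cocone K} (hc : IsColimit c)
    (h : ∀ j, ModSite.IsKFlat (K.obj j)) : ModSite.IsKFlat c.pt :=
  (isKFlat_iff _).2 fun E hE i => by
    haveI := preservesColimitsOfShape_tF J' E
    have hH := Groth.Agent.FreeResLib.isColimitHomology (K ⋙ tF O E) (isColimitOfPreserves (tF O E) hc) i
    exact (IsZero.iff_id_eq_zero _).2 (hH.hom_ext fun j =>
      ((isKFlat_iff _).1 (h j) E hE i).eq_of_src _ _)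

end ModSiteLib
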