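/-
Associativity of the tensor product of complexes of modules on a ringed site.
-/
import Groth.Agent.ModSiteLib.KFlatCx
import Groth.Agent.ModSiteLib.FlatExact
import Mathlib.Algebra.Homology.BifunctorAssociator

set_option autoImplicit false
set_option linter.style.haveILetI false
set_option linter.unusedSimpArgs false

universe u

open CategoryTheory Limits MonoidalCategory HomologicalComplex

namespace Groth.Agent.ModSiteLib.TensorAssoc

universe v₁ v₂ u₁ u₂

variable {A : Type u₁} [Category.{v₁} A] [MonoidalCategory A] {B : Type u₂} [Category.{v₂} B]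
  (j : B ⥤ A) (a : A ⥤ B)

/-- The bifunctor induced by the tensor product. -/
abbrev tB : B ⥤ B ⥤ B :=
  j ⋙ curriedTensor A ⋙ (Functor.whiskeringLeft _ _ _).obj j ⋙ (Functor.whiskeringRight _ _ _).obj a

variable (η : 𝟭 A ⟶ a ⋙ j) (hr : ∀ P Q, IsIso (a.map (η.app P ▷ Q)))
  (hl : ∀ P Q, IsIso (a.map (P ◁ η.app Q)))

/-- Associativity. -/
noncomputable def assocIso (x y z : B) :
    a.obj (j.obj (a.obj (j.obj x ⊗ j.obj y)) ⊗ j.obj z) ≅
      a.obj (j.obj x ⊗ j.obj (a.obj (j.obj y ⊗ j.obj z))) :=
  (@asIso _ _ _ _ _ (hr (j.obj x ⊗ j.obj y) (j.obj z))).symm ≪≫ a.mapIso (α_ _ _ _) ≪≫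
    @asIso _ _ _ _ _ (hl (j.obj x) (j.obj y ⊗ j.obj z))

theorem assocIso_natural {x x' y y' z z' : B} (f : x ⟶ x') (g : y ⟶ y') (k : z ⟶ z') :
    a.map (j.map (a.map (j.map f ⊗ₘ j.map g)) ⊗ₘ j.map k) ≫ (assocIso j a η hr hl x' y' z').hom =
      (assocIso j a η hr hl x y z).hom ≫
        a.map (j.map f ⊗ₘ j.map (a.map (j.map g ⊗ₘ j.map k))) := by
  haveI := hr
  haveI := hl
  have e : ∀ {P Q : A} (m : P ⟶ Q), η.app P ≫ j.map (a.map m) = m ≫ η.app Q := fun m =>
    (η.naturality m).symm
  simp only [assocIso, Iso.trans_hom, Iso.symm_hom, asIso_inv, asIso_hom, Functor.mapIso_hom,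
    Category.assoc]
  rw [IsIso.eq_inv_comp, ← Category.assoc, ← a.map_comp,
    show η.app (j.obj x ⊗ j.obj y) ▷ j.obj z ≫ (j.map (a.map (j.map f ⊗ₘ j.map g)) ⊗ₘ j.map k) =
      ((j.map f ⊗ₘ j.map g) ⊗ₘ j.map k) ≫ η.app (j.obj x' ⊗ j.obj y') ▷ j.obj z' by
      rw [← tensorHom_id, ← tensorHom_id, tensorHom_comp_tensorHom, tensorHom_comp_tensorHom]
      simp [e]
    , a.map_comp, Category.assoc, IsIso.hom_inv_id_assoc, ← a.map_comp_assoc, associator_naturality,
    a.map_comp_assoc]
  congr 1
  rw [← a.map_comp, ← a.map_comp, ← id_tensorHom, ← id_tensorHom, tensorHom_comp_tensorHom,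
    tensorHom_comp_tensorHom]
  simp [e]

/-- The associator. -/
noncomputable def assocNat : bifunctorComp₁₂ (tB j a) (tB j a) ≅ bifunctorComp₂₃ (tB j a) (tB j a) :=
  NatIso.ofComponents (fun x => NatIso.ofComponents (fun y => NatIso.ofComponents
      (fun z => assocIso j a η hr hl x y z)
      (fun k => by
        have e := assocIso_natural j a η hr hl (𝟙 x) (𝟙 y) k
        simp only [CategoryTheory.Functor.map_id, id_tensorHom, tensorHom_id, whiskerLeft_id, id_whiskerRight] at e
        exact e))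
      (fun g => by
        ext z : 2
        have e := assocIso_natural j a η hr hl (𝟙 x) g (𝟙 z)
        simp only [CategoryTheory.Functor.map_id, id_tensorHom, tensorHom_id, whiskerLeft_id, id_whiskerRight] at e
        exact e))
    (fun f => by
      ext y z : 4
      have e := assocIso_natural j a η hr hl f (𝟙 y) (𝟙 z)
      simp only [CategoryTheory.Functor.map_id, id_tensorHom, tensorHom_id, whiskerLeft_id, id_whiskerRight] at e
      exact e)

end Groth.Agent.ModSiteLib.TensorAssoc

namespace ModSiteLib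

variable {C : Type u} [SmallCategory C] {J : GrothendieckTopology C} {O : Sheaf J CommRingCat.{u}}

theorem isIso_aP_unit_right' (P Q : PMod O) : IsIso ((aP O).map ((adjP O).unit.app P ▷ Q)) :=
  isIso_tensorSh_map O Q _ (W_unit O P)

theorem isIso_aP_unit_left' (P Q : PMod O) : IsIso ((aP O).map (P ◁ (adjP O).unit.app Q)) := by
  have e : P ◁ (adjP O).unit.app Q =
      (β_ P _).hom ≫ ((adjP O).unit.app Q ▷ P) ≫ (β_ P _).inv := by
    rw [← BraidedCategory.braiding_naturality_right_assoc, Iso.hom_inv_id, Category.comp_id]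
  haveI : IsIso ((aP O).map ((adjP O).unit.app Q ▷ P)) := isIso_tensorSh_map O P _ (W_unit O Q)
  rw [e, Functor.map_comp, Functor.map_comp]
  infer_instance

variable (O) in
/-- The unit of sheafification. -/
noncomputable def shUnit : 𝟭 (ModSite.preMod O) ⟶ ModSite.shPre O ⋙ ModSite.toPre O := (adjP O).unit

variable (O) in
/-- The associator of the tensor product. -/
noncomputable def assocBi :
    bifunctorComp₁₂ (ModSite.tensorBi O) (ModSite.tensorBi O) ≅
      bifunctorComp₂₃ (ModSite.tensorBi O) (ModSite.tensorBi O) :=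
  Groth.Agent.ModSiteLib.TensorAssoc.assocNat (ModSite.toPre O) (ModSite.shPre O) (shUnit O)
    (fun P Q => isIso_aP_unit_right' P Q) (fun P Q => isIso_aP_unit_left' P Q)

instance preservesColimitsOfSize_zero_tensor (Y : ModSite.Mod O) :
    PreservesColimitsOfSize.{0, 0} ((ModSite.tensorBi O).obj Y) :=
  haveI := preservesColimits_tensor O Y
  preservesColimitsOfSize_shrink.{0, u, 0, u} _

theorem isKFlat_tensorCx' {K L : CochainComplex (ModSite.Mod O) ℤ} (hK : ModSite.IsKFlat K)
    (hL : ModSite.IsKFlat L) : ModSite.IsKFlat (((ModSite.tensorCx O).obj K).obj L) := by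
  intro F hF
  let T := ModSite.tensorBi O
  let u := ComplexShape.up ℤ
  haveI h₁₂ : HasGoodTrifunctor₁₂Obj T T F K L u u :=
    fun i j => (inferInstance : PreservesColimitsOfShape _ ((Functor.flip T).obj (L.X j))).preservesColimit
  haveI h₂₃ : HasGoodTrifunctor₂₃Obj T T F K L u u u :=
    fun i j => (inferInstance : PreservesColimitsOfShape _ (T.obj (F.X i))).preservesColimit
  exact acy_of_iso (mapBifunctorAssociator (assocBi O) F K L u u u) (hL _ (hK F hF))

end ModSiteLib
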