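/-
A transformation of cocontinuous functors which is invertible on generators is invertible.
-/
import Mathlib.CategoryTheory.Abelian.Basic
import Mathlib.CategoryTheory.Preadditive.AdditiveFunctor
import Mathlib.CategoryTheory.Limits.Preserves.Shapes.Kernels
import Mathlib.CategoryTheory.Preadditive.Biproducts
import Mathlib.CategoryTheory.Limits.Shapes.Products

set_option autoImplicit false
set_option linter.style.haveILetI false

universe w v v' u u'

open CategoryTheory Limits

namespace Groth.Agent.ModSiteLib.NatIsoGen

variable {A : Type u} [Category.{v} A] {B : Type u'} [Category.{v'} B] {L R : A ⥤ B} (τ : L ⟶ R)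

/-- A transformation invertible on a diagram is invertible on its colimit. -/
theorem isIso_app_of_isColimit' {J : Type*} [Category* J] {D : J ⥤ A} {c : Cocone D} (hc : IsColimit c)
    [PreservesColimit D L] [PreservesColimit D R] (h : ∀ j, IsIso (τ.app (D.obj j))) :
    IsIso (τ.app c.pt) := by
  haveI := h
  let e := IsColimit.coconePointsIsoOfNatIso (isColimitOfPreserves L hc) (isColimitOfPreserves R hc)
    (NatIso.ofComponents (fun j => asIso (τ.app (D.obj j))) (fun g => τ.naturality (D.map g)))
  have : e.hom = τ.app c.pt := (isColimitOfPreserves L hc).hom_ext fun j =>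
    (IsColimit.comp_coconePointsIsoOfNatIso_hom (isColimitOfPreserves L hc)
      (isColimitOfPreserves R hc) _ j).trans (τ.naturality (c.ι.app j)).symm
  rw [← this]
  infer_instance

/-- A transformation invertible on a separating family is invertible. -/
theorem isIso_app_of_separating [Abelian A] [HasCoproducts.{w} A] [Preadditive B]
    [L.Additive] [R.Additive] [PreservesColimitsOfSize.{w, w} L] [PreservesColimitsOfSize.{w, w} R]
    [PreservesFiniteColimits L] [PreservesFiniteColimits R]
    {ι : Type w} (G : ι → A) [∀ i M, Small.{w} (G i ⟶ M)]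
    (hG : ∀ ⦃M N : A⦄ (f g : M ⟶ N), (∀ i (a : G i ⟶ M), a ≫ f = a ≫ g) → f = g)
    (h : ∀ i, IsIso (τ.app (G i))) (M : A) : IsIso (τ.app M) := by
  let idx : A → Type w := fun M => Σ i, Shrink.{w} (G i ⟶ M)
  let cov : A → A := fun M => ∐ fun x : idx M => G x.1
  let π : ∀ M, cov M ⟶ M := fun M => Sigma.desc fun x => (equivShrink _).symm x.2
  haveI hπ : ∀ M, Epi (π M) := fun M => ⟨fun f g e => hG f g fun i a => by
    have hι : Sigma.ι (fun x : idx M => G x.1) ⟨i, equivShrink _ a⟩ ≫ π M = a :=
      (Sigma.ι_desc _ _).trans ((equivShrink _).symm_apply_apply a)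
    rw [← hι, Category.assoc, Category.assoc, e]⟩
  have hcov : ∀ M, IsIso (τ.app (cov M)) := fun M =>
    isIso_app_of_isColimit' τ (coproductIsCoproduct _) (fun ⟨x⟩ => h x.1)
  have hc := isCokernelEpiComp (Abelian.epiIsCokernelOfKernel _ (kernelIsKernel (π M)))
    (π (kernel (π M))) (hg := hπ _) rfl
  refine isIso_app_of_isColimit' τ hc fun j => ?_
  cases j
  · exact hcov _
  · exact hcov _

end Groth.Agent.ModSiteLib.NatIsoGen
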