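/-
Exact pullback of sheaves of sets and products of representables.
-/
import Mathlib.CategoryTheory.Sites.Pullback
import Mathlib.CategoryTheory.Limits.Shapes.FunctorToTypes
import Mathlib.CategoryTheory.Limits.Preserves.Shapes.BinaryProducts
import Mathlib.CategoryTheory.Sites.Sheafification
import Mathlib.CategoryTheory.Sites.LeftExact

set_option autoImplicit false
set_option linter.style.haveILetI false

universe u

open CategoryTheory Limits Opposite Functor

namespace Groth.Agent.ModSiteLib.SetPull

variable {C D : Type u} [SmallCategory C] [SmallCategory D] {J : GrothendieckTopology C}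
  {K : GrothendieckTopology D} (fn : D ⥤ C) [fn.IsContinuous K J]

/-- Maps out of the pullback of a sheafification. -/
noncomputable def eA (A : Dᵒᵖ ⥤ Type u) (P : Sheaf J (Type u)) :
    ((fn.sheafPullback (Type u) K J).obj ((presheafToSheaf K (Type u)).obj A) ⟶ P) ≃
      (A ⟶ fn.op ⋙ P.obj) :=
  ((fn.sheafAdjunctionContinuous (Type u) K J).homEquiv _ P).trans
    ((sheafificationAdjunction K (Type u)).homEquiv A _)

theorem eA_comp {A : Dᵒᵖ ⥤ Type u} {P Q : Sheaf J (Type u)}
    (h : (fn.sheafPullback (Type u) K J).obj ((presheafToSheaf K (Type u)).obj A) ⟶ P) (g : P ⟶ Q) :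
    eA fn A Q (h ≫ g) = eA fn A P h ≫ Functor.whiskerLeft fn.op g.hom := by
  exact (congrArg ((sheafificationAdjunction K (Type u)).homEquiv A _)
    ((fn.sheafAdjunctionContinuous (Type u) K J).homEquiv_naturality_right h g)).trans
    ((sheafificationAdjunction K (Type u)).homEquiv_naturality_right _ _)

theorem eA_pre {A A' : Dᵒᵖ ⥤ Type u} (a : A' ⟶ A) {P : Sheaf J (Type u)}
    (h : (fn.sheafPullback (Type u) K J).obj ((presheafToSheaf K (Type u)).obj A) ⟶ P) :
    eA fn A' P ((fn.sheafPullback (Type u) K J).map ((presheafToSheaf K (Type u)).map a) ≫ h) =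
      a ≫ eA fn A P h := by
  exact (congrArg ((sheafificationAdjunction K (Type u)).homEquiv A' _)
    ((fn.sheafAdjunctionContinuous (Type u) K J).homEquiv_naturality_left _ h)).trans
    ((sheafificationAdjunction K (Type u)).homEquiv_naturality_left _ _)

variable {A : Dᵒᵖ ⥤ Type u} {A' : Cᵒᵖ ⥤ Type u} (κ : A ⟶ fn.op ⋙ A')

variable (K) in
/-- The map out of the pullback attached to a map over `fn`. -/
noncomputable def comparison :
    (fn.sheafPullback (Type u) K J).obj ((presheafToSheaf K (Type u)).obj A) ⟶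
      (presheafToSheaf J (Type u)).obj A' :=
  (eA fn A _).symm (κ ≫ Functor.whiskerLeft fn.op ((sheafificationAdjunction J (Type u)).unit.app A'))

theorem eA_comparison_comp {P : Sheaf J (Type u)} (g : (presheafToSheaf J (Type u)).obj A' ⟶ P) :
    eA (K := K) fn A P (comparison K fn κ ≫ g) =
      κ ≫ Functor.whiskerLeft fn.op ((sheafificationAdjunction J (Type u)).homEquiv A' P g) := by
  rw [eA_comp, comparison, Equiv.apply_symm_apply, Adjunction.homEquiv_unit]
  rfl

/-- Restriction along `fn`. -/
def restrMap (P : Sheaf J (Type u)) (φ : A' ⟶ P.obj) : A ⟶ fn.op ⋙ P.obj :=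
  κ ≫ Functor.whiskerLeft fn.op φ

theorem isIso_comparison_iff :
    IsIso (comparison (J := J) K fn κ) ↔
      ∀ P : Sheaf J (Type u), Function.Bijective (restrMap fn κ P) := by
  have key : ∀ P : Sheaf J (Type u), (fun g => eA (K := K) fn A P (comparison K fn κ ≫ g)) =
      restrMap fn κ P ∘ (sheafificationAdjunction J (Type u)).homEquiv A' P := fun P =>
    funext fun g => eA_comparison_comp fn κ g
  constructor
  · intro h P
    refine (Function.Bijective.of_comp_iff _
      ((sheafificationAdjunction J (Type u)).homEquiv A' P).bijective).1 ?_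
    rw [← key]
    exact (eA fn A P).bijective.comp ((asIso (comparison K fn κ)).homFromEquiv.symm.bijective)
  · intro h
    refine isIso_of_coyoneda_map_bijective _ fun P => ?_
    refine (Function.Bijective.of_comp_iff' (eA fn A P).bijective _).1 ?_
    show Function.Bijective fun g => eA fn A P (comparison K fn κ ≫ g)
    rw [key]
    exact (h P).comp ((sheafificationAdjunction J (Type u)).homEquiv A' P).bijective

/-- The map of representables. -/
def κ₁ (X : D) : yoneda.obj X ⟶ fn.op ⋙ yoneda.obj (fn.obj X) where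
  app Z := ↾fun a => fn.map a
  naturality Z W g := by
    ext a
    exact fn.map_comp g.unop a

theorem bijective_restrMap_κ₁ (X : D) (P : Sheaf J (Type u)) :
    Function.Bijective (restrMap fn (κ₁ fn X) P) := by
  refine (Function.Bijective.of_comp_iff' yonedaEquiv.bijective _).1 ?_
  have e : ⇑(yonedaEquiv (F := fn.op ⋙ P.obj)) ∘ restrMap fn (κ₁ fn X) P =
      ⇑(yonedaEquiv (X := fn.obj X) (F := P.obj)) := funext fun φ => by
    show φ.app (op (fn.obj X)) (fn.map (𝟙 X)) = φ.app (op (fn.obj X)) (𝟙 (fn.obj X))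
    rw [fn.map_id]
  rw [e]
  exact Equiv.bijective _

/-- The product of two representables. -/
abbrev hh {E : Type u} [SmallCategory E] (X Y : E) : Eᵒᵖ ⥤ Type u :=
  FunctorToTypes.prod (yoneda.obj X) (yoneda.obj Y)

/-- The map of products of representables. -/
def κ₂ (X Y : D) : hh X Y ⟶ fn.op ⋙ hh (fn.obj X) (fn.obj Y) where
  app Z := ↾fun a => ⟨fn.map a.1, fn.map a.2⟩
  naturality Z W g := by
    ext a
    exact Prod.ext (fn.map_comp g.unop a.1) (fn.map_comp g.unop a.2)

theorem isIso_comparison_κ₂ [PreservesFiniteLimits (fn.sheafPullback (Type u) K J)] (X Y : D) :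
    IsIso (comparison (J := J) K fn (κ₂ fn X Y)) := by
  let L := fn.sheafPullback (Type u) K J
  let a := presheafToSheaf K (Type u)
  let a' := presheafToSheaf J (Type u)
  haveI hX : IsIso (comparison (J := J) K fn (κ₁ fn X)) :=
    (isIso_comparison_iff fn _).2 (bijective_restrMap_κ₁ fn X)
  haveI hY : IsIso (comparison (J := J) K fn (κ₁ fn Y)) :=
    (isIso_comparison_iff fn _).2 (bijective_restrMap_κ₁ fn Y)
  haveI : PreservesFiniteLimits (a ⋙ L) := comp_preservesFiniteLimits a L
  have hs : IsLimit (BinaryFan.mk ((a ⋙ L).map (FunctorToTypes.prod.fst (F := yoneda.obj X) (G := yoneda.obj Y)))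
      ((a ⋙ L).map FunctorToTypes.prod.snd)) :=
    mapIsLimitOfPreservesOfIsLimit (a ⋙ L) _ _ (FunctorToTypes.binaryProductLimit _ _)
  have ht : IsLimit (BinaryFan.mk
      (a'.map (FunctorToTypes.prod.fst (F := yoneda.obj (fn.obj X)) (G := yoneda.obj (fn.obj Y))))
      (a'.map FunctorToTypes.prod.snd)) :=
    mapIsLimitOfPreservesOfIsLimit a' _ _ (FunctorToTypes.binaryProductLimit _ _)
  have e₁ : comparison K fn (κ₂ fn X Y) ≫ a'.map FunctorToTypes.prod.fst =
      (a ⋙ L).map FunctorToTypes.prod.fst ≫ comparison K fn (κ₁ fn X) := by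
    refine (eA fn _ _).injective ((eA_comparison_comp fn _ _).trans (Eq.symm ?_))
    refine (eA_pre fn _ _).trans ?_
    rw [comparison, Equiv.apply_symm_apply, Adjunction.homEquiv_unit]
    exact congrArg (κ₂ fn X Y ≫ Functor.whiskerLeft fn.op ·)
      ((sheafificationAdjunction J (Type u)).unit.naturality FunctorToTypes.prod.fst)
  have e₂ : comparison K fn (κ₂ fn X Y) ≫ a'.map FunctorToTypes.prod.snd =
      (a ⋙ L).map FunctorToTypes.prod.snd ≫ comparison K fn (κ₁ fn Y) := by
    refine (eA fn _ _).injective ((eA_comparison_comp fn _ _).trans (Eq.symm ?_))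
    refine (eA_pre fn _ _).trans ?_
    rw [comparison, Equiv.apply_symm_apply, Adjunction.homEquiv_unit]
    exact congrArg (κ₂ fn X Y ≫ Functor.whiskerLeft fn.op ·)
      ((sheafificationAdjunction J (Type u)).unit.naturality FunctorToTypes.prod.snd)
  refine ⟨hs.lift (BinaryFan.mk (a'.map FunctorToTypes.prod.fst ≫ @inv _ _ _ _ (comparison K fn (κ₁ fn X)) hX)
    (a'.map FunctorToTypes.prod.snd ≫ @inv _ _ _ _ (comparison K fn (κ₁ fn Y)) hY)), ?_, ?_⟩
  · refine BinaryFan.IsLimit.hom_ext hs ?_ ?_
    · refine (Category.assoc _ _ _).trans ((congrArg (_ ≫ ·) (hs.fac _ ⟨.left⟩)).trans ?_)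
      refine ((Category.assoc _ _ _).symm.trans (congrArg (· ≫ _) e₁)).trans ?_
      exact (Category.assoc _ _ _).trans ((congrArg (_ ≫ ·) (IsIso.hom_inv_id _)).trans
        ((Category.comp_id _).trans (Category.id_comp _).symm))
    · refine (Category.assoc _ _ _).trans ((congrArg (_ ≫ ·) (hs.fac _ ⟨.right⟩)).trans ?_)
      refine ((Category.assoc _ _ _).symm.trans (congrArg (· ≫ _) e₂)).trans ?_
      exact (Category.assoc _ _ _).trans ((congrArg (_ ≫ ·) (IsIso.hom_inv_id _)).trans
        ((Category.comp_id _).trans (Category.id_comp _).symm))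
  · refine BinaryFan.IsLimit.hom_ext ht ?_ ?_
    · refine (Category.assoc _ _ _).trans ((congrArg (_ ≫ ·) e₁).trans ?_)
      refine ((Category.assoc _ _ _).symm.trans (congrArg (· ≫ _) (hs.fac _ ⟨.left⟩))).trans ?_
      exact (Category.assoc _ _ _).trans ((congrArg (_ ≫ ·) (@IsIso.inv_hom_id _ _ _ _ (comparison K fn (κ₁ fn X)) hX)).trans
        ((Category.comp_id _).trans (Category.id_comp _).symm))
    · refine (Category.assoc _ _ _).trans ((congrArg (_ ≫ ·) e₂).trans ?_)
      refine ((Category.assoc _ _ _).symm.trans (congrArg (· ≫ _) (hs.fac _ ⟨.right⟩))).trans ?_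
      exact (Category.assoc _ _ _).trans ((congrArg (_ ≫ ·) (@IsIso.inv_hom_id _ _ _ _ (comparison K fn (κ₁ fn Y)) hY)).trans
        ((Category.comp_id _).trans (Category.id_comp _).symm))

/-- Natural families on a product of representables restrict bijectively along `fn`. -/
theorem bijective_restrMap_κ₂ [PreservesFiniteLimits (fn.sheafPullback (Type u) K J)] (X Y : D)
    (P : Sheaf J (Type u)) : Function.Bijective (restrMap fn (κ₂ fn X Y) P) :=
  (isIso_comparison_iff (K := K) fn _).1 (isIso_comparison_κ₂ fn X Y) P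

end Groth.Agent.ModSiteLib.SetPull
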