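/-
Pure tensors as sections of a tensor product of sheaves of modules, and the lax structure of direct
image.
-/
import Groth.Agent.ModSiteLib.TensorSheaf
import Groth.Agent.ModSiteLib.Tensor

set_option autoImplicit false
set_option linter.style.haveILetI false
set_option backward.isDefEq.respectTransparency false

universe u

open CategoryTheory Limits MonoidalCategory Opposite

namespace ModSiteLib

variable {C : Type u} [SmallCategory C] {J : GrothendieckTopology C} {O : Sheaf J CommRingCat.{u}}

/-- Sections of a sheaf of modules. -/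
abbrev Sec (M : ModSite.Mod O) (V : C) : Type u := ((jP O).obj M).obj (op V)

/-- The tensor product. -/
noncomputable abbrev tens (M N : ModSite.Mod O) : ModSite.Mod O :=
  ((ModSite.tensorBi O).obj M).obj N

/-- Maps on sections. -/
noncomputable abbrev ap {M N : ModSite.Mod O} (g : M ⟶ N) (V : C) (m : Sec M V) : Sec N V :=
  ((jP O).map g).app (op V) m

/-- A pure tensor as a section. -/
noncomputable def shT (M N : ModSite.Mod O) {V : C} (m : Sec M V) (n : Sec N V) : Sec (tens M N) V :=
  ((adjP O).unit.app ((jP O).obj M ⊗ (jP O).obj N)).app (op V) (TensorProduct.tmul (O.obj.obj (op V)) m n)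

lemma tens_hom_ext {M N P : ModSite.Mod O} {a b : tens M N ⟶ P}
    (h : ∀ (V : C) (m : Sec M V) (n : Sec N V), ap a V (shT M N m n) = ap b V (shT M N m n)) :
    a = b := by
  apply ((adjP O).homEquiv ((jP O).obj M ⊗ (jP O).obj N) P).injective
  rw [Adjunction.homEquiv_unit, Adjunction.homEquiv_unit]
  refine PresheafOfModules.hom_ext fun V => ?_
  exact ModuleCat.MonoidalCategory.tensor_ext fun m n => h V.unop m n

lemma ap_aP_map {P Q : PMod O} (g : P ⟶ Q) (V : C) (s : P.obj (op V)) :
    ap ((aP O).map g) V (((adjP O).unit.app P).app (op V) s) =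
      ((adjP O).unit.app Q).app (op V) (g.app (op V) s) :=
  congr($(((adjP O).unit.naturality g).symm).app (op V) s)

lemma ap_tensorBi₁ {M M' : ModSite.Mod O} (g : M ⟶ M') (N : ModSite.Mod O) {V : C} (m : Sec M V)
    (n : Sec N V) :
    ap (((ModSite.tensorBi O).map g).app N) V (shT M N m n) = shT M' N (ap g V m) n :=
  ap_aP_map ((jP O).map g ▷ (jP O).obj N) V _

lemma ap_tensorBi₂ (M : ModSite.Mod O) {N N' : ModSite.Mod O} (g : N ⟶ N') {V : C} (m : Sec M V)
    (n : Sec N V) :
    ap (((ModSite.tensorBi O).obj M).map g) V (shT M N m n) = shT M N' m (ap g V n) :=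
  ap_aP_map ((jP O).obj M ◁ (jP O).map g) V _

lemma shT_add_left (M N : ModSite.Mod O) {V : C} (m m' : Sec M V) (n : Sec N V) :
    shT M N (m + m') n = shT M N m n + shT M N m' n :=
  bil_add_left ((adjP O).unit.app ((jP O).obj M ⊗ (jP O).obj N)) m m' n

lemma shT_add_right (M N : ModSite.Mod O) {V : C} (m : Sec M V) (n n' : Sec N V) :
    shT M N m (n + n') = shT M N m n + shT M N m n' :=
  bil_add_right ((adjP O).unit.app ((jP O).obj M ⊗ (jP O).obj N)) m n n'

lemma shT_smul_left (M N : ModSite.Mod O) {V : C} (r : O.obj.obj (op V)) (m : Sec M V) (n : Sec N V) :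
    shT M N (r • m) n = r • shT M N m n :=
  bil_smul_left ((adjP O).unit.app ((jP O).obj M ⊗ (jP O).obj N)) r m n

lemma shT_smul_right (M N : ModSite.Mod O) {V : C} (r : O.obj.obj (op V)) (m : Sec M V) (n : Sec N V) :
    shT M N m (r • n) = r • shT M N m n :=
  bil_smul_right ((adjP O).unit.app ((jP O).obj M ⊗ (jP O).obj N)) r m n

lemma res_shT (M N : ModSite.Mod O) {V W : C} (g : W ⟶ V) (m : Sec M V) (n : Sec N V) :
    res ((jP O).obj (tens M N)) g.op (shT M N m n) =
      shT M N (res ((jP O).obj M) g.op m) (res ((jP O).obj N) g.op n) :=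
  res_bil ((adjP O).unit.app ((jP O).obj M ⊗ (jP O).obj N)) g.op m n

section Push

variable {D : Type u} [SmallCategory D] {K : GrothendieckTopology D} {O_D : Sheaf K CommRingCat.{u}}
  (f : ModSite.RMor O O_D)

/-- The map of presheaves. -/
noncomputable def pushTensPre (A B : ModSite.Mod O) :
    ((jP O_D).obj (f.push.obj A) ⊗ (jP O_D).obj (f.push.obj B) : PMod O_D) ⟶
      (jP O_D).obj (f.push.obj (tens A B)) where
  app V := ModuleCat.MonoidalCategory.tensorLift
    (fun a b => shT A B (V := f.fn.obj V.unop) a b)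
    (fun a a' b => shT_add_left A B a a' b)
    (fun r a b => shT_smul_left A B (f.sharp.hom.app V r) a b)
    (fun a b b' => shT_add_right A B a b b')
    (fun r a b => shT_smul_right A B (f.sharp.hom.app V r) a b)
  naturality {V W} g := ModuleCat.MonoidalCategory.tensor_ext fun a b =>
    (res_shT A B (f.fn.map g.unop) a b).symm

/-- `f_* A ⊗ f_* B ⟶ f_*(A ⊗ B)`. -/
noncomputable def pushTens (A B : ModSite.Mod O) :
    tens (f.push.obj A) (f.push.obj B) ⟶ f.push.obj (tens A B) :=
  ((adjP O_D).homEquiv _ _).symm (pushTensPre f A B)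

lemma ap_pushTens (A B : ModSite.Mod O) {V : D} (a : Sec (f.push.obj A) V) (b : Sec (f.push.obj B) V) :
    ap (pushTens f A B) V (shT (f.push.obj A) (f.push.obj B) a b) =
      shT A B (V := f.fn.obj V) a b := by
  have e := ((adjP O_D).homEquiv_unit _ _ (pushTens f A B)).symm.trans
    (Equiv.apply_symm_apply _ (pushTensPre f A B))
  exact congr($(e).app (op V) (TensorProduct.tmul (O_D.obj.obj (op V)) a b))

/-- The pullback of a section. -/
noncomputable def puS {M : ModSite.Mod O_D} {V : D} (m : Sec M V) : Sec (f.pull.obj M) (f.fn.obj V) :=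
  ap (f.adj.unit.app M) V m

lemma ap_push_map {A B : ModSite.Mod O} (g : A ⟶ B) {V : D} (a : Sec (f.push.obj A) V) :
    ap (f.push.map g) V a = ap g (f.fn.obj V) a := rfl

lemma puS_natural {M M' : ModSite.Mod O_D} (g : M ⟶ M') {V : D} (m : Sec M V) :
    ap (f.pull.map g) (f.fn.obj V) (puS f m) = puS f (ap g V m) :=
  (congr(((jP O_D).map $(f.adj.unit.naturality g)).app (op V) m)).symm

/-- The adjunct of the comparison map. -/
noncomputable def pullTensAdjunct (M N : ModSite.Mod O_D) :
    tens M N ⟶ f.push.obj (tens (f.pull.obj M) (f.pull.obj N)) :=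
  (((ModSite.tensorBi O_D).map (f.adj.unit.app M)).app N ≫
    ((ModSite.tensorBi O_D).obj (f.push.obj (f.pull.obj M))).map (f.adj.unit.app N)) ≫
    pushTens f _ _

/-- `f^*(M ⊗ N) ⟶ f^*M ⊗ f^*N`. -/
noncomputable def pullTens (M N : ModSite.Mod O_D) :
    f.pull.obj (tens M N) ⟶ tens (f.pull.obj M) (f.pull.obj N) :=
  (f.adj.homEquiv _ _).symm (pullTensAdjunct f M N)

lemma ap_pullTens (M N : ModSite.Mod O_D) {V : D} (m : Sec M V) (n : Sec N V) :
    ap (pullTens f M N) (f.fn.obj V) (puS f (shT M N m n)) = shT _ _ (puS f m) (puS f n) := by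
  have e := (f.adj.homEquiv_unit _ _ (pullTens f M N)).symm.trans
    (Equiv.apply_symm_apply _ (pullTensAdjunct f M N))
  refine (congr(((jP O_D).map $e).app (op V) (shT M N m n))).trans ?_
  refine (congrArg (ap (pushTens f (f.pull.obj M) (f.pull.obj N)) V)
    ((congrArg (ap (((ModSite.tensorBi O_D).obj (f.push.obj (f.pull.obj M))).map (f.adj.unit.app N)) V)
      (ap_tensorBi₁ (f.adj.unit.app M) N m n)).trans (ap_tensorBi₂ _ (f.adj.unit.app N) _ n))).trans ?_
  exact ap_pushTens f _ _ _ _

lemma pullTens_hom_ext {M N : ModSite.Mod O_D} {P : ModSite.Mod O} {a b : f.pull.obj (tens M N) ⟶ P}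
    (h : ∀ (V : D) (m : Sec M V) (n : Sec N V),
      ap a (f.fn.obj V) (puS f (shT M N m n)) = ap b (f.fn.obj V) (puS f (shT M N m n))) : a = b := by
  apply (f.adj.homEquiv _ P).injective
  rw [Adjunction.homEquiv_unit, Adjunction.homEquiv_unit]
  exact tens_hom_ext h

lemma pullTens_natural_left {M M' : ModSite.Mod O_D} (g : M ⟶ M') (N : ModSite.Mod O_D) :
    f.pull.map (((ModSite.tensorBi O_D).map g).app N) ≫ pullTens f M' N =
      pullTens f M N ≫ ((ModSite.tensorBi O).map (f.pull.map g)).app (f.pull.obj N) := by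
  refine pullTens_hom_ext f fun V m n => ?_
  refine ((congrArg (ap (pullTens f M' N) (f.fn.obj V))
    ((puS_natural f _ (shT M N m n)).trans (congrArg (puS f) (ap_tensorBi₁ g N m n)))).trans
      (ap_pullTens f M' N _ n)).trans (Eq.symm ?_)
  refine (congrArg (ap (((ModSite.tensorBi O).map (f.pull.map g)).app (f.pull.obj N)) (f.fn.obj V))
    (ap_pullTens f M N m n)).trans ?_
  exact (ap_tensorBi₁ _ _ _ _).trans (congrArg (fun x => shT (f.pull.obj M') (f.pull.obj N) x _)
    (puS_natural f g m))

lemma pullTens_natural_right (M : ModSite.Mod O_D) {N N' : ModSite.Mod O_D} (g : N ⟶ N') :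
    f.pull.map (((ModSite.tensorBi O_D).obj M).map g) ≫ pullTens f M N' =
      pullTens f M N ≫ ((ModSite.tensorBi O).obj (f.pull.obj M)).map (f.pull.map g) := by
  refine pullTens_hom_ext f fun V m n => ?_
  refine ((congrArg (ap (pullTens f M N') (f.fn.obj V))
    ((puS_natural f _ (shT M N m n)).trans (congrArg (puS f) (ap_tensorBi₂ M g m n)))).trans
      (ap_pullTens f M N' m _)).trans (Eq.symm ?_)
  refine (congrArg (ap (((ModSite.tensorBi O).obj (f.pull.obj M)).map (f.pull.map g)) (f.fn.obj V))
    (ap_pullTens f M N m n)).trans ?_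
  exact (ap_tensorBi₂ _ _ _ _).trans (congrArg (fun x => shT (f.pull.obj M) (f.pull.obj N') _ x)
    (puS_natural f g n))

end Push

end ModSiteLib
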