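/-
Inverse image commutes with tensor products.
-/
import Groth.Agent.ModSiteLib.ShT
import Groth.Agent.ModSiteLib.SetPullProd
import Groth.Agent.ModSiteLib.NatIsoGen
import Groth.Agent.ModSiteLib.FlatExact
import Groth.Agent.ModSiteLib.Grothendieck

set_option autoImplicit false
set_option linter.style.haveILetI false
set_option backward.isDefEq.respectTransparency false

universe u

open CategoryTheory Limits MonoidalCategory Opposite Groth.Agent.ModSiteLib

namespace Groth.Agent.ModSiteLib.FreeTensor

theorem free_tensor_ext {R : Type u} [CommRing R] {X Y : Type u} {M : ModuleCat.{u} R}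
    {f g : (ModuleCat.free R).obj X ⊗ (ModuleCat.free R).obj Y ⟶ M}
    (h : ∀ a b, f (TensorProduct.tmul R (ModuleCat.freeMk (R := R) a) (ModuleCat.freeMk (R := R) b)) =
      g (TensorProduct.tmul R (ModuleCat.freeMk (R := R) a) (ModuleCat.freeMk (R := R) b))) : f = g :=
  ModuleCat.hom_ext (TensorProduct.ext (Finsupp.lhom_ext' fun a =>
    LinearMap.ext_ring (Finsupp.lhom_ext' fun b => LinearMap.ext_ring (h a b))))

/-- A linear map out of a tensor product of free modules. -/
noncomputable def freeTensorLift {R : Type u} [CommRing R] {X Y : Type u} {M : ModuleCat.{u} R}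
    (ψ : X → Y → M) : (ModuleCat.free R).obj X ⊗ (ModuleCat.free R).obj Y ⟶ M :=
  ModuleCat.ofHom (TensorProduct.lift
    (Finsupp.linearCombination R fun a => Finsupp.linearCombination R (ψ a)))

theorem freeTensorLift_mk {R : Type u} [CommRing R] {X Y : Type u} {M : ModuleCat.{u} R}
    (ψ : X → Y → M) (a : X) (b : Y) :
    freeTensorLift ψ (TensorProduct.tmul R (ModuleCat.freeMk (R := R) a) (ModuleCat.freeMk (R := R) b)) =
      ψ a b := by
  show Finsupp.linearCombination R (fun a => Finsupp.linearCombination R (ψ a))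
    (Finsupp.single a 1) (Finsupp.single b 1) = ψ a b
  simp

end Groth.Agent.ModSiteLib.FreeTensor

namespace ModSiteLib

open Groth.Agent.ModSiteLib.FreeTensor Groth.Agent.ModSiteLib.SetPull

variable {C : Type u} [SmallCategory C] {J : GrothendieckTopology C} {O : Sheaf J CommRingCat.{u}}

/-- The underlying presheaf of sets. -/
noncomputable abbrev typ (Q : PMod O) : Cᵒᵖ ⥤ Type u := Q.presheaf ⋙ forget AddCommGrpCat.{u}

/-- The free presheaf of modules. -/
noncomputable abbrev frP (A : Cᵒᵖ ⥤ Type u) : PMod O := PresheafOfModules.freeObj A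

lemma res_freeMk (A : Cᵒᵖ ⥤ Type u) {V W : Cᵒᵖ} (g : V ⟶ W) (a : A.obj V) :
    res (frP (O := O) A) g (ModuleCat.freeMk a) = ModuleCat.freeMk (A.map g a) :=
  ModuleCat.freeDesc_apply _ a

/-- Evaluation of a map out of a tensor product of free presheaves. -/
noncomputable def evalT {A B : Cᵒᵖ ⥤ Type u} {Q : PMod O}
    (φ : (frP A ⊗ frP B : PMod O) ⟶ Q) : FunctorToTypes.prod A B ⟶ typ Q where
  app V := ↾fun p => bil φ (ModuleCat.freeMk p.1) (ModuleCat.freeMk p.2)
  naturality V W g := by
    ext p
    show bil φ (ModuleCat.freeMk (A.map g p.1)) (ModuleCat.freeMk (B.map g p.2)) =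
      res Q g (bil φ (ModuleCat.freeMk p.1) (ModuleCat.freeMk p.2))
    rw [res_bil, res_freeMk, res_freeMk]

theorem bijective_evalT (A B : Cᵒᵖ ⥤ Type u) (Q : PMod O) :
    Function.Bijective (evalT (A := A) (B := B) (Q := Q)) := by
  refine ⟨fun φ φ' h => PresheafOfModules.hom_ext fun V => free_tensor_ext fun a b => ?_, fun ψ => ?_⟩
  · exact congrArg (fun t => ((t : FunctorToTypes.prod A B ⟶ typ Q).app V : _ → _) (a, b)) h
  · refine ⟨{ app := fun V => freeTensorLift (R := O.obj.obj V) fun a b => ψ.app V (a, b),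
              naturality := fun {V W} g => free_tensor_ext (R := O.obj.obj V) fun a b => ?_ }, ?_⟩
    · refine Eq.trans ?_ (congrArg (res Q g) (freeTensorLift_mk (R := O.obj.obj V)
        (fun a b => ψ.app V (a, b)) a b)).symm
      refine (congrArg (freeTensorLift (R := O.obj.obj W) fun a b => ψ.app W (a, b))
        (congrArg₂ (TensorProduct.tmul (O.obj.obj W)) (res_freeMk A g a) (res_freeMk B g b))).trans ?_
      exact (freeTensorLift_mk _ _ _).trans (ConcreteCategory.congr_hom (ψ.naturality g) ((a, b) : A.obj V × B.obj V))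
    · ext V p
      exact freeTensorLift_mk (R := O.obj.obj V) (fun a b => ψ.app V (a, b)) p.1 p.2

/-- The family of restrictions of a section. -/
noncomputable def secMap {M : ModSite.Mod O} {X : C} (e : Sec M X) : yoneda.obj X ⟶ typ ((jP O).obj M) where
  app V := ↾fun a => res ((jP O).obj M) a.op e
  naturality V W g := by
    ext a
    exact (res_comp ((jP O).obj M) a.op g e).symm

/-- `M` is freely generated by the section `e`. -/
def IsGen {M : ModSite.Mod O} {X : C} (e : Sec M X) : Prop :=
  ∀ P : ModSite.Mod O, Function.Bijective fun g : M ⟶ P => ap g X e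

/-- The map from the free presheaf. -/
noncomputable def hat {M : ModSite.Mod O} {X : C} (e : Sec M X) :
    frP (O := O) (yoneda.obj X) ⟶ (jP O).obj M :=
  PresheafOfModules.freeObjDesc (secMap e)

lemma hat_freeMk {M : ModSite.Mod O} {X : C} (e : Sec M X) (V : Cᵒᵖ) (a : V.unop ⟶ X) :
    (hat e).app V (ModuleCat.freeMk a) = res ((jP O).obj M) a.op e :=
  ModuleCat.freeDesc_apply _ a

theorem W_hat {M : ModSite.Mod O} {X : C} {e : Sec M X} (he : IsGen e) :
    J.W ((PresheafOfModules.toPresheaf _).map (hat e)) := by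
  let hh' := ((adjP O).homEquiv _ M).symm (hat e)
  haveI : IsIso hh' := isIso_of_coyoneda_map_bijective _ fun P => by
    let ev : ((aP O).obj (frP (yoneda.obj X)) ⟶ P) ≃ Sec P X :=
      (((adjP O).homEquiv _ P).trans PresheafOfModules.freeHomEquiv).trans yonedaEquiv
    refine (Function.Bijective.of_comp_iff' ev.bijective _).1 ?_
    have : (⇑ev ∘ fun g => hh' ≫ g) = fun g : M ⟶ P => ap g X e := funext fun g => by
      show ((adjP O).homEquiv _ P (hh' ≫ g)).app (op X) (ModuleCat.freeMk (𝟙 X)) = _
      rw [(adjP O).homEquiv_naturality_right, Equiv.apply_symm_apply]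
      refine (congrArg (((jP O).map g).app (op X)) (hat_freeMk e (op X) (𝟙 X))).trans ?_
      rw [op_id, res_id]
    rw [this]
    exact he P
  have h2 : (aP O).map (hat e) ≫ (adjP O).counit.app M = hh' :=
    ((adjP O).homEquiv_counit _ _ _).symm
  haveI : IsIso ((aP O).map (hat e)) := by
    haveI : IsIso ((aP O).map (hat e) ≫ (adjP O).counit.app M) := by rw [h2]; infer_instance
    exact IsIso.of_isIso_comp_right _ ((adjP O).counit.app M)
  rw [J.W_iff]
  exact (NatIso.isIso_map_iff (PresheafOfModules.sheafificationCompToSheaf.{u}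
      (𝟙 (ModSite.ringSh O).obj)) (hat e)).1
    (inferInstanceAs (IsIso ((SheafOfModules.toSheaf (ModSite.ringSh O)).map ((aP O).map (hat e)))))

/-- Evaluation of a map out of a tensor product at two generators. -/
noncomputable def testT {M N P : ModSite.Mod O} {X Y : C} (e : Sec M X) (e' : Sec N Y)
    (ψ : tens M N ⟶ P) : hh X Y ⟶ typ ((jP O).obj P) where
  app V := ↾fun p => ap ψ V.unop (shT M N (res ((jP O).obj M) p.1.op e) (res ((jP O).obj N) p.2.op e'))
  naturality V W g := by
    ext p
    show ap ψ W.unop (shT M N (res ((jP O).obj M) (g.unop ≫ p.1).op e)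
        (res ((jP O).obj N) (g.unop ≫ p.2).op e')) =
      res ((jP O).obj P) g (ap ψ V.unop
        (shT M N (res ((jP O).obj M) p.1.op e) (res ((jP O).obj N) p.2.op e')))
    rw [← app_res ((jP O).map ψ) g]
    refine congrArg (ap ψ W.unop) (Eq.trans ?_ (res_shT M N g.unop _ _).symm)
    rw [res_comp, res_comp]
    rfl

theorem bijective_testT {M N : ModSite.Mod O} {X Y : C} {e : Sec M X} {e' : Sec N Y} (he : IsGen e)
    (he' : IsGen e') (P : ModSite.Mod O) : Function.Bijective (testT (P := P) e e') := by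
  let F₁ : PMod O := frP (yoneda.obj X)
  let F₂ : PMod O := frP (yoneda.obj Y)
  let Θ : (F₁ ⊗ F₂ : PMod O) ⟶ (jP O).obj M ⊗ (jP O).obj N := (hat e ⊗ₘ hat e')
  haveI h₁ : IsIso ((aP O).map (hat e ▷ F₂)) := isIso_tensorSh_map O F₂ _ (W_hat he)
  haveI h₂ : IsIso ((aP O).map ((jP O).obj M ◁ hat e')) := by
    have e₀ : (jP O).obj M ◁ hat e' =
        (β_ _ F₂).hom ≫ (hat e' ▷ (jP O).obj M) ≫ (β_ _ _).inv := by
      rw [← BraidedCategory.braiding_naturality_right_assoc, Iso.hom_inv_id, Category.comp_id]
    haveI : IsIso ((aP O).map (hat e' ▷ (jP O).obj M)) := isIso_tensorSh_map O _ _ (W_hat he')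
    rw [e₀, Functor.map_comp, Functor.map_comp]
    infer_instance
  haveI : IsIso ((aP O).map Θ) := by
    show IsIso ((aP O).map (hat e ⊗ₘ hat e'))
    rw [tensorHom_def, Functor.map_comp]
    infer_instance
  have h : (testT (P := P) e e') =
      evalT (A := yoneda.obj X) (B := yoneda.obj Y) (Q := (jP O).obj P) ∘
        ((adjP O).homEquiv _ P) ∘ fun ψ => (aP O).map Θ ≫ ψ := funext fun ψ => by
    ext V p
    have e₁ : (adjP O).homEquiv _ P ((aP O).map Θ ≫ ψ) = Θ ≫ (adjP O).homEquiv _ P ψ :=
      (adjP O).homEquiv_naturality_left Θ ψ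
    show _ = bil ((adjP O).homEquiv _ P ((aP O).map Θ ≫ ψ)) _ _
    rw [e₁, Adjunction.homEquiv_unit]
    refine congrArg (fun t => ap ψ V.unop (((adjP O).unit.app _).app V t)) ?_
    exact (congrArg₂ (TensorProduct.tmul (O.obj.obj V)) (hat_freeMk e V p.1) (hat_freeMk e' V p.2)).symm
  rw [h]
  exact (bijective_evalT _ _ _).comp (((adjP O).homEquiv _ P).bijective.comp
    (asIso ((aP O).map Θ)).homFromEquiv.symm.bijective)

section Pull

variable {D : Type u} [SmallCategory D] {K : GrothendieckTopology D} {O_D : Sheaf K CommRingCat.{u}}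
  (f : ModSite.RMor O O_D)

lemma res_puS {M : ModSite.Mod O_D} {V W : D} (g : W ⟶ V) (m : Sec M V) :
    res ((jP O).obj (f.pull.obj M)) (f.fn.map g).op (puS f m) = puS f (res ((jP O_D).obj M) g.op m) :=
  (app_res ((jP O_D).map (f.adj.unit.app M)) g.op m).symm

theorem isGen_puS {M : ModSite.Mod O_D} {X : D} {e : Sec M X} (he : IsGen e) :
    IsGen (puS f e) := fun P => by
  have : (fun g : f.pull.obj M ⟶ P => ap g (f.fn.obj X) (puS f e)) =
      (fun g => ap g X e) ∘ f.adj.homEquiv M P := funext fun g => by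
    show _ = ap (f.adj.homEquiv M P g) X e
    rw [Adjunction.homEquiv_unit]
    rfl
  rw [this]
  exact (he (f.push.obj P)).comp (f.adj.homEquiv M P).bijective

/-- The underlying sheaf of sets. -/
noncomputable def typSh (P : ModSite.Mod O) : Sheaf J (Type u) :=
  ⟨typ ((jP O).obj P), (sheafCompose J (forget AddCommGrpCat.{u})).obj
    ((SheafOfModules.toSheaf (ModSite.ringSh O)).obj P) |>.2⟩

theorem isIso_pullTens_gen {M N : ModSite.Mod O_D} {X Y : D} {e : Sec M X} {e' : Sec N Y}
    (he : IsGen e) (he' : IsGen e') : IsIso (pullTens f M N) := by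
  refine isIso_of_coyoneda_map_bijective _ fun P => ?_
  let T : (f.pull.obj (tens M N) ⟶ P) → (hh X Y ⟶ typ ((jP O_D).obj (f.push.obj P))) :=
    testT e e' ∘ f.adj.homEquiv (tens M N) P
  have hT : Function.Bijective T := (bijective_testT he he' _).comp (f.adj.homEquiv _ _).bijective
  refine (Function.Bijective.of_comp_iff' hT _).1 ?_
  have : (T ∘ fun g => pullTens f M N ≫ g) = restrMap f.fn (κ₂ f.fn X Y) (typSh P) ∘
      testT (puS f e) (puS f e') := funext fun g => by
    ext V p
    show ap (f.adj.homEquiv (tens M N) P (pullTens f M N ≫ g)) V.unop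
        (shT M N (res ((jP O_D).obj M) p.1.op e) (res ((jP O_D).obj N) p.2.op e')) =
      ap g (f.fn.obj V.unop) (shT _ _ (res ((jP O).obj (f.pull.obj M)) (f.fn.map p.1).op (puS f e))
        (res ((jP O).obj (f.pull.obj N)) (f.fn.map p.2).op (puS f e')))
    rw [Adjunction.homEquiv_unit, res_puS, res_puS]
    exact congrArg (ap g (f.fn.obj V.unop)) (ap_pullTens f M N _ _)
  rw [this]
  exact (bijective_restrMap_κ₂ (K := K) f.fn X Y (typSh P)).comp
    (bijective_testT (isGen_puS f he) (isGen_puS f he') P)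

end Pull

variable (O) in
/-- The standard generators. -/
noncomputable def stdGen (X : C) : ModSite.Mod O := (aP O).obj (frP (yoneda.obj X))

variable (O) in
/-- The standard generating section. -/
noncomputable def stdSec (X : C) : Sec (stdGen O X) X :=
  ((adjP O).unit.app (frP (yoneda.obj X))).app (op X) (ModuleCat.freeMk (𝟙 X))

theorem isGen_stdSec (X : C) : IsGen (stdSec O X) := fun P => by
  let ev : (stdGen O X ⟶ P) ≃ Sec P X :=
    (((adjP O).homEquiv _ P).trans PresheafOfModules.freeHomEquiv).trans yonedaEquiv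
  have : (fun g : stdGen O X ⟶ P => ap g X (stdSec O X)) = ev := funext fun g => by
    show _ = ((adjP O).homEquiv _ P g).app (op X) (ModuleCat.freeMk (𝟙 X))
    rw [Adjunction.homEquiv_unit]
    rfl
  rw [this]
  exact ev.bijective

theorem stdGen_separating {M N : ModSite.Mod O} (g g' : M ⟶ N)
    (h : ∀ X (a : stdGen O X ⟶ M), a ≫ g = a ≫ g') : g = g' := by
  apply SheafOfModules.hom_ext
  refine PresheafOfModules.hom_ext fun V => ModuleCat.hom_ext (LinearMap.ext fun m => ?_)
  obtain ⟨a, ha⟩ := (isGen_stdSec (O := O) V.unop M).2 m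
  rw [← ha]
  exact congrArg (fun t => ap t V.unop (stdSec O V.unop)) (h V.unop a)

end ModSiteLib
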