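/-
The comparison map of inverse image and tensor product is invertible.
-/
import Groth.Agent.ModSiteLib.PullTensor

set_option autoImplicit false
set_option linter.style.haveILetI false

universe u

open CategoryTheory Limits Opposite Groth.Agent.ModSiteLib

namespace ModSiteLib

variable {C : Type u} [SmallCategory C] {J : GrothendieckTopology C} {O : Sheaf J CommRingCat.{u}}
  {D : Type u} [SmallCategory D] {K : GrothendieckTopology D} {O_D : Sheaf K CommRingCat.{u}}
  (f : ModSite.RMor O O_D)

/-- The comparison, natural in the first module. -/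
noncomputable def pullTensNat₁ (N : ModSite.Mod O_D) :
    (ModSite.tensorBi O_D).flip.obj N ⋙ f.pull ⟶
      f.pull ⋙ (ModSite.tensorBi O).flip.obj (f.pull.obj N) where
  app M := pullTens f M N
  naturality _ _ g := pullTens_natural_left f g N

/-- The comparison, natural in the second module. -/
noncomputable def pullTensNat₂ (M : ModSite.Mod O_D) :
    (ModSite.tensorBi O_D).obj M ⋙ f.pull ⟶
      f.pull ⋙ (ModSite.tensorBi O).obj (f.pull.obj M) where
  app N := pullTens f M N
  naturality _ _ g := pullTens_natural_right f M g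

theorem isLeftAdjoint_tensor_flip (G : ModSite.Mod O) :
    ((ModSite.tensorBi O).flip.obj G).IsLeftAdjoint := hasSheafHom O G

theorem isLeftAdjoint_tensor (G : ModSite.Mod O) :
    ((ModSite.tensorBi O).obj G).IsLeftAdjoint :=
  haveI := hasSheafHom O G
  Functor.isLeftAdjoint_of_iso (tensorFlipIso O G)

theorem isIso_pullTens (M N : ModSite.Mod O_D) : IsIso (pullTens f M N) := by
  haveI : f.pull.IsLeftAdjoint := f.adj.isLeftAdjoint
  haveI : PreservesColimitsOfSize.{u, u} f.pull := f.adj.leftAdjoint_preservesColimits
  haveI : PreservesColimitsOfSize.{0, 0} f.pull := f.adj.leftAdjoint_preservesColimits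
  haveI : f.pull.Additive := f.adj.left_adjoint_additive
  have h₁ : ∀ (X : D) (M : ModSite.Mod O_D), IsIso (pullTens f M (stdGen O_D X)) := fun X M => by
    haveI := isLeftAdjoint_tensor_flip (stdGen O_D X)
    haveI := isLeftAdjoint_tensor_flip (f.pull.obj (stdGen O_D X))
    haveI : ((ModSite.tensorBi O_D).flip.obj (stdGen O_D X) ⋙ f.pull).IsLeftAdjoint := inferInstance
    haveI : (f.pull ⋙ (ModSite.tensorBi O).flip.obj (f.pull.obj (stdGen O_D X))).IsLeftAdjoint :=
      inferInstance
    exact NatIsoGen.isIso_app_of_separating (pullTensNat₁ f (stdGen O_D X)) (stdGen O_D)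
      (fun _ _ g g' h => stdGen_separating g g' h)
      (fun X' => isIso_pullTens_gen f (isGen_stdSec X') (isGen_stdSec X)) M
  haveI := isLeftAdjoint_tensor M
  haveI := isLeftAdjoint_tensor (f.pull.obj M)
  haveI : ((ModSite.tensorBi O_D).obj M ⋙ f.pull).IsLeftAdjoint := inferInstance
  haveI : (f.pull ⋙ (ModSite.tensorBi O).obj (f.pull.obj M)).IsLeftAdjoint := inferInstance
  exact NatIsoGen.isIso_app_of_separating (pullTensNat₂ f M) (stdGen O_D)
    (fun _ _ g g' h => stdGen_separating g g' h) (fun X => h₁ X M) N

/-- Inverse image commutes with tensor products. -/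
noncomputable def pullTensIso (M N : ModSite.Mod O_D) :
    f.pull.obj (tens M N) ≅ tens (f.pull.obj M) (f.pull.obj N) :=
  @asIso _ _ _ _ _ (isIso_pullTens f M N)

end ModSiteLib
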