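/-
The equational criterion of flatness on a ringed site: the criterion implies flatness.
-/
import Groth.Agent.ModSiteLib.ShT
import Groth.Agent.ModSiteLib.FlatExact
import Mathlib.LinearAlgebra.TensorProduct.Vanishing
import Mathlib.CategoryTheory.Sites.EpiMono

set_option autoImplicit false
set_option linter.style.haveILetI false
set_option backward.isDefEq.respectTransparency false

universe u

open CategoryTheory Limits Opposite MonoidalCategory

namespace Groth.Agent.ModSiteLib.EqnAlg

open TensorProduct in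
/-- A vanishing sum of tensors, after adding finitely many generators, vanishes trivially. -/
theorem exists_extended_relation {R : Type*} [CommRing R] {G F : Type*} [AddCommGroup G] [Module R G]
    [AddCommGroup F] [Module R F] {n : ℕ} (x : Fin n → G) (y : Fin n → F)
    (h : ∑ i, x i ⊗ₜ[R] y i = 0) :
    ∃ (l : ℕ) (a : Fin n → Fin l → R) (t : Fin l → F) (s : Finset G) (c : G → Fin l → R),
      (∀ i, y i = ∑ j, a i j • t j) ∧ (∀ g, ∑ j, c g j • t j = 0) ∧
      ∀ j, ∑ i, a i j • x i + ∑ g ∈ s, c g j • g = 0 := by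
  classical
  let L : (Fin n ⊕ G →₀ R) →ₗ[R] G := Finsupp.linearCombination R (Sum.elim x id)
  have hLs : Function.Surjective L := fun g => ⟨Finsupp.single (Sum.inr g) 1, by simp [L]⟩
  let en : (Fin n ⊕ G →₀ R) ⊗[R] F := ∑ i, Finsupp.single (Sum.inl i) 1 ⊗ₜ y i
  have hen : en ∈ LinearMap.ker (LinearMap.rTensor F L) := by simp [en, L, h]
  have hr : en ∈ LinearMap.range (LinearMap.rTensor F (LinearMap.ker L).subtype) :=
    (rTensor_exact (M := ↥(LinearMap.ker L)) F L.exact_subtype_ker_map hLs).linearMap_ker_eq ▸ hen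
  obtain ⟨kn, hkn⟩ := hr
  obtain ⟨ma, rfl⟩ := exists_finset (R := R) kn
  let e := (Fintype.equivFin ma).symm
  let k : Fin (Fintype.card ma) → (Fin n ⊕ G →₀ R) := fun j => ((e j).1.1).1
  have hk : ∀ j, L (k j) = 0 := fun j => (e j).1.1.2
  have hsum : ∑ j, k j ⊗ₜ[R] (e j).1.2 = en := by
    refine Eq.trans ?_ hkn
    rw [map_sum, ← Finset.sum_coe_sort ma]
    refine (e.sum_comp fun q : ma => ((q.1.1).1 ⊗ₜ[R] q.1.2)).trans ?_
    rfl
  have coeff : ∀ q, ∑ j, k j q • (e j).1.2 = (finsuppScalarLeft R F (Fin n ⊕ G) en) q := fun q => by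
    rw [← hsum, map_sum, Finsupp.finsetSum_apply]
    exact Finset.sum_congr rfl fun j _ => by simp [finsuppScalarLeft_apply_tmul_apply]
  have hcoeff : ∀ q, (finsuppScalarLeft R F (Fin n ⊕ G) en) q =
      ∑ i, (Finsupp.single (Sum.inl i) (1 : R) : Fin n ⊕ G →₀ R) q • y i := fun q => by
    simp only [en, map_sum, Finsupp.finsetSum_apply, finsuppScalarLeft_apply_tmul_apply]
  refine ⟨_, fun i j => k j (Sum.inl i), fun j => (e j).1.2,
    Finset.univ.biUnion (fun j => (k j).support.toRight), fun g j => k j (Sum.inr g),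
    fun i => ?_, fun g => ?_, fun j => ?_⟩
  · rw [coeff, hcoeff]
    simp [Finsupp.single_apply]
  · rw [coeff, hcoeff]
    simp
  · refine Eq.trans ?_ (hk j)
    simp only [L, Finsupp.linearCombination_apply]
    rw [Finsupp.sum_of_support_subset (k j)
      (s := (Finset.univ : Finset (Fin n)).disjSum
        (Finset.univ.biUnion (fun j => (k j).support.toRight))) (fun q hq => by
        rcases q with i | g
        · simp
        · simp only [Finset.inr_mem_disjSum, Finset.mem_biUnion, Finset.mem_univ, true_and]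
          exact ⟨j, Finset.mem_toRight.2 hq⟩)
      (fun q r => r • Sum.elim x id q) (fun _ _ => zero_smul R _), Finset.sum_disjSum]
    simp
    congr!

end Groth.Agent.ModSiteLib.EqnAlg

namespace ModSiteLib

variable {C : Type u} [SmallCategory C] {J : GrothendieckTopology C} {O : Sheaf J CommRingCat.{u}}

/-- Restriction of coefficients. -/
noncomputable abbrev rC {V W : C} (g : W ⟶ V) (r : O.obj.obj (op V)) : O.obj.obj (op W) :=
  (O.obj.map g.op).hom r

/-- The equational condition. -/
def Eqn (F : ModSite.Mod O) : Prop :=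
  ∀ (U : C) (n : ℕ) (f : Fin n → O.obj.obj (op U)) (s : Fin n → Sec F U),
    ∑ j, f j • s j = 0 →
    ∃ S ∈ J U, ∀ ⦃V : C⦄ (g : V ⟶ U), S g →
      ∃ (l : ℕ) (t : Fin l → Sec F V) (a : Fin n → Fin l → O.obj.obj (op V)),
        (∀ j, res ((jP O).obj F) g.op (s j) = ∑ k, a j k • t k) ∧
        (∀ k, ∑ j, a j k * rC g (f j) = 0)

lemma res_sum (M : PMod O) {X Y : Cᵒᵖ} (g : X ⟶ Y) {ι : Type*} (s : Finset ι) (m : ι → M.obj X) :
    res M g (∑ i ∈ s, m i) = ∑ i ∈ s, res M g (m i) := map_sum (M.map g).hom m s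

lemma rC_comp {U V W : C} (g : V ⟶ U) (h : W ⟶ V) (r : O.obj.obj (op U)) :
    rC (h ≫ g) r = rC h (rC g r) := by
  simp [rC]

/-- Several relations at once. -/
theorem eqn_multi {F : ModSite.Mod O} (hF : Eqn F) {σ : Type*} (Q : Finset σ) :
    ∀ {U : C} {m : ℕ} (A : σ → Fin m → O.obj.obj (op U)) (t : Fin m → Sec F U),
    (∀ q ∈ Q, ∑ k, A q k • t k = 0) →
    ∃ S ∈ J U, ∀ ⦃V : C⦄ (g : V ⟶ U), S g →
      ∃ (l : ℕ) (t' : Fin l → Sec F V) (b : Fin m → Fin l → O.obj.obj (op V)),
        (∀ k, res ((jP O).obj F) g.op (t k) = ∑ j, b k j • t' j) ∧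
        (∀ q ∈ Q, ∀ j, ∑ k, b k j * rC g (A q k) = 0) := by
  classical
  induction Q using Finset.induction with
  | empty =>
    intro U m A t _
    refine ⟨⊤, J.top_mem _, fun V g _ => ⟨m, fun k => res ((jP O).obj F) g.op (t k),
      fun k j => if k = j then 1 else 0, fun k => ?_, fun q hq => absurd hq (by simp)⟩⟩
    simp
  | @insert q Q hq ih =>
    intro U m A t hA
    obtain ⟨S, hS, hSg⟩ := hF U m (A q) t (hA q (Finset.mem_insert_self _ _))
    choose l t₁ b₁ ht₁ hb₁ using hSg
    have key : ∀ ⦃V : C⦄ (g : V ⟶ U) (hg : S g),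
        ∀ q' ∈ Q, ∑ j, (∑ k, b₁ g hg k j * rC g (A q' k)) • t₁ g hg j = 0 := fun V g hg q' hq' => by
      simp only [Finset.sum_smul]
      rw [Finset.sum_comm]
      refine Eq.trans ?_ ((congrArg (res ((jP O).obj F) g.op) (hA q' (Finset.mem_insert_of_mem hq'))).trans
        (map_zero ((((jP O).obj F).map g.op)).hom))
      rw [res_sum]
      refine Finset.sum_congr rfl fun k _ => ?_
      refine Eq.trans ?_ (res_smul ((jP O).obj F) g.op (A q' k) (t k)).symm
      rw [ht₁ g hg k, Finset.smul_sum]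
      refine Finset.sum_congr rfl fun j _ => ?_
      rw [mul_comm, mul_smul]
    choose R hR hRg using fun (V : C) (g : V ⟶ U) (hg : S g) =>
      ih (fun q' j => ∑ k, b₁ g hg k j * rC g (A q' k)) (t₁ g hg) (key g hg)
    refine ⟨Sieve.bind S (fun V g hg => R V g hg), J.bind_covering hS (fun V g hg => hR V g hg), ?_⟩
    rintro W _ ⟨V, h, g, hg, hh, rfl⟩
    obtain ⟨l', t', b', ht', hb'⟩ := hRg V g hg h hh
    refine ⟨l', t', fun k i => ∑ j, rC h (b₁ g hg k j) * b' j i, fun k => ?_, fun q' hq' i => ?_⟩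
    · rw [op_comp, ← res_comp, ht₁ g hg k, res_sum]
      simp only [Finset.sum_smul]
      rw [Finset.sum_comm]
      refine Finset.sum_congr rfl fun j _ => ?_
      rw [res_smul, ht' j, Finset.smul_sum]
      refine Finset.sum_congr rfl fun i _ => ?_
      rw [mul_smul]
    · have e : ∀ k, (∑ j, rC h (b₁ g hg k j) * b' j i) * rC (h ≫ g) (A q' k) =
          ∑ j, b' j i * rC h (b₁ g hg k j * rC g (A q' k)) := fun k => by
        rw [Finset.sum_mul, rC_comp]
        refine Finset.sum_congr rfl fun j _ => ?_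
        simp only [rC, map_mul]
        ring
      simp only [e]
      rw [Finset.sum_comm]
      simp only [← Finset.mul_sum]
      simp only [rC, ← map_sum]
      rcases Finset.mem_insert.1 hq' with rfl | hq''
      · simp [hb₁ g hg]
      · exact hb' q' hq'' i

open TensorProduct in
/-- The criterion makes tensoring preserve monomorphisms of presheaves, locally. -/
theorem isLocallyInjective_whiskerRight {F : ModSite.Mod O} (hF : Eqn F) {P P' : PMod O} (φ : P ⟶ P')
    (hφ : ∀ V, Function.Injective (φ.app V)) :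
    Presheaf.IsLocallyInjective J ((PresheafOfModules.toPresheaf _).map (φ ▷ (jP O).obj F)) := by
  constructor
  intro X z₁ z₂ hz
  obtain ⟨U, rfl⟩ : ∃ U, X = op U := ⟨X.unop, rfl⟩
  let z : ↑(P.obj (op U)) ⊗[O.obj.obj (op U)] ↑(((jP O).obj F).obj (op U)) := z₁ - z₂
  have hz' : (φ ▷ (jP O).obj F).app (op U) z = 0 :=
    (map_sub ((φ ▷ (jP O).obj F).app (op U)).hom z₁ z₂).trans (sub_eq_zero.2 hz)
  obtain ⟨ma, hma⟩ := exists_finset (R := O.obj.obj (op U)) z
  let e := (Fintype.equivFin ma).symm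
  let x : Fin (Fintype.card ma) → P.obj (op U) := fun i => (e i).1.1
  let y : Fin (Fintype.card ma) → Sec F U := fun i => (e i).1.2
  have hzs : z = ∑ i, x i ⊗ₜ[O.obj.obj (op U)] y i := by
    rw [hma, ← Finset.sum_coe_sort ma]
    exact (e.sum_comp fun q : ma => (q.1.1 ⊗ₜ[O.obj.obj (op U)] q.1.2)).symm
  have h0 : ∑ i, (φ.app (op U) (x i)) ⊗ₜ[O.obj.obj (op U)] y i = 0 := by
    rw [← hz', hzs]
    exact ((map_sum ((φ ▷ (jP O).obj F).app (op U)).hom (fun i => x i ⊗ₜ[O.obj.obj (op U)] y i)
      Finset.univ).trans (Finset.sum_congr rfl fun i _ => rfl)).symm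
  obtain ⟨l, a, t, s, c, hy, hc, hL⟩ :=
    Groth.Agent.ModSiteLib.EqnAlg.exists_extended_relation (fun i => φ.app (op U) (x i)) y h0
  obtain ⟨S, hS, hSg⟩ := eqn_multi hF s c t (fun g _ => hc g)
  refine J.superset_covering (fun V g hg => ?_) hS
  obtain ⟨l', t', b, ht', hb⟩ := hSg g hg
  let Rv : CommRingCat := O.obj.obj (op V)
  show res (P ⊗ (jP O).obj F) g.op z₁ = res (P ⊗ (jP O).obj F) g.op z₂
  refine sub_eq_zero.1 (((map_sub ((P ⊗ (jP O).obj F).map g.op).hom z₁ z₂)).symm.trans ?_)
  show res (P ⊗ (jP O).obj F) g.op z = 0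
  rw [hzs]
  refine (map_sum ((P ⊗ (jP O).obj F).map g.op).hom _ _).trans ?_
  show ∑ i, (res P g.op (x i)) ⊗ₜ[O.obj.obj (op V)] (res ((jP O).obj F) g.op (y i)) = 0
  refine sum_tmul_eq_zero_of_vanishesTrivially _
    ⟨l', fun i k => ∑ j, rC g (a i j) * b j k, t', fun i => ?_, fun k => ?_⟩
  · show res ((jP O).obj F) g.op (y i) = ∑ k, (∑ j, rC g (a i j) * b j k) • t' k
    rw [hy i, res_sum]
    simp only [Finset.sum_smul]
    rw [Finset.sum_comm]
    refine Finset.sum_congr rfl fun j _ => ?_
    rw [res_smul, ht' j, Finset.smul_sum]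
    refine Finset.sum_congr rfl fun i _ => ?_
    rw [mul_smul]
  · apply hφ (op V)
    refine Eq.trans ?_ (map_zero (φ.app (op V)).hom).symm
    refine (map_sum (φ.app (op V)).hom _ _).trans ?_
    have e₁ : ∀ i, φ.app (op V) ((∑ j, rC g (a i j) * b j k) • res P g.op (x i)) =
        ∑ j, b j k • res P' g.op (a i j • φ.app (op U) (x i)) := fun i => by
      refine (map_smul (φ.app (op V)).hom _ _).trans ?_
      rw [Finset.sum_smul]
      refine Finset.sum_congr rfl fun j _ => ?_
      rw [res_smul, ← app_res φ g.op (x i), mul_comm, mul_smul]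
    refine (Finset.sum_congr rfl fun i _ => e₁ i).trans ?_
    rw [Finset.sum_comm]
    simp only [← Finset.smul_sum, ← res_sum]
    have e₂ : ∀ j, b j k • res P' g.op (∑ i, a i j • φ.app (op U) (x i)) =
        -∑ q ∈ s, (b j k * rC g (c q j)) • res P' g.op q := fun j => by
      rw [eq_neg_of_add_eq_zero_left (hL j)]
      refine (congrArg (b j k • ·) (map_neg (P'.map g.op).hom _)).trans ?_
      refine (smul_neg (b j k) _).trans (congrArg Neg.neg ?_)
      refine (congrArg (b j k • ·) (map_sum (P'.map g.op).hom _ s)).trans ?_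
      rw [Finset.smul_sum]
      refine Finset.sum_congr rfl fun q _ => ?_
      refine (congrArg (b j k • ·) (res_smul P' g.op (c q j) q)).trans ?_
      rw [mul_smul]
    simp only [e₂, Finset.sum_neg_distrib]
    rw [Finset.sum_comm, neg_eq_zero]
    refine Finset.sum_eq_zero fun q hq => ?_
    rw [← Finset.sum_smul, hb q hq k, zero_smul]

/-- Sheafification sends locally injective maps to monomorphisms. -/
theorem mono_aP_map_of_isLocallyInjective {P Q : PMod O} (f : P ⟶ Q)
    [Presheaf.IsLocallyInjective J ((PresheafOfModules.toPresheaf _).map f)] : Mono ((aP O).map f) := by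
  apply (SheafOfModules.toSheaf (ModSite.ringSh O)).mono_of_mono_map
  haveI : Sheaf.IsLocallyInjective
      ((presheafToSheaf J AddCommGrpCat.{u}).map ((PresheafOfModules.toPresheaf _).map f)) :=
    (Presheaf.isLocallyInjective_presheafToSheaf_map_iff J _).2 inferInstance
  haveI : Mono ((presheafToSheaf J AddCommGrpCat.{u}).map ((PresheafOfModules.toPresheaf _).map f)) :=
    Sheaf.mono_of_isLocallyInjective _
  let e := PresheafOfModules.sheafificationCompToSheaf.{u} (J := J) (𝟙 (ModSite.ringSh O).obj)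
  have h : (SheafOfModules.toSheaf (ModSite.ringSh O)).map ((aP O).map f) ≫ (e.app Q).hom =
      (e.app P).hom ≫ (presheafToSheaf J AddCommGrpCat.{u}).map ((PresheafOfModules.toPresheaf _).map f) :=
    e.hom.naturality f
  haveI : Mono ((SheafOfModules.toSheaf (ModSite.ringSh O)).map ((aP O).map f) ≫ (e.app Q).hom) :=
    h ▸ @mono_comp _ _ _ _ _ (e.app P).hom inferInstance _ ‹Mono ((presheafToSheaf J AddCommGrpCat.{u}).map _)›
  exact mono_of_mono _ (e.app Q).hom

theorem injective_jP_map_app {G G' : ModSite.Mod O} (f : G ⟶ G') [Mono f] (V : Cᵒᵖ) :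
    Function.Injective (((jP O).map f).app V) := by
  haveI : (jP O).PreservesMonomorphisms := Functor.preservesMonomorphisms_of_adjunction (adjP O)
  exact (ModuleCat.mono_iff_injective _).1
    (inferInstanceAs (Mono ((PresheafOfModules.evaluation _ V).map ((jP O).map f))))

/-- The equational criterion implies flatness. -/
theorem isFlat_of_eqn {F : ModSite.Mod O} (hF : Eqn F) : ModSite.IsFlat F :=
  isFlat_of_preservesMono ⟨fun {G G'} f _ =>
    haveI := isLocallyInjective_whiskerRight hF ((jP O).map f) (injective_jP_map_app f)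
    mono_aP_map_of_isLocallyInjective ((jP O).map f ▷ (jP O).obj F)⟩

end ModSiteLib
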