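/-
The projection formula for extension by zero.
-/
import Groth.Agent.ModSiteLib.ExtZero
import Groth.Agent.ModSiteLib.FlatExact

set_option autoImplicit false
set_option linter.style.haveILetI false
set_option backward.isDefEq.respectTransparency false

universe u

open CategoryTheory Limits Opposite MonoidalCategory

namespace ModSiteLib

variable {C : Type u} [SmallCategory C] {J : GrothendieckTopology C} {O : Sheaf J CommRingCat.{u}} {U : C}

/-- Restriction of presheaves of modules is monoidal. -/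
noncomputable def resTensor (P Q : PMod O) :
    ((oRes O U).obj P ⊗ (oRes O U).obj Q : PMod (O.over U)) ⟶ (oRes O U).obj (P ⊗ Q) where
  app W := 𝟙 (P.obj (op W.unop.left) ⊗ Q.obj (op W.unop.left))
  naturality _ := ModuleCat.MonoidalCategory.tensor_ext (fun _ _ => rfl)

/-- The presheaf projection map. -/
noncomputable def oProj (G : PMod (O.over U)) (Q : PMod O) :
    (oLan O U).obj (G ⊗ (oRes O U).obj Q) ⟶ (oLan O U).obj G ⊗ Q :=
  (oLanEquiv _ _).symm ((oLanEquiv G _ (𝟙 _)) ▷ ((oRes O U).obj Q) ≫ resTensor _ Q)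

lemma oProj_app (G : PMod (O.over U)) (Q : PMod O) (V : Cᵒᵖ) :
    (oProj G Q).app V = Sigma.desc fun g => mι G V g ▷ Q.obj V := by
  refine Sigma.hom_ext _ _ fun g => ?_
  refine (Sigma.ι_desc _ g).trans (Eq.trans ?_ (Sigma.ι_desc _ g).symm)
  refine (Category.comp_id _).trans ?_
  refine Eq.trans (MonoidalCategory.tensorHom_id _ _) ?_
  exact congrArg (· ▷ Q.obj V) (Category.comp_id _)

lemma mι_oProj (G : PMod (O.over U)) (Q : PMod O) (V : Cᵒᵖ) (g : V.unop ⟶ U) :
    mι (G ⊗ (oRes O U).obj Q) V g ≫ (oProj G Q).app V = mι G V g ▷ Q.obj V := by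
  rw [oProj_app]
  exact Sigma.ι_desc _ g

instance isIso_oProj (G : PMod (O.over U)) (Q : PMod O) : IsIso (oProj G Q) := by
  haveI : ∀ V, IsIso ((oProj G Q).app V) := fun V => by
    rw [oProj_app]
    exact inferInstanceAs (IsIso (sigmaComparison (tensorRight (Q.obj V)) (mfib G V)))
  exact (PresheafOfModules.isoMk (fun V => asIso ((oProj G Q).app V))
    (fun V W f => (oProj G Q).naturality f)).isIso_hom

lemma oProj_natural_left {G G' : PMod (O.over U)} (a : G ⟶ G') (Q : PMod O) :
    (oLan O U).map (a ▷ (oRes O U).obj Q) ≫ oProj G' Q = oProj G Q ≫ (oLan O U).map a ▷ Q := by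
  ext V : 1
  refine Sigma.hom_ext _ _ fun g => ?_
  have h₁ : mι (G ⊗ (oRes O U).obj Q) V g ≫ ((oLan O U).map (a ▷ (oRes O U).obj Q)).app V =
      (a.app (op (Over.mk g)) ▷ Q.obj V) ≫ mι (G' ⊗ (oRes O U).obj Q) V g :=
    (Limits.Sigma.ι_map (f := mfib (G ⊗ (oRes O U).obj Q) V) (g := mfib (G' ⊗ (oRes O U).obj Q) V)
      (fun g => (a ▷ (oRes O U).obj Q).app (op (Over.mk g))) g).trans
      (congrArg (· ≫ mι (G' ⊗ (oRes O U).obj Q) V g) (MonoidalCategory.tensorHom_id (a.app (op (Over.mk g))) (Q.obj V)))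
  have h₂ : mι G V g ≫ ((oLan O U).map a).app V = a.app (op (Over.mk g)) ≫ mι G' V g :=
    Limits.Sigma.ι_map (f := mfib G V) (g := mfib G' V) (fun g => a.app (op (Over.mk g))) g
  refine ((Category.assoc _ _ _).symm.trans ((congrArg (· ≫ _) h₁).trans ((Category.assoc _ _ _).trans
    (congrArg (_ ≫ ·) (mι_oProj G' Q V g))))).trans ?_
  refine Eq.trans ?_ ((Category.assoc _ _ _).symm.trans (congrArg (· ≫ _) (mι_oProj G Q V g))).symm
  refine Eq.trans ?_ (congrArg (mι G V g ▷ Q.obj V ≫ ·) (MonoidalCategory.tensorHom_id _ _)).symm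
  refine (comp_whiskerRight _ _ _).symm.trans (Eq.trans ?_ (comp_whiskerRight _ _ _))
  exact congrArg (· ▷ Q.obj V) h₂.symm

lemma oProj_natural_right (G : PMod (O.over U)) {Q Q' : PMod O} (b : Q ⟶ Q') :
    (oLan O U).map (G ◁ (oRes O U).map b) ≫ oProj G Q' = oProj G Q ≫ (oLan O U).obj G ◁ b := by
  ext V : 1
  refine Sigma.hom_ext _ _ fun g => ?_
  have h₁ : mι (G ⊗ (oRes O U).obj Q) V g ≫ ((oLan O U).map (G ◁ (oRes O U).map b)).app V =
      (mfib G V g ◁ b.app V) ≫ mι (G ⊗ (oRes O U).obj Q') V g :=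
    (Limits.Sigma.ι_map (f := mfib (G ⊗ (oRes O U).obj Q) V) (g := mfib (G ⊗ (oRes O U).obj Q') V)
      (fun g => (G ◁ (oRes O U).map b).app (op (Over.mk g))) g).trans
      (congrArg (· ≫ mι (G ⊗ (oRes O U).obj Q') V g) (MonoidalCategory.id_tensorHom (mfib G V g) (b.app V)))
  refine ((Category.assoc _ _ _).symm.trans ((congrArg (· ≫ _) h₁).trans ((Category.assoc _ _ _).trans
    (congrArg (_ ≫ ·) (mι_oProj G Q' V g))))).trans ?_
  refine Eq.trans ?_ ((Category.assoc _ _ _).symm.trans (congrArg (· ≫ _) (mι_oProj G Q V g))).symm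
  refine Eq.trans ?_ (congrArg (mι G V g ▷ Q.obj V ≫ ·) (MonoidalCategory.id_tensorHom _ _)).symm
  exact MonoidalCategory.whisker_exchange _ _

section Sheaf

variable (U)

/-- The unit of sheafification tensored is inverted by sheafification. -/
instance isIso_aP_unit_whiskerRight (P Q : PMod O) :
    IsIso ((aP O).map ((adjP O).unit.app P ▷ Q)) :=
  isIso_tensorSh_map O Q _ (W_unit O P)

/-- The sheaf projection map. -/
noncomputable def projMap (G : ModSite.Mod (O.over U)) (N : ModSite.Mod O) :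
    (ModSite.extZero O U).obj (((ModSite.tensorBi (O.over U)).obj G).obj ((ModSite.restr O U).obj N)) ⟶
      ((ModSite.tensorBi O).obj ((ModSite.extZero O U).obj G)).obj N :=
  (sheafifyExtZeroIso O U).hom.app
      ((jP (O.over U)).obj G ⊗ (jP (O.over U)).obj ((ModSite.restr O U).obj N)) ≫
    (aP O).map ((oLan O U).map ((jP (O.over U)).obj G ◁ (restrPreIso O U).hom.app N) ≫
      oProj ((jP (O.over U)).obj G) ((jP O).obj N) ≫
      (adjP O).unit.app _ ▷ (jP O).obj N) ≫
    ((ModSite.tensorBi O).map ((extZeroIso O U).inv.app G)).app N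

instance isIso_projMap (G : ModSite.Mod (O.over U)) (N : ModSite.Mod O) : IsIso (projMap U G N) := by
  unfold projMap
  rw [Functor.map_comp, Functor.map_comp]
  infer_instance

lemma projMap_natural_left {G G' : ModSite.Mod (O.over U)} (a : G ⟶ G') (N : ModSite.Mod O) :
    (ModSite.extZero O U).map (((ModSite.tensorBi (O.over U)).map a).app ((ModSite.restr O U).obj N)) ≫
      projMap U G' N =
    projMap U G N ≫ ((ModSite.tensorBi O).map ((ModSite.extZero O U).map a)).app N := by
  let a' := (jP (O.over U)).map a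
  have h₁ : (ModSite.extZero O U).map ((aP (O.over U)).map (a' ▷ _)) ≫
      (sheafifyExtZeroIso O U).hom.app ((jP (O.over U)).obj G' ⊗ (jP (O.over U)).obj ((ModSite.restr O U).obj N)) =
      (sheafifyExtZeroIso O U).hom.app _ ≫ (aP O).map ((oLan O U).map (a' ▷ _)) :=
    (sheafifyExtZeroIso O U).hom.naturality (a' ▷ _)
  have h₂ : ((ModSite.tensorBi O).map ((extZeroIso O U).inv.app G)).app N ≫
      ((ModSite.tensorBi O).map ((ModSite.extZero O U).map a)).app N =
      (aP O).map ((jP O).map ((aP O).map ((oLan O U).map a')) ▷ (jP O).obj N) ≫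
        ((ModSite.tensorBi O).map ((extZeroIso O U).inv.app G')).app N := by
    rw [← NatTrans.comp_app, ← Functor.map_comp, ← (extZeroIso O U).inv.naturality a, Functor.map_comp,
      NatTrans.comp_app]
    rfl
  unfold projMap
  simp only [Category.assoc]
  rw [h₂]
  refine ((Category.assoc _ _ _).symm.trans (congrArg (· ≫ _) h₁)).trans ?_
  simp only [Category.assoc, Functor.map_comp]
  simp only [← Functor.map_comp_assoc]
  congr 3
  have h₃ : (adjP O).unit.app ((oLan O U).obj ((jP (O.over U)).obj G)) ▷ (jP O).obj N ≫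
      (jP O).map ((aP O).map ((oLan O U).map a')) ▷ (jP O).obj N =
      (oLan O U).map a' ▷ (jP O).obj N ≫ (adjP O).unit.app _ ▷ (jP O).obj N := by
    rw [← comp_whiskerRight, ← comp_whiskerRight]
    exact congrArg (· ▷ (jP O).obj N) ((adjP O).unit.naturality ((oLan O U).map a')).symm
  refine Eq.trans ?_ (congrArg ((oLan O U).map ((jP (O.over U)).obj G ◁ (restrPreIso O U).hom.app N) ≫ ·)
    (congrArg (oProj ((jP (O.over U)).obj G) ((jP O).obj N) ≫ ·) h₃)).symm
  refine (congrArg (· ≫ _) (((oLan O U).congr_map (MonoidalCategory.whisker_exchange a' _).symm).trans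
    ((oLan O U).map_comp _ _))).trans ?_
  refine (Category.assoc _ _ _).trans (congrArg (_ ≫ ·) ?_)
  exact (Category.assoc _ _ _).symm.trans
    ((congrArg (· ≫ _) (oProj_natural_left a' ((jP O).obj N))).trans (Category.assoc _ _ _))

lemma projMap_natural_right (G : ModSite.Mod (O.over U)) {N N' : ModSite.Mod O} (b : N ⟶ N') :
    (ModSite.extZero O U).map
        (((ModSite.tensorBi (O.over U)).obj G).map ((ModSite.restr O U).map b)) ≫ projMap U G N' =
    projMap U G N ≫ ((ModSite.tensorBi O).obj ((ModSite.extZero O U).obj G)).map b := by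
  let G' := (jP (O.over U)).obj G
  let b' := (jP (O.over U)).map ((ModSite.restr O U).map b)
  have h₁ : (ModSite.extZero O U).map ((aP (O.over U)).map (G' ◁ b')) ≫
      (sheafifyExtZeroIso O U).hom.app (G' ⊗ (jP (O.over U)).obj ((ModSite.restr O U).obj N')) =
      (sheafifyExtZeroIso O U).hom.app _ ≫ (aP O).map ((oLan O U).map (G' ◁ b')) :=
    (sheafifyExtZeroIso O U).hom.naturality (G' ◁ b')
  have h₂ : ((ModSite.tensorBi O).map ((extZeroIso O U).inv.app G)).app N ≫
      ((ModSite.tensorBi O).obj ((ModSite.extZero O U).obj G)).map b =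
      (aP O).map ((jP O).obj ((aP O).obj ((oLan O U).obj G')) ◁ (jP O).map b) ≫
        ((ModSite.tensorBi O).map ((extZeroIso O U).inv.app G)).app N' :=
    (((ModSite.tensorBi O).map ((extZeroIso O U).inv.app G)).naturality b).symm
  unfold projMap
  simp only [Category.assoc]
  rw [h₂]
  refine ((Category.assoc _ _ _).symm.trans (congrArg (· ≫ _) h₁)).trans ?_
  simp only [Category.assoc, Functor.map_comp]
  simp only [← Functor.map_comp_assoc]
  congr 3
  have h₃ : (adjP O).unit.app ((oLan O U).obj G') ▷ (jP O).obj N ≫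
      (jP O).obj ((aP O).obj ((oLan O U).obj G')) ◁ (jP O).map b =
      (oLan O U).obj G' ◁ (jP O).map b ≫ (adjP O).unit.app ((oLan O U).obj G') ▷ (jP O).obj N' :=
    (MonoidalCategory.whisker_exchange _ _).symm
  refine Eq.trans ?_ (congrArg ((oLan O U).map (G' ◁ (restrPreIso O U).hom.app N) ≫ ·)
    (congrArg (oProj G' ((jP O).obj N) ≫ ·) h₃)).symm
  refine (congrArg (· ≫ _) (((oLan O U).congr_map ((MonoidalCategory.whiskerLeft_comp G' b' _).symm.trans
    ((congrArg (G' ◁ ·) ((restrPreIso O U).hom.naturality b)).trans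
      (MonoidalCategory.whiskerLeft_comp G' _ _)))).trans
    ((oLan O U).map_comp _ _))).trans ?_
  refine (Category.assoc _ _ _).trans (congrArg (_ ≫ ·) ?_)
  exact (Category.assoc _ _ _).symm.trans
    ((congrArg (· ≫ _) (oProj_natural_right G' ((jP O).map b))).trans (Category.assoc _ _ _))

/-- The projection formula. -/
noncomputable def projIso (G : ModSite.Mod (O.over U)) (N : ModSite.Mod O) :
    (ModSite.extZero O U).obj (((ModSite.tensorBi (O.over U)).obj G).obj ((ModSite.restr O U).obj N)) ≅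
      ((ModSite.tensorBi O).obj ((ModSite.extZero O U).obj G)).obj N :=
  @asIso _ _ _ _ (projMap U G N) (isIso_projMap U G N)

end Sheaf

end ModSiteLib
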