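/-
Flatness and K-flatness under restriction and extension by zero.
-/
import Groth.Agent.ModSiteLib.ProjFormula
import Groth.Agent.ModSiteLib.KFlatCx

set_option autoImplicit false
set_option linter.style.haveILetI false

universe u

open CategoryTheory Limits Opposite HomologicalComplex

namespace ModSiteLib

variable {C : Type u} [SmallCategory C] {J : GrothendieckTopology C} {O : Sheaf J CommRingCat.{u}} (U : C)

/-- The projection formula, natural in the module on `C/U`. -/
noncomputable def projNatLeft (N : ModSite.Mod O) :
    (ModSite.tensorBi (O.over U)).flip.obj ((ModSite.restr O U).obj N) ⋙ ModSite.extZero O U ≅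
      ModSite.extZero O U ⋙ (ModSite.tensorBi O).flip.obj N :=
  NatIso.ofComponents (fun G => projIso U G N) (fun a => projMap_natural_left U a N)

/-- The projection formula, natural in the module on `C`. -/
noncomputable def projNatRight (G : ModSite.Mod (O.over U)) :
    ModSite.restr O U ⋙ (ModSite.tensorBi (O.over U)).obj G ⋙ ModSite.extZero O U ≅
      (ModSite.tensorBi O).obj ((ModSite.extZero O U).obj G) :=
  NatIso.ofComponents (fun N => projIso U G N) (fun b => projMap_natural_right U G b)

theorem isFlat_restr' {M : ModSite.Mod O} (hM : ModSite.IsFlat M) :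
    ModSite.IsFlat ((ModSite.restr O U).obj M) := by
  refine isFlat_of_preservesMono ⟨fun {G G'} f _ => ?_⟩
  haveI := preservesMonomorphisms_extZero O U
  haveI := preservesMono_flip_of_isFlat hM
  haveI : Mono ((ModSite.extZero O U).map
      (((ModSite.tensorBi (O.over U)).flip.obj ((ModSite.restr O U).obj M)).map f)) :=
    ((MorphismProperty.monomorphisms (ModSite.Mod O)).arrow_mk_iso_iff
      (Arrow.isoMk ((projNatLeft U M).app G) ((projNatLeft U M).app G')
        ((projNatLeft U M).hom.naturality f).symm)).2
      (inferInstanceAs (Mono ((ModSite.extZero O U ⋙ (ModSite.tensorBi O).flip.obj M).map f)))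
  exact mono_of_mono_map_extZero _

theorem isFlat_extZero' {M : ModSite.Mod (O.over U)} (hM : ModSite.IsFlat M) :
    ModSite.IsFlat ((ModSite.extZero O U).obj M) := by
  refine isFlat_of_preservesMono ?_
  haveI := preservesMonomorphisms_extZero O U
  haveI := preservesMono_of_isFlat hM
  haveI : (ModSite.restr O U).PreservesMonomorphisms :=
    Functor.preservesMonomorphisms_of_adjunction (ModSite.extZeroAdj O U)
  haveI : (ModSite.restr O U ⋙ (ModSite.tensorBi (O.over U)).obj M ⋙
      ModSite.extZero O U).PreservesMonomorphisms := inferInstance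
  exact Functor.PreservesMonomorphisms.of_iso
    (projNatRight U M ≪≫ (tensorFlipIso O ((ModSite.extZero O U).obj M)).symm)

/-- The structure sheaf is a left unit. -/
noncomputable def unitTensorIso (M : ModSite.Mod O) :
    ((ModSite.tensorBi O).obj (ModSite.unit O)).obj M ≅ M :=
  (aP O).mapIso (MonoidalCategory.leftUnitor ((jP O).obj M)) ≪≫ (asIso (adjP O).counit).app M

instance preservesColimitsOfSize_zero_extZero :
    PreservesColimitsOfSize.{0, 0} (ModSite.extZero O U) :=
  (ModSite.extZeroAdj O U).leftAdjoint_preservesColimits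

/-- The tensor product with a restricted module, as a bifunctor. -/
noncomputable abbrev tensorRestr (O : Sheaf J CommRingCat.{u}) (U : C) :
    ModSite.Mod (O.over U) ⥤ ModSite.Mod O ⥤ ModSite.Mod (O.over U) :=
  ModSite.tensorBi (O.over U) ⋙ (Functor.whiskeringLeft _ _ _).obj (ModSite.restr O U)

instance additive_tensorRestr_obj (X : ModSite.Mod (O.over U)) : ((tensorRestr O U).obj X).Additive :=
  inferInstanceAs (ModSite.restr O U ⋙ (ModSite.tensorBi (O.over U)).obj X).Additive

instance additive_tensorRestr : (tensorRestr O U).Additive := inferInstance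

instance hasMapBifunctor_tensorRestr (E : CochainComplex (ModSite.Mod (O.over U)) ℤ)
    (K : CochainComplex (ModSite.Mod O) ℤ) :
    HasMapBifunctor E K (tensorRestr O U) (ComplexShape.up ℤ) := fun _ => inferInstance

/-- Restriction inside the total complex. -/
noncomputable def totRestrIso (E : CochainComplex (ModSite.Mod (O.over U)) ℤ)
    (K : CochainComplex (ModSite.Mod O) ℤ) :
    mapBifunctor ((𝟭 (ModSite.Mod (O.over U))).mapHomologicalComplex (ComplexShape.up ℤ) |>.obj E)
      (((ModSite.restr O U).mapHomologicalComplex (ComplexShape.up ℤ)).obj K)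
      (ModSite.tensorBi (O.over U)) (ComplexShape.up ℤ) ≅
    ((𝟭 (ModSite.Mod (O.over U))).mapHomologicalComplex (ComplexShape.up ℤ)).obj
      (mapBifunctor E K (tensorRestr O U) (ComplexShape.up ℤ)) :=
  KFlatLib.totalMapIso (tensorRestr O U) (ModSite.tensorBi (O.over U)) (𝟭 _) (ModSite.restr O U) (𝟭 _)
    (fun _ _ => Iso.refl _) (fun _ _ => (Category.comp_id _).trans (Category.id_comp _).symm)
    (fun _ _ _ _ => (Category.comp_id _).trans (Category.id_comp _).symm) E K

/-- Extension by zero of a total complex. -/
noncomputable def totExtZeroIso (E : CochainComplex (ModSite.Mod (O.over U)) ℤ)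
    (K : CochainComplex (ModSite.Mod O) ℤ) :
    mapBifunctor (((ModSite.extZero O U).mapHomologicalComplex (ComplexShape.up ℤ)).obj E)
      (((𝟭 (ModSite.Mod O)).mapHomologicalComplex (ComplexShape.up ℤ)).obj K)
      (ModSite.tensorBi O) (ComplexShape.up ℤ) ≅
    ((ModSite.extZero O U).mapHomologicalComplex (ComplexShape.up ℤ)).obj
      (mapBifunctor E K (tensorRestr O U) (ComplexShape.up ℤ)) :=
  KFlatLib.totalMapIso (tensorRestr O U) (ModSite.tensorBi O) (ModSite.extZero O U) (𝟭 _)
    (ModSite.extZero O U) (fun G N => (projIso U G N).symm)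
    (fun {G G'} f N => by
      show _ ≫ (projIso U G' N).inv = (projIso U G N).inv ≫ _
      rw [Iso.comp_inv_eq, Category.assoc, Iso.eq_inv_comp]
      exact (projMap_natural_left U f N).symm)
    (fun G {N N'} g => by
      show _ ≫ (projIso U G N').inv = (projIso U G N).inv ≫ _
      rw [Iso.comp_inv_eq, Category.assoc, Iso.eq_inv_comp]
      exact (projMap_natural_right U G g).symm) E K

theorem isKFlat_restr' {K : CochainComplex (ModSite.Mod O) ℤ} (hK : ModSite.IsKFlat K) :
    ModSite.IsKFlat (((ModSite.restr O U).mapHomologicalComplex (ComplexShape.up ℤ)).obj K) := by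
  intro E hE
  haveI := preservesHomology_extZero O U
  let G := ModSite.extZero O U
  have hE' : Acy ((G.mapHomologicalComplex (ComplexShape.up ℤ)).obj E) := fun i =>
    (G.map_isZero (hE i)).of_iso ((E.sc i).mapHomologyIso G)
  have h1 : Acy ((G.mapHomologicalComplex (ComplexShape.up ℤ)).obj
      (mapBifunctor E K (tensorRestr O U) (ComplexShape.up ℤ))) :=
    acy_of_iso (totExtZeroIso U E K) (hK _ hE')
  have h2 : Acy (mapBifunctor E K (tensorRestr O U) (ComplexShape.up ℤ)) := fun i =>
    isZero_of_isZero_extZero ((h1 i).of_iso ((HomologicalComplex.sc _ i).mapHomologyIso G).symm)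
  exact acy_of_iso (totRestrIso U E K).symm h2

end ModSiteLib
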