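import Groth.Prelude.Def_ModSite
import Groth.Agent.ModSiteLib.TensorSheaf

/-!
# Free modules on objects of the site represent sections
-/

set_option autoImplicit false

universe u v w

open CategoryTheory Limits Opposite

namespace ModSiteLib

/-- Two objects with naturally equivalent hom-sets out of them are isomorphic. -/
noncomputable def isoOfHomEquiv {A : Type w} [Category.{v} A] {X Y : A}
    (e : ∀ M, (X ⟶ M) ≃ (Y ⟶ M))
    (he : ∀ {M N : A} (a : X ⟶ M) (p : M ⟶ N), e N (a ≫ p) = e M a ≫ p) : X ≅ Y where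
  hom := (e Y).symm (𝟙 Y)
  inv := e X (𝟙 X)
  hom_inv_id := by
    apply (e X).injective
    rw [he, Equiv.apply_symm_apply, Category.id_comp]
  inv_hom_id := by
    rw [← he, Category.id_comp, Equiv.apply_symm_apply]

variable {C : Type u} [SmallCategory C] {J : GrothendieckTopology C} {O : Sheaf J CommRingCat.{u}}

/-- Sections over the terminal object of `C/X`. -/
noncomputable def overSectionsEquiv (M : ModSite.Mod O) (X : C) :
    ((ModSite.restr O X).obj M).sections ≃ M.val.obj (op X) where
  toFun s := s.val (op (Over.mk (𝟙 X)))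
  invFun m := ⟨fun V => M.val.map V.unop.hom.op m, fun {V W} g => by
    change M.val.map g.unop.left.op (M.val.map V.unop.hom.op m) = M.val.map W.unop.hom.op m
    rw [← PresheafOfModules.map_comp_apply]
    exact PresheafOfModules.congr_map_apply M.val
      (show V.unop.hom.op ≫ g.unop.left.op = W.unop.hom.op by rw [← op_comp, Over.w g.unop]) m⟩
  left_inv s := by
    refine Subtype.ext (funext fun V => ?_)
    exact s.2 (Over.homMk (U := V.unop) (V := Over.mk (𝟙 X)) V.unop.hom (by simp)).op
  right_inv m := by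
    change M.val.map (𝟙 X).op m = m
    rw [op_id, PresheafOfModules.map_id]
    rfl

/-- Maps out of `j_{X!} O_X` are sections over `X`. -/
noncomputable def freeOnEquiv (M : ModSite.Mod O) (X : C) :
    (ModSite.freeOn O X ⟶ M) ≃ M.val.obj (op X) :=
  (((ModSite.extZeroAdj O X).homEquiv _ M).trans
    ((ModSite.restr O X).obj M).unitHomEquiv).trans (overSectionsEquiv M X)

lemma freeOnEquiv_comp {M N : ModSite.Mod O} (X : C) (a : ModSite.freeOn O X ⟶ M) (p : M ⟶ N) :
    freeOnEquiv N X (a ≫ p) = p.val.app (op X) (freeOnEquiv M X a) := by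
  simp only [freeOnEquiv, Equiv.trans_apply]
  rw [(ModSite.extZeroAdj O X).homEquiv_naturality_right, SheafOfModules.unitHomEquiv_comp_apply]
  rfl

variable (O)

lemma freeOn_isSeparating (G : Set C)
    (hG : ∀ X : C, ∃ (ι : Type u) (Y : ι → C) (f : ∀ i, Y i ⟶ X),
      Sieve.ofArrows Y f ∈ J X ∧ ∀ i, Y i ∈ G) :
    (ObjectProperty.ofObj fun X : G => ModSite.freeOn O (X : C)).IsSeparating := by
  intro M N f g h
  have hsec : ∀ (X : C), X ∈ G → ∀ m : M.val.obj (op X), f.val.app _ m = g.val.app _ m := by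
    intro X hX m
    obtain ⟨a, rfl⟩ := (freeOnEquiv M X).surjective m
    rw [← freeOnEquiv_comp, ← freeOnEquiv_comp]
    exact congrArg _ (h _ (ObjectProperty.ofObj_apply _ (⟨X, hX⟩ : G)) a)
  apply SheafOfModules.hom_ext
  ext1 ⟨X⟩
  ext m
  obtain ⟨ι, Y, q, hq, hY⟩ := hG X
  refine Presheaf.IsSheaf.isSeparated N.isSheaf X (Sieve.ofArrows Y q) hq _ _ ?_
  rintro W w ⟨_, a, _, ⟨i⟩, rfl⟩
  change N.val.map (a ≫ q i).op (f.val.app _ m) = N.val.map (a ≫ q i).op (g.val.app _ m)
  rw [op_comp, PresheafOfModules.map_comp_apply, PresheafOfModules.map_comp_apply]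
  exact congrArg (N.val.map a.op) (((PresheafOfModules.naturality_apply f.val (q i).op m).symm.trans
    (hsec _ (hY i) _)).trans (PresheafOfModules.naturality_apply g.val (q i).op m))

lemma freeOn_isDetecting (G : Set C)
    (hG : ∀ X : C, ∃ (ι : Type u) (Y : ι → C) (f : ∀ i, Y i ⟶ X),
      Sieve.ofArrows Y f ∈ J X ∧ ∀ i, Y i ∈ G) :
    (ObjectProperty.ofObj fun X : G => ModSite.freeOn O (X : C)).IsDetecting :=
  (freeOn_isSeparating O G hG).isDetecting

/-- `f^*` of the free module on `X` is the free module on `f.fn X`. -/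
noncomputable def pullFreeOnIso {D : Type u} [SmallCategory D] {K : GrothendieckTopology D}
    {O_D : Sheaf K CommRingCat.{u}} (f : ModSite.RMor O O_D) (X : D) :
    f.pull.obj (ModSite.freeOn O_D X) ≅ ModSite.freeOn O (f.fn.obj X) :=
  isoOfHomEquiv
    (fun M => ((f.adj.homEquiv _ M).trans (freeOnEquiv (f.push.obj M) X)).trans
      (freeOnEquiv M (f.fn.obj X)).symm)
    (fun {M N} a p => by
      apply (freeOnEquiv N (f.fn.obj X)).injective
      rw [freeOnEquiv_comp]
      refine ((freeOnEquiv N _).apply_symm_apply _).trans ?_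
      refine Eq.trans ?_ (congrArg _ ((freeOnEquiv M _).apply_symm_apply _).symm)
      change freeOnEquiv (f.push.obj N) X (f.adj.homEquiv _ N (a ≫ p)) =
        (f.push.map p).val.app (op X) (freeOnEquiv (f.push.obj M) X (f.adj.homEquiv _ M a))
      rw [f.adj.homEquiv_naturality_right, freeOnEquiv_comp])

end ModSiteLib
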