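/-
Flat modules satisfy the equational criterion.
-/
import Groth.Agent.ModSiteLib.EqnFlat
import Groth.Agent.ModSiteLib.FlatLocal
import Groth.Agent.ModSiteLib.FreeOn
import Mathlib.CategoryTheory.Limits.Preserves.Shapes.Kernels
import Mathlib.CategoryTheory.Preadditive.Biproducts

set_option autoImplicit false
set_option linter.style.haveILetI false
set_option backward.isDefEq.respectTransparency false

universe u

open CategoryTheory Limits Opposite MonoidalCategory

namespace ModSiteLib

variable {C : Type u} [SmallCategory C] {J : GrothendieckTopology C} {O : Sheaf J CommRingCat.{u}}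

lemma ap_comp {M N P : ModSite.Mod O} (a : M ⟶ N) (b : N ⟶ P) (V : C) (m : Sec M V) :
    ap (a ≫ b) V m = ap b V (ap a V m) := rfl

lemma ap_id (M : ModSite.Mod O) (V : C) (m : Sec M V) : ap (𝟙 M) V m = m := rfl

lemma ap_sum {M N : ModSite.Mod O} (a : M ⟶ N) (V : C) {ι : Type*} (s : Finset ι) (m : ι → Sec M V) :
    ap a V (∑ i ∈ s, m i) = ∑ i ∈ s, ap a V (m i) := map_sum (((jP O).map a).app (op V)).hom m s

lemma ap_zero {M N : ModSite.Mod O} (a : M ⟶ N) (V : C) : ap a V 0 = 0 :=
  map_zero (((jP O).map a).app (op V)).hom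

lemma ap_smul {M N : ModSite.Mod O} (a : M ⟶ N) (V : C) (r : O.obj.obj (op V)) (m : Sec M V) :
    ap a V (r • m) = r • ap a V m := map_smul (((jP O).map a).app (op V)).hom r m

lemma shT_sum_right (M N : ModSite.Mod O) {V : C} (m : Sec M V) {ι : Type*} (s : Finset ι)
    (n : ι → Sec N V) : shT M N m (∑ i ∈ s, n i) = ∑ i ∈ s, shT M N m (n i) := by
  show ((adjP O).unit.app _).app (op V) _ = _
  rw [TensorProduct.tmul_sum]
  exact map_sum (((adjP O).unit.app ((jP O).obj M ⊗ (jP O).obj N)).app (op V)).hom _ _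

lemma ap_unitTensorIso (F : ModSite.Mod O) {V : C} (r : O.obj.obj (op V)) (m : Sec F V) :
    ap (unitTensorIso F).hom V (shT (ModSite.unit O) F (r : Sec (ModSite.unit O) V) m) = r • m := by
  show ap ((adjP O).counit.app F) V (ap ((aP O).map (leftUnitor ((jP O).obj F)).hom) V _) = _
  refine (congrArg (ap ((adjP O).counit.app F) V) (ap_aP_map (λ_ ((jP O).obj F)).hom V _)).trans ?_
  exact congr($((adjP O).right_triangle_components F).app (op V) (r • m))

lemma bil_zero_right {M N : ModSite.Mod O} {V : C} (m : Sec M V) :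
    shT M N m 0 = 0 := by
  have h := shT_add_right M N m 0 0
  rw [add_zero] at h
  exact left_eq_add.mp h

lemma ap_homSum {M N : ModSite.Mod O} {ι : Type*} [Fintype ι] (a : ι → (M ⟶ N)) (V : C)
    (m : Sec M V) : ap (∑ i, a i) V m = ∑ i, ap (a i) V m := by
  haveI : (jP O).Additive := inferInstance
  show ((jP O).map (∑ i, a i)).app (op V) m = _
  rw [Functor.map_sum]
  induction (Finset.univ : Finset ι) using Finset.cons_induction with
  | empty => rfl
  | cons i s hi ih => rw [Finset.sum_cons, Finset.sum_cons, ← ih]; rfl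

lemma ap_unit (a : ModSite.unit O ⟶ ModSite.unit O) {V X : C} (g : V ⟶ X) (r : O.obj.obj (op V)) :
    (ap a V r : O.obj.obj (op V)) = r * rC g (ap a X (1 : O.obj.obj (op X))) := by
  refine Eq.trans (congrArg (ap a V) (mul_one r).symm) ?_
  refine (ap_smul a V r (1 : O.obj.obj (op V))).trans ?_
  refine congrArg (r * ·) ?_
  refine Eq.trans ?_ (app_res ((jP O).map a) g.op (1 : O.obj.obj (op X)))
  exact congrArg (ap a V) (map_one (O.obj.map g.op).hom).symm

/-- Flat modules satisfy the equational criterion for endomorphisms of the unit. -/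
theorem eqn_global {F : ModSite.Mod O} (hF : ModSite.IsFlat F) (X : C) {n : ℕ}
    (f : Fin n → (ModSite.unit O ⟶ ModSite.unit O)) (s : Fin n → Sec F X)
    (hrel : ∑ j, (ap (f j) X (1 : O.obj.obj (op X)) : O.obj.obj (op X)) • s j = 0) :
    ∃ S ∈ J X, ∀ ⦃V : C⦄ (g : V ⟶ X), S g →
      ∃ (l : ℕ) (t : Fin l → Sec F V) (a : Fin n → Fin l → O.obj.obj (op V)),
        (∀ j, res ((jP O).obj F) g.op (s j) = ∑ k, a j k • t k) ∧
        (∀ k, ∑ j, a j k * rC g (ap (f j) X (1 : O.obj.obj (op X))) = 0) := by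
  haveI : HasFiniteBiproducts (ModSite.Mod O) := HasFiniteBiproducts.of_hasFiniteProducts
  let T := (ModSite.tensorBi O).flip.obj F
  let φ : (⨁ fun _ : Fin n => ModSite.unit O) ⟶ ModSite.unit O := biproduct.desc f
  let c : Fin n → O.obj.obj (op X) := fun j => ap (f j) X (1 : O.obj.obj (op X))
  let z : Sec (T.obj (⨁ fun _ : Fin n => ModSite.unit O)) X := ∑ j,
    ap (T.map (biproduct.ι (fun _ : Fin n => ModSite.unit O) j)) X
      (shT (ModSite.unit O) F (1 : O.obj.obj (op X)) (s j))
  have hz : ap (T.map φ) X z = 0 := by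
    rw [ap_sum]
    have e : ∀ j, ap (T.map φ) X (ap (T.map (biproduct.ι (fun _ : Fin n => ModSite.unit O) j)) X
        (shT (ModSite.unit O) F (1 : O.obj.obj (op X)) (s j))) =
        shT (ModSite.unit O) F (1 : O.obj.obj (op X)) (c j • s j) := fun j => by
      rw [← ap_comp, ← T.map_comp, show biproduct.ι _ j ≫ φ = f j from biproduct.ι_desc _ _]
      refine (ap_tensorBi₁ (f j) F _ (s j)).trans ?_
      refine Eq.trans ?_ (shT_smul_right (ModSite.unit O) F (c j) _ (s j)).symm
      refine Eq.trans ?_ (shT_smul_left (ModSite.unit O) F (c j) _ (s j))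
      exact congrArg (fun y => shT (ModSite.unit O) F y (s j)) (mul_one (c j)).symm
    simp only [e]
    rw [← shT_sum_right, hrel]
    exact bil_zero_right _
  haveI : PreservesFiniteLimits T := hF.1
  haveI : T.Additive := inferInstance
  haveI : (jP O).IsRightAdjoint := (adjP O).isRightAdjoint
  haveI : PreservesLimitsOfSize.{0, 0} (jP O) := (adjP O).rightAdjoint_preservesLimits
  let G := jP O ⋙ PresheafOfModules.evaluation _ (op X)
  haveI : PreservesFiniteLimits G := inferInstance
  haveI : G.PreservesZeroMorphisms := inferInstance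
  haveI : (T ⋙ G).PreservesZeroMorphisms := inferInstance
  haveI : PreservesFiniteLimits (T ⋙ G) := comp_preservesFiniteLimits T G
  have hk := KernelFork.mapIsLimit _ (kernelIsKernel φ) (T ⋙ G)
  obtain ⟨m, hm⟩ := KernelFork.IsLimit.lift' hk
    (ModuleCat.ofHom (LinearMap.toSpanSingleton ((O.obj ⋙ forget₂ CommRingCat.{u} RingCat.{u}).obj (op X))
      ((T ⋙ G).obj (⨁ fun _ : Fin n => ModSite.unit O)) z))
    (ModuleCat.hom_ext (LinearMap.ext_ring (by
      show ap (T.map φ) X ((1 : (O.obj ⋙ forget₂ CommRingCat.{u} RingCat.{u}).obj (op X)) • z) = 0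
      rw [one_smul]
      exact hz)))
  let w : Sec (T.obj (kernel φ)) X := m (1 : (O.obj ⋙ forget₂ CommRingCat.{u} RingCat.{u}).obj (op X))
  have hw : ap (T.map (kernel.ι φ)) X w = z :=
    (congrArg (fun q => q.hom (1 : (O.obj ⋙ forget₂ CommRingCat.{u} RingCat.{u}).obj (op X))) hm).trans (one_smul _ z)
  have hW := W_unit O ((jP O).obj (kernel φ) ⊗ (jP O).obj F)
  rw [GrothendieckTopology.W_iff_isLocallyBijective] at hW
  haveI := hW.2
  obtain ⟨S, hS, hq⟩ := exists_covering_preimage J
    ((adjP O).unit.app ((jP O).obj (kernel φ) ⊗ (jP O).obj F)) (X := X) w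
  refine ⟨S, hS, fun V g hg => ?_⟩
  obtain ⟨q, hq⟩ := hq g hg
  obtain ⟨ma, hma⟩ := TensorProduct.exists_finset (R := O.obj.obj (op V)) q
  let e := (Fintype.equivFin ma).symm
  let k : Fin (Fintype.card ma) → Sec (kernel φ) V := fun l => (e l).1.1
  let t : Fin (Fintype.card ma) → Sec F V := fun l => (e l).1.2
  have hres : res ((jP O).obj (T.obj (kernel φ))) g.op w = ∑ l, shT (kernel φ) F (k l) (t l) := by
    refine hq.symm.trans ?_
    rw [hma, ← Finset.sum_coe_sort ma]
    refine (map_sum (((adjP O).unit.app ((jP O).obj (kernel φ) ⊗ (jP O).obj F)).app (op V)).hom _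
      _).trans ?_
    exact (e.sum_comp fun q : ma => shT (kernel φ) F q.1.1 q.1.2).symm
  refine ⟨_, t, fun i l => ap (kernel.ι φ ≫ biproduct.π _ i) V (k l), fun i => ?_, fun l => ?_⟩
  · have e₁ : ap (T.map (biproduct.π (fun _ : Fin n => ModSite.unit O) i)) X z =
        shT (ModSite.unit O) F (1 : O.obj.obj (op X)) (s i) := by
      rw [ap_sum, Finset.sum_eq_single i]
      · rw [← ap_comp, ← T.map_comp, biproduct.ι_π_self, T.map_id]
        rfl
      · intro j _ hj
        rw [← ap_comp, ← T.map_comp, biproduct.ι_π_ne _ hj, T.map_zero]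
        rfl
      · simp
    have e₂ : ap (T.map (kernel.ι φ ≫ biproduct.π _ i)) X w =
        shT (ModSite.unit O) F (1 : O.obj.obj (op X)) (s i) := by
      rw [T.map_comp, ap_comp, hw, e₁]
    have e₃ := congrArg (res ((jP O).obj (tens (ModSite.unit O) F)) g.op) e₂
    replace e₃ := ((congrArg (ap (T.map (kernel.ι φ ≫ biproduct.π _ i)) V) hres.symm).trans
      (app_res ((jP O).map (T.map (kernel.ι φ ≫ biproduct.π _ i))) g.op w)).trans e₃
    have e₄ := congrArg (ap (unitTensorIso F).hom V)
      ((ap_sum _ V Finset.univ _).symm.trans (e₃.trans (res_shT _ _ g _ _)))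
    rw [ap_sum] at e₄
    refine Eq.trans ?_ (e₄.symm.trans (Finset.sum_congr rfl fun l _ =>
      (congrArg (ap (unitTensorIso F).hom V) (ap_tensorBi₁ _ F (k l) (t l))).trans
        (ap_unitTensorIso F _ (t l))))
    refine Eq.trans ?_ (ap_unitTensorIso F _ _).symm
    refine Eq.trans (one_smul (O.obj.obj (op V)) _).symm ?_
    exact congrArg (· • res ((jP O).obj F) g.op (s i)) (map_one (O.obj.map g.op).hom).symm
  · have e₁ : (∑ i, (kernel.ι φ ≫ biproduct.π _ i) ≫ f i) = 0 := by
      refine Eq.trans ?_ (kernel.condition φ)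
      simp only [φ, biproduct.desc_eq, Preadditive.comp_sum, Category.assoc]
    have e₂ : ∀ i, ap ((kernel.ι φ ≫ biproduct.π _ i) ≫ f i) V (k l) =
        @HMul.hMul (O.obj.obj (op V)) (O.obj.obj (op V)) (O.obj.obj (op V)) _
          (ap (kernel.ι φ ≫ biproduct.π _ i) V (k l)) (rC g (c i)) := fun i => by
      rw [ap_comp]
      exact ap_unit (f i) g _
    refine ((Finset.sum_congr rfl fun i _ => (e₂ i).symm).trans ?_)
    exact (ap_homSum _ V (k l)).symm.trans (congrArg (fun a => ap a V (k l)) e₁)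

end ModSiteLib

namespace ModSiteLib

variable {C : Type u} [SmallCategory C] {J : GrothendieckTopology C} {O : Sheaf J CommRingCat.{u}}

/-- Endomorphisms of the unit on `C/U` from sections over `U`. -/
noncomputable def endOfSection (U : C) (r : O.obj.obj (op U)) :
    ModSite.unit (O.over U) ⟶ ModSite.unit (O.over U) :=
  (ModSite.unit (O.over U)).unitHomEquiv.symm
    ((overSectionsEquiv (ModSite.unit O) U).symm r)

lemma ap_endOfSection (U : C) (r : O.obj.obj (op U)) :
    (ap (endOfSection U r) (Over.mk (𝟙 U)) (1 : O.obj.obj (op U)) : O.obj.obj (op U)) = r :=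
  (congrArg (fun σ : (ModSite.unit (O.over U)).sections => σ.val (op (Over.mk (𝟙 U))))
    ((ModSite.unit (O.over U)).unitHomEquiv.apply_symm_apply _)).trans
    ((overSectionsEquiv (ModSite.unit O) U).apply_symm_apply r)

/-- Flat modules satisfy the equational criterion. -/
theorem eqn_of_isFlat {F : ModSite.Mod O} (hF : ModSite.IsFlat F) : Eqn F := by
  intro U n f s hrel
  obtain ⟨S, hS, hSg⟩ := eqn_global (O := O.over U) (isFlat_restr' U hF) (Over.mk (𝟙 U))
    (fun j => endOfSection U (f j)) s (by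
      refine Eq.trans (Finset.sum_congr rfl fun j _ => ?_) hrel
      exact congrArg (· • s j) (ap_endOfSection U (f j)))
  refine ⟨Sieve.overEquiv (Over.mk (𝟙 U)) S, hS, fun V g hg => ?_⟩
  rw [Sieve.overEquiv_iff] at hg
  obtain ⟨l, t, a, ht, ha⟩ := hSg (Over.homMk g : Over.mk (g ≫ (Over.mk (𝟙 U)).hom) ⟶ Over.mk (𝟙 U)) hg
  refine ⟨l, t, a, ht, fun k => ?_⟩
  refine Eq.trans (Finset.sum_congr rfl fun j _ => ?_) (ha k)
  exact congrArg (fun x => (show O.obj.obj (op V) from a j k) * rC g x) (ap_endOfSection U (f j)).symm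

/-- The equational criterion of flatness. -/
theorem isFlat_iff_eqn (F : ModSite.Mod O) : ModSite.IsFlat F ↔ Eqn F :=
  ⟨eqn_of_isFlat, isFlat_of_eqn⟩

end ModSiteLib
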