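/-
Local lifting along a morphism of sites with exact pullback.
-/
import Groth.Agent.ModSiteLib.SetPullProd
import Mathlib.CategoryTheory.Sites.Closed
import Mathlib.CategoryTheory.Limits.Types.Equalizers

set_option autoImplicit false
set_option linter.style.haveILetI false
set_option backward.isDefEq.respectTransparency false

universe u

open CategoryTheory Limits Opposite Functor

namespace Groth.Agent.ModSiteLib.SetPull

section Loc

variable {C : Type u} [SmallCategory C] (J : GrothendieckTopology C)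

/-- A property of arrows into `V` holds locally. -/
def Loc (V : C) (p : ∀ ⦃V' : C⦄, (V' ⟶ V) → Prop) : Prop :=
  ∃ S ∈ J V, ∀ ⦃V' : C⦄ (g : V' ⟶ V), S g → p g

variable {J}

theorem Loc.of_forall {V : C} {p : ∀ ⦃V' : C⦄, (V' ⟶ V) → Prop} (h : ∀ ⦃V' : C⦄ (g : V' ⟶ V), p g) :
    Loc J V p :=
  ⟨⊤, J.top_mem V, fun _ g _ => h g⟩

theorem Loc.mono {V : C} {p q : ∀ ⦃V' : C⦄, (V' ⟶ V) → Prop} (h : Loc J V p)
    (hpq : ∀ ⦃V' : C⦄ (g : V' ⟶ V), p g → q g) : Loc J V q := by
  obtain ⟨S, hS, hp⟩ := h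
  exact ⟨S, hS, fun _ g hg => hpq g (hp g hg)⟩

theorem Loc.bind {V : C} {p q : ∀ ⦃V' : C⦄, (V' ⟶ V) → Prop} (h : Loc J V p)
    (hpq : ∀ ⦃V' : C⦄ (g : V' ⟶ V), p g → Loc J V' fun _ g' => q (g' ≫ g)) : Loc J V q := by
  obtain ⟨S, hS, hp⟩ := h
  choose R hR hq using fun (V' : C) (g : V' ⟶ V) (hg : S g) => hpq g (hp g hg)
  refine ⟨Sieve.bind S (fun V' g hg => R V' g hg), J.bind_covering hS (fun V' g hg => hR V' g hg), ?_⟩
  rintro W _ ⟨V', g', g, hg, hg', rfl⟩
  exact hq V' g hg g' hg'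

theorem Loc.and {V : C} {p q : ∀ ⦃V' : C⦄, (V' ⟶ V) → Prop} (hp : Loc J V p) (hq : Loc J V q) :
    Loc J V fun _ g => p g ∧ q g := by
  obtain ⟨S, hS, hp⟩ := hp
  obtain ⟨T, hT, hq⟩ := hq
  exact ⟨S ⊓ T, J.intersection_covering hS hT, fun _ g hg => ⟨hp g hg.1, hq g hg.2⟩⟩

theorem Loc.forall_finset {V : C} {ι : Type*} (s : Finset ι)
    {p : ι → ∀ ⦃V' : C⦄, (V' ⟶ V) → Prop}
    (hp : ∀ i ∈ s, Loc J V (p i)) : Loc J V fun _ g => ∀ i ∈ s, p i g := by
  classical
  induction s using Finset.induction with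
  | empty => exact Loc.of_forall fun _ _ i hi => absurd hi (by simp)
  | @insert a s _ ih =>
    refine ((hp a (Finset.mem_insert_self a s)).and
      (ih fun i hi => hp i (Finset.mem_insert_of_mem hi))).mono fun V' g h i hi => ?_
    rcases Finset.mem_insert.1 hi with rfl | hi'
    · exact h.1
    · exact h.2 i hi'

end Loc

variable {C D : Type u} [SmallCategory C] [SmallCategory D] {J : GrothendieckTopology C}
  {K : GrothendieckTopology D} (fn : D ⥤ C) [fn.IsContinuous K J]
  {A : Dᵒᵖ ⥤ Type u} {A' : Cᵒᵖ ⥤ Type u} (κ : A ⟶ fn.op ⋙ A')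

/-- If restriction along `κ` is injective for all sheaves, then `κ` is locally jointly surjective. -/
theorem loc_lift (hinj : ∀ P : Sheaf J (Type u), Function.Injective (restrMap fn κ P)) (V : C)
    (a : A'.obj (op V)) :
    Loc J V fun V' g => ∃ (W : D) (h : V' ⟶ fn.obj W) (q : A.obj (op W)),
      A'.map g.op a = A'.map h.op (κ.app (op W) q) := by
  let Ω : Sheaf J (Type u) := ⟨(Functor.closedSieves J).toFunctor,
    (isSheaf_iff_isSheaf_of_type _ _).2 (classifier_isSheaf J)⟩
  let S : ∀ (Z : C), A'.obj (op Z) → Sieve Z := fun Z b =>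
    { arrows := fun V' g => ∃ (W : D) (h : V' ⟶ fn.obj W) (q : A.obj (op W)),
        A'.map g.op b = A'.map h.op (κ.app (op W) q)
      downward_closed := by
        rintro V' V'' g ⟨W, h, q, e⟩ g'
        refine ⟨W, g' ≫ h, q, ?_⟩
        rw [op_comp, op_comp, A'.map_comp, A'.map_comp]
        exact congrArg (A'.map g'.op) e }
  have hS : ∀ {Z Z' : C} (k : Z' ⟶ Z) (b : A'.obj (op Z)),
      S Z' (A'.map k.op b) = (S Z b).pullback k := fun {Z Z'} k b => by
    ext V' g
    show (∃ (W : D) (h : V' ⟶ fn.obj W) (q : A.obj (op W)), A'.map g.op (A'.map k.op b) = _) ↔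
      ∃ (W : D) (h : V' ⟶ fn.obj W) (q : A.obj (op W)), A'.map (g ≫ k).op b = _
    rw [op_comp, A'.map_comp]
    rfl
  let φ₁ : A' ⟶ Ω.obj :=
    { app := fun Z => ↾fun b => ⟨J.close (S Z.unop b), J.close_isClosed _⟩
      naturality := fun Z Z' k => by
        ext b
        apply Subtype.ext
        show J.close (S Z'.unop (A'.map k.unop.op b)) = (J.close (S Z.unop b)).pullback k.unop
        rw [hS, J.pullback_close] }
  let φ₂ : A' ⟶ Ω.obj :=
    { app := fun Z => ↾fun _ => ⟨(⊤ : Sieve Z.unop), fun _ _ _ => trivial⟩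
      naturality := fun Z Z' k => by
        ext b
        apply Subtype.ext
        exact (Sieve.pullback_top).symm }
  have e : φ₁ = φ₂ := hinj Ω (by
    ext W q
    apply Subtype.ext
    show J.close (S (fn.obj W.unop) (κ.app W q)) = ⊤
    have : S (fn.obj W.unop) (κ.app W q) = ⊤ := by
      rw [← Sieve.id_mem_iff_eq_top]
      exact ⟨W.unop, 𝟙 _, q, rfl⟩
    rw [this, J.close_eq_top_iff_mem]
    exact J.top_mem _)
  have h := congrArg (fun φ : A' ⟶ Ω.obj => ((φ.app (op V)) a).1) e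
  exact ⟨S V a, (J.close_eq_top_iff_mem _).1 h, fun _ _ hg => hg⟩

/-- A cover lifts locally along `fn`. -/
theorem loc_lift_cover {W : D} {T : Sieve W} (hT : T ∈ K W) {V : C} (h : V ⟶ fn.obj W) :
    Loc J V fun V' g => ∃ (W' : D) (h' : V' ⟶ fn.obj W') (k : W' ⟶ W),
      T k ∧ g ≫ h = h' ≫ fn.map k := by
  let κT : T.functor ⟶ fn.op ⋙ yoneda.obj (fn.obj W) :=
    { app := fun Z => ↾fun k => fn.map k.1
      naturality := fun Z Z' g => by
        ext k
        exact fn.map_comp g.unop k.1 }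
  refine (loc_lift (J := J) fn κT (fun P φ φ' he => ?_) V h).mono fun V' g ⟨W', h', k, e⟩ =>
    ⟨W', h', k.1, k.2, e⟩
  refine yonedaEquiv.injective ?_
  refine Presieve.IsSeparatedFor.ext ((isSheaf_iff_isSheaf_of_type _ _).1
    ((fn.sheafPushforwardContinuous (Type u) K J).obj P).2 _ hT).isSeparatedFor fun W' k hk => ?_
  have h₁ := congrArg (fun t : T.functor ⟶ fn.op ⋙ P.obj => t.app (op W') (⟨k, hk⟩ : { g : W' ⟶ W // T g })) he
  show P.obj.map (fn.map k).op (φ.app _ (𝟙 _)) = P.obj.map (fn.map k).op (φ'.app _ (𝟙 _))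
  rw [← NatTrans.naturality_apply φ, ← NatTrans.naturality_apply φ']
  have h₂ : (yoneda.obj (fn.obj W)).map (fn.map k).op (𝟙 (fn.obj W)) = fn.map k := Category.comp_id _
  rw [h₂]
  exact h₁

/-- Locally, two maps to images of objects factor through a common one. -/
theorem loc_lift_pair [PreservesFiniteLimits (fn.sheafPullback (Type u) K J)] {X Y : D} {V : C}
    (a : V ⟶ fn.obj X) (b : V ⟶ fn.obj Y) :
    Loc J V fun V' g => ∃ (W : D) (h : V' ⟶ fn.obj W) (p : W ⟶ X) (q : W ⟶ Y),
      g ≫ a = h ≫ fn.map p ∧ g ≫ b = h ≫ fn.map q := by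
  refine (loc_lift (J := J) fn (κ₂ fn X Y) (fun P => (bijective_restrMap_κ₂ (K := K) fn X Y P).1) V
    (show (hh (fn.obj X) (fn.obj Y)).obj (op V) from (a, b))).mono fun V' g ⟨W, h, q, e⟩ =>
      ⟨W, h, q.1, q.2, congrArg Prod.fst e, congrArg Prod.snd e⟩

section Eq

variable {E : Type u} [SmallCategory E] {X Y : E} (b b' : Y ⟶ X)

/-- The presheaf equalizer of two maps of representables. -/
def eqP : Eᵒᵖ ⥤ Type u where
  obj Z := { c : Z.unop ⟶ Y // c ≫ b = c ≫ b' }
  map g := ↾fun c => ⟨g.unop ≫ c.1, by rw [Category.assoc, Category.assoc, c.2]⟩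

/-- The inclusion. -/
def eqι : eqP b b' ⟶ yoneda.obj Y where
  app _ := ↾fun c => c.1

theorem eqι_condition : eqι b b' ≫ yoneda.map b = eqι b b' ≫ yoneda.map b' := by
  ext Z c
  exact c.2

/-- The equalizer is a limit. -/
def eqLimit : IsLimit (Fork.ofι (eqι b b') (eqι_condition b b')) :=
  Fork.IsLimit.mk _
    (fun s => { app := fun Z => ↾fun w => ⟨s.ι.app Z w, congr($(s.condition).app Z w)⟩
                naturality := fun Z Z' g => by
                  ext w
                  refine Subtype.ext ?_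
                  exact NatTrans.naturality_apply s.ι g w })
    (fun s => rfl)
    (fun s m hm => by
      ext Z w
      exact Subtype.ext congr($(hm).app Z w))

end Eq

/-- The comparison of equalizers. -/
def κeq {X Y : D} (b b' : Y ⟶ X) : eqP b b' ⟶ fn.op ⋙ eqP (fn.map b) (fn.map b') where
  app Z := ↾fun c => ⟨fn.map c.1, by rw [← fn.map_comp, ← fn.map_comp, c.2]⟩
  naturality Z Z' g := by
    ext c
    exact Subtype.ext (fn.map_comp g.unop c.1)

theorem isIso_comparison_κeq [PreservesFiniteLimits (fn.sheafPullback (Type u) K J)] {X Y : D}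
    (b b' : Y ⟶ X) : IsIso (comparison (J := J) K fn (κeq fn b b')) := by
  let L := fn.sheafPullback (Type u) K J
  let a := presheafToSheaf K (Type u)
  let a' := presheafToSheaf J (Type u)
  have hX : IsIso (comparison (J := J) K fn (κ₁ fn X)) :=
    (isIso_comparison_iff fn _).2 (bijective_restrMap_κ₁ fn X)
  have hY : IsIso (comparison (J := J) K fn (κ₁ fn Y)) :=
    (isIso_comparison_iff fn _).2 (bijective_restrMap_κ₁ fn Y)
  haveI : PreservesFiniteLimits (a ⋙ L) := comp_preservesFiniteLimits a L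
  have hs := isLimitForkMapOfIsLimit (a ⋙ L) (eqι_condition b b') (eqLimit b b')
  have ht := isLimitForkMapOfIsLimit a' (eqι_condition (fn.map b) (fn.map b'))
    (eqLimit (fn.map b) (fn.map b'))
  have nat : ∀ (c : Y ⟶ X), comparison K fn (κ₁ fn Y) ≫ a'.map (yoneda.map (fn.map c)) =
      (a ⋙ L).map (yoneda.map c) ≫ comparison K fn (κ₁ fn X) := fun c => by
    refine (eA fn _ _).injective ((eA_comparison_comp fn _ _).trans (Eq.symm ?_))
    refine (eA_pre fn _ _).trans ?_
    rw [comparison, Equiv.apply_symm_apply, Adjunction.homEquiv_unit]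
    have h₀ : yoneda.map c ≫ κ₁ fn X = κ₁ fn Y ≫ Functor.whiskerLeft fn.op (yoneda.map (fn.map c)) := by
      ext Z d
      exact fn.map_comp d c
    refine (Category.assoc _ _ _).symm.trans ((congrArg (· ≫ _) h₀).trans ?_)
    exact (Category.assoc _ _ _).trans (congrArg (κ₁ fn Y ≫ Functor.whiskerLeft fn.op ·)
      ((sheafificationAdjunction J (Type u)).unit.naturality (yoneda.map (fn.map c))))
  have e₁ : comparison K fn (κeq fn b b') ≫ a'.map (eqι (fn.map b) (fn.map b')) =
      (a ⋙ L).map (eqι b b') ≫ comparison K fn (κ₁ fn Y) := by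
    refine (eA fn _ _).injective ((eA_comparison_comp fn _ _).trans (Eq.symm ?_))
    refine (eA_pre fn _ _).trans ?_
    rw [comparison, Equiv.apply_symm_apply, Adjunction.homEquiv_unit]
    exact congrArg (κeq fn b b' ≫ Functor.whiskerLeft fn.op ·)
      ((sheafificationAdjunction J (Type u)).unit.naturality (eqι (fn.map b) (fn.map b')))
  let r := a'.map (eqι (fn.map b) (fn.map b')) ≫ @inv _ _ _ _ (comparison K fn (κ₁ fn Y)) hY
  have hr : r ≫ (a ⋙ L).map (yoneda.map b) = r ≫ (a ⋙ L).map (yoneda.map b') := by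
    haveI := hX
    rw [← cancel_mono (comparison K fn (κ₁ fn X))]
    refine (Category.assoc _ _ _).trans ((congrArg (r ≫ ·) (nat b).symm).trans ?_)
    refine Eq.trans ?_ ((Category.assoc _ _ _).trans (congrArg (r ≫ ·) (nat b').symm)).symm
    show (_ ≫ _) ≫ _ ≫ _ = (_ ≫ _) ≫ _ ≫ _
    haveI := hY
    rw [Category.assoc, IsIso.inv_hom_id_assoc, Category.assoc, IsIso.inv_hom_id_assoc,
      ← a'.map_comp, ← a'.map_comp, eqι_condition]
  obtain ⟨l, hl⟩ := Fork.IsLimit.lift' hs r hr
  refine ⟨l, ?_, ?_⟩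
  · refine Fork.IsLimit.hom_ext hs ?_
    refine (Category.assoc _ _ _).trans ((congrArg (_ ≫ ·) hl).trans ?_)
    refine ((Category.assoc _ _ _).symm.trans (congrArg (· ≫ _) e₁)).trans ?_
    exact (Category.assoc _ _ _).trans
      ((congrArg (_ ≫ ·) (@IsIso.hom_inv_id _ _ _ _ (comparison K fn (κ₁ fn Y)) hY)).trans
        ((Category.comp_id _).trans (Category.id_comp _).symm))
  · refine Fork.IsLimit.hom_ext ht ?_
    refine (Category.assoc _ _ _).trans ((congrArg (l ≫ ·) e₁).trans ?_)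
    refine ((Category.assoc _ _ _).symm.trans (congrArg (· ≫ _) hl)).trans ?_
    exact (Category.assoc _ _ _).trans
      ((congrArg (_ ≫ ·) (@IsIso.inv_hom_id _ _ _ _ (comparison K fn (κ₁ fn Y)) hY)).trans
        ((Category.comp_id _).trans (Category.id_comp _).symm))

/-- Locally, equalized maps factor through an equalizing one. -/
theorem loc_lift_eq [PreservesFiniteLimits (fn.sheafPullback (Type u) K J)] {X Y : D}
    (b b' : Y ⟶ X) {V : C} (a : V ⟶ fn.obj Y) (ha : a ≫ fn.map b = a ≫ fn.map b') :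
    Loc J V fun V' g => ∃ (W : D) (h : V' ⟶ fn.obj W) (k : W ⟶ Y),
      k ≫ b = k ≫ b' ∧ g ≫ a = h ≫ fn.map k := by
  refine (loc_lift (J := J) fn (κeq fn b b')
    (fun P => ((isIso_comparison_iff (K := K) fn _).1 (isIso_comparison_κeq fn b b') P).1) V
    (show (eqP (fn.map b) (fn.map b')).obj (op V) from ⟨a, ha⟩)).mono fun V' g ⟨W, h, q, e⟩ =>
      ⟨W, h, q.1, q.2, congrArg Subtype.val e⟩

end Groth.Agent.ModSiteLib.SetPull
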