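/-
Inverse images of pure monomorphisms stay monomorphisms after tensoring.
-/
import Groth.Agent.ModSiteLib.PullTensorIso
import Groth.Agent.ModSiteLib.SetPullLocal
import Groth.Agent.ModSiteLib.EqnOfFlat
import Groth.Agent.ModSiteLib.Colimits
import Mathlib.LinearAlgebra.DirectSum.Finsupp

set_option autoImplicit false
set_option linter.style.haveILetI false
set_option backward.isDefEq.respectTransparency false

universe u

open CategoryTheory Limits MonoidalCategory Opposite Groth.Agent.ModSiteLib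
open Groth.Agent.ModSiteLib.SetPull

namespace ModSiteLib

section Gen

variable {C : Type u} [SmallCategory C] {J : GrothendieckTopology C} {O : Sheaf J CommRingCat.{u}}
  {I : Type u} (obj : I → C)

/-- A coproduct of representables. -/
def gA : Cᵒᵖ ⥤ Type u where
  obj Z := Σ i, (Z.unop ⟶ obj i)
  map g := ↾fun q => ⟨q.1, g.unop ≫ q.2⟩

/-- Maps out of a coproduct of representables. -/
def gAEquiv (P : Cᵒᵖ ⥤ Type u) : (gA obj ⟶ P) ≃ ∀ i, P.obj (op (obj i)) where
  toFun φ i := φ.app (op (obj i)) ⟨i, 𝟙 _⟩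
  invFun v :=
    { app := fun Z => ↾fun q => P.map q.2.op (v q.1)
      naturality := fun Z Z' g => by
        ext q
        show P.map (g.unop ≫ q.2).op (v q.1) = P.map g (P.map q.2.op (v q.1))
        rw [op_comp, P.map_comp]
        rfl }
  left_inv φ := by
    ext Z ⟨i, c⟩
    show P.map c.op (φ.app (op (obj i)) ⟨i, 𝟙 _⟩) = φ.app Z ⟨i, c⟩
    rw [← NatTrans.naturality_apply φ]
    exact congrArg (φ.app Z) (congrArg (Sigma.mk i) (Category.comp_id c))
  right_inv v := by
    funext i
    show P.map (𝟙 (obj i)).op (v i) = v i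
    rw [op_id, P.map_id]
    rfl

variable {obj} {M : ModSite.Mod O}

/-- The map of presheaves of sets attached to sections. -/
noncomputable def secsMap (m : ∀ i, Sec M (obj i)) : gA obj ⟶ typ ((jP O).obj M) :=
  (gAEquiv obj _).symm m

/-- The map from a free presheaf attached to sections. -/
noncomputable def hatA (m : ∀ i, Sec M (obj i)) : frP (O := O) (gA obj) ⟶ (jP O).obj M :=
  PresheafOfModules.freeObjDesc (secsMap m)

lemma hatA_mk (m : ∀ i, Sec M (obj i)) (V : Cᵒᵖ) (q : (gA obj).obj V) :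
    (hatA m).app V (ModuleCat.freeMk q) = res ((jP O).obj M) q.2.op (m q.1) :=
  ModuleCat.freeDesc_apply _ q

lemma hatA_apply (m : ∀ i, Sec M (obj i)) (V : Cᵒᵖ) (y : (gA obj).obj V →₀ O.obj.obj V) :
    (hatA m).app V (y : (frP (O := O) (gA obj)).obj V) =
      ∑ q ∈ y.support, y q • res ((jP O).obj M) q.2.op (m q.1) := by
  have e : (y : (frP (O := O) (gA obj)).obj V) =
      ∑ q ∈ y.support, y q • (ModuleCat.freeMk q : (frP (O := O) (gA obj)).obj V) := by
    refine (y.sum_single).symm.trans (Finset.sum_congr rfl fun q _ => ?_)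
    exact (Finsupp.smul_single_one q (y q)).symm
  conv_lhs => rw [e]
  refine (map_sum ((hatA m).app V).hom _ _).trans (Finset.sum_congr rfl fun q _ => ?_)
  exact (map_smul ((hatA m).app V).hom _ _).trans (congrArg (y q • ·) (hatA_mk m V q))

/-- The sections freely generate. -/
def IsGenA (m : ∀ i, Sec M (obj i)) : Prop :=
  ∀ P : ModSite.Mod O, Function.Bijective fun g : M ⟶ P => fun i => ap g (obj i) (m i)

theorem isIso_aP_map_hatA {m : ∀ i, Sec M (obj i)} (hm : IsGenA m) :
    IsIso ((aP O).map (hatA m)) := by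
  let hh' := ((adjP O).homEquiv _ M).symm (hatA m)
  haveI : IsIso hh' := isIso_of_coyoneda_map_bijective _ fun P => by
    let ev := (((adjP O).homEquiv (frP (gA obj)) P).trans PresheafOfModules.freeHomEquiv).trans
      (gAEquiv obj _)
    refine (Function.Bijective.of_comp_iff' ev.bijective _).1 ?_
    have : (⇑ev ∘ fun g => hh' ≫ g) = fun g : M ⟶ P => fun i => ap g (obj i) (m i) :=
      funext fun g => funext fun i => by
        show ((adjP O).homEquiv _ P (hh' ≫ g)).app (op (obj i)) (ModuleCat.freeMk ⟨i, 𝟙 _⟩) = _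
        rw [(adjP O).homEquiv_naturality_right, Equiv.apply_symm_apply]
        refine (congrArg (((jP O).map g).app (op (obj i))) (hatA_mk m _ _)).trans ?_
        rw [op_id, res_id]
    rw [this]
    exact hm P
  have h2 : (aP O).map (hatA m) ≫ (adjP O).counit.app M = hh' :=
    ((adjP O).homEquiv_counit _ _ _).symm
  haveI : IsIso ((aP O).map (hatA m) ≫ (adjP O).counit.app M) := by rw [h2]; infer_instance
  exact IsIso.of_isIso_comp_right _ ((adjP O).counit.app M)

theorem W_of_isIso_aP_map {P Q : PMod O} (φ : P ⟶ Q) [IsIso ((aP O).map φ)] :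
    J.W ((PresheafOfModules.toPresheaf _).map φ) := by
  rw [J.W_iff]
  exact (NatIso.isIso_map_iff (PresheafOfModules.sheafificationCompToSheaf.{u}
      (𝟙 (ModSite.ringSh O).obj)) φ).1
    (inferInstanceAs (IsIso ((SheafOfModules.toSheaf (ModSite.ringSh O)).map ((aP O).map φ))))

theorem W_hatA {m : ∀ i, Sec M (obj i)} (hm : IsGenA m) :
    J.W ((PresheafOfModules.toPresheaf _).map (hatA m)) :=
  haveI := isIso_aP_map_hatA hm
  W_of_isIso_aP_map _

/-- Locally, sections are combinations of generators. -/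
theorem loc_hatA {m : ∀ i, Sec M (obj i)} (hm : IsGenA m) {V : C} (s : Sec M V) :
    Loc J V fun V' g => ∃ y : (gA obj).obj (op V') →₀ O.obj.obj (op V'),
      res ((jP O).obj M) g.op s = ∑ q ∈ y.support, y q • res ((jP O).obj M) q.2.op (m q.1) := by
  have hW := W_hatA hm
  rw [GrothendieckTopology.W_iff_isLocallyBijective] at hW
  haveI := hW.2
  obtain ⟨S, hS, hp⟩ := exists_covering_preimage J (hatA m) (X := V) s
  refine ⟨S, hS, fun V' g hg => ?_⟩
  obtain ⟨p, hp⟩ := hp g hg
  exact ⟨p, hp.symm.trans (hatA_apply m _ p)⟩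

variable (obj) in
/-- The module generated freely by a family of objects. -/
noncomputable def genMod : ModSite.Mod O := (aP O).obj (frP (gA obj))

variable (obj) in
/-- Its generating sections. -/
noncomputable def genSec (i : I) : Sec (genMod (O := O) obj) (obj i) :=
  ((adjP O).unit.app (frP (gA obj))).app (op (obj i))
    (ModuleCat.freeMk (show (gA obj).obj (op (obj i)) from ⟨i, 𝟙 _⟩))

theorem isGenA_genSec : IsGenA (genSec (O := O) obj) := fun P => by
  let ev := (((adjP O).homEquiv (frP (gA obj)) P).trans PresheafOfModules.freeHomEquiv).trans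
    (gAEquiv obj _)
  have : (fun g : genMod (O := O) obj ⟶ P => fun i => ap g (obj i) (genSec obj i)) = ev :=
    funext fun g => funext fun i => by
      show _ = ((adjP O).homEquiv _ P g).app (op (obj i)) (ModuleCat.freeMk ⟨i, 𝟙 _⟩)
      rw [Adjunction.homEquiv_unit]
      rfl
  rw [this]
  exact ev.bijective

/-- All sections of a module, as a family of objects. -/
abbrev secIdx (M : ModSite.Mod O) : Type u := Σ X : C, Sec M X

/-- The free cover of a module. -/
noncomputable def coverMod (M : ModSite.Mod O) : ModSite.Mod O :=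
  genMod (fun i : secIdx M => i.1)

/-- The free cover map. -/
noncomputable def coverπ (M : ModSite.Mod O) : coverMod M ⟶ M :=
  (Equiv.ofBijective _ (isGenA_genSec (O := O) (obj := fun i : secIdx M => i.1) M)).symm fun i => i.2

theorem coverπ_surjective (M : ModSite.Mod O) (W : C) (t : Sec M W) :
    ∃ p, ap (coverπ M) W p = t :=
  ⟨genSec (fun i : secIdx M => i.1) ⟨W, t⟩,
    congrFun ((Equiv.ofBijective _ (isGenA_genSec (O := O) (obj := fun i : secIdx M => i.1) M)).apply_symm_apply
      fun i => i.2) ⟨W, t⟩⟩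

theorem sec_eq_zero_of_loc (M : ModSite.Mod O) {V : C} (z : Sec M V)
    (h : Loc J V fun _ g => res ((jP O).obj M) g.op z = 0) : z = 0 := by
  obtain ⟨S, hS, hg⟩ := h
  refine sheaf_sep J M.isSheaf hS fun Y g hgS => (hg g hgS).trans ?_
  exact (map_zero (((jP O).obj M).map g.op).hom).symm

theorem mono_of_injective_ap {M N : ModSite.Mod O} (φ : M ⟶ N)
    (h : ∀ V, Function.Injective (ap φ V)) : Mono φ := by
  refine ⟨fun a b e => SheafOfModules.hom_ext (PresheafOfModules.hom_ext fun V => ?_)⟩
  exact ModuleCat.hom_ext (LinearMap.ext fun x => h V.unop (congr(((jP O).map $e).app V x)))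

theorem loc_of_isLocallySurjective {P Q : PMod O} (φ : P ⟶ Q)
    [Presheaf.IsLocallySurjective J ((PresheafOfModules.toPresheaf _).map φ)] {V : C}
    (q : Q.obj (op V)) :
    Loc J V fun V' g => ∃ p, φ.app (op V') p = res Q g.op q :=
  exists_covering_preimage J φ q

theorem loc_tensor (M N : ModSite.Mod O) {V : C} (z : Sec (tens M N) V) :
    Loc J V fun V' g => ∃ (n : ℕ) (x : Fin n → Sec M V') (y : Fin n → Sec N V'),
      res ((jP O).obj (tens M N)) g.op z = ∑ i, shT M N (x i) (y i) := by
  have hW := W_unit O ((jP O).obj M ⊗ (jP O).obj N)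
  rw [GrothendieckTopology.W_iff_isLocallyBijective] at hW
  haveI := hW.2
  refine (loc_of_isLocallySurjective ((adjP O).unit.app ((jP O).obj M ⊗ (jP O).obj N)) z).mono
    fun V' g ⟨p, hp⟩ => ?_
  obtain ⟨ma, hma⟩ := TensorProduct.exists_finset (R := O.obj.obj (op V')) p
  let e := (Fintype.equivFin ma).symm
  refine ⟨_, fun i => (e i).1.1, fun i => (e i).1.2, hp.symm.trans ?_⟩
  rw [hma, ← Finset.sum_coe_sort ma]
  refine (map_sum (((adjP O).unit.app ((jP O).obj M ⊗ (jP O).obj N)).app (op V')).hom _ _).trans ?_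
  exact (e.sum_comp fun q : ma => shT M N q.1.1 q.1.2).symm

theorem shT_sum_left (M N : ModSite.Mod O) {V : C} {ι : Type*} (s : Finset ι) (m : ι → Sec M V)
    (n : Sec N V) : shT M N (∑ i ∈ s, m i) n = ∑ i ∈ s, shT M N (m i) n := by
  show ((adjP O).unit.app _).app (op V) _ = _
  rw [TensorProduct.sum_tmul]
  exact map_sum (((adjP O).unit.app ((jP O).obj M ⊗ (jP O).obj N)).app (op V)).hom _ _

theorem shT_zero_left (M N : ModSite.Mod O) {V : C} (n : Sec N V) : shT M N 0 n = 0 := by
  simpa using shT_sum_left M N (∅ : Finset Empty) (fun _ => 0) n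

theorem res_zero (M : PMod O) {X Y : Cᵒᵖ} (g : X ⟶ Y) : res M g 0 = 0 := map_zero (M.map g).hom

end Gen

section Pull

variable {C : Type u} [SmallCategory C] {J : GrothendieckTopology C} {O : Sheaf J CommRingCat.{u}}
  {D : Type u} [SmallCategory D] {K : GrothendieckTopology D} {O_D : Sheaf K CommRingCat.{u}}
  (f : ModSite.RMor O O_D)

/-- The action of scalars of `D` on sections over `V` mapping to `fn W`. -/
noncomputable abbrev ψ {V : C} {W : D} (h : V ⟶ f.fn.obj W) (c : O_D.obj.obj (op W)) :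
    O.obj.obj (op V) :=
  rC h ((f.sharp.hom.app (op W)).hom c)

/-- The pullback of a section to `V`. -/
noncomputable abbrev puR {M : ModSite.Mod O_D} {V : C} {W : D} (h : V ⟶ f.fn.obj W) (m : Sec M W) :
    Sec (f.pull.obj M) V :=
  res ((jP O).obj (f.pull.obj M)) h.op (puS f m)

lemma puR_smul {M : ModSite.Mod O_D} {V : C} {W : D} (h : V ⟶ f.fn.obj W) (c : O_D.obj.obj (op W))
    (m : Sec M W) : puR f h (c • m) = ψ f h c • puR f h m := by
  refine (congrArg (res ((jP O).obj (f.pull.obj M)) h.op) (ap_smul (f.adj.unit.app M) W c m)).trans ?_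
  exact res_smul ((jP O).obj (f.pull.obj M)) h.op _ _

lemma puR_sum {M : ModSite.Mod O_D} {V : C} {W : D} (h : V ⟶ f.fn.obj W) {ι : Type*} (s : Finset ι)
    (m : ι → Sec M W) : puR f h (∑ i ∈ s, m i) = ∑ i ∈ s, puR f h (m i) := by
  refine (congrArg (res ((jP O).obj (f.pull.obj M)) h.op) (ap_sum (f.adj.unit.app M) W s m)).trans ?_
  exact res_sum ((jP O).obj (f.pull.obj M)) h.op s _

lemma res_puR {M : ModSite.Mod O_D} {V V' : C} {W : D} (g : V' ⟶ V) (h : V ⟶ f.fn.obj W) (m : Sec M W) :
    res ((jP O).obj (f.pull.obj M)) g.op (puR f h m) = puR f (g ≫ h) m :=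
  res_comp ((jP O).obj (f.pull.obj M)) h.op g.op _

lemma puR_res {M : ModSite.Mod O_D} {V : C} {W W' : D} (h : V ⟶ f.fn.obj W') (k : W' ⟶ W)
    (m : Sec M W) : puR f h (res ((jP O_D).obj M) k.op m) = puR f (h ≫ f.fn.map k) m := by
  refine (congrArg (res ((jP O).obj (f.pull.obj M)) h.op) (res_puS f k m).symm).trans ?_
  exact res_comp ((jP O).obj (f.pull.obj M)) (f.fn.map k).op h.op _

lemma ap_puR {M N : ModSite.Mod O_D} (φ : M ⟶ N) {V : C} {W : D} (h : V ⟶ f.fn.obj W) (m : Sec M W) :
    ap (f.pull.map φ) V (puR f h m) = puR f h (ap φ W m) :=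
  (app_res ((jP O).map (f.pull.map φ)) h.op _).trans
    (congrArg (res ((jP O).obj (f.pull.obj N)) h.op) (puS_natural f φ m))

lemma ψ_rC {V : C} {W W' : D} (h : V ⟶ f.fn.obj W') (k : W' ⟶ W) (c : O_D.obj.obj (op W)) :
    ψ f h (rC k c) = ψ f (h ≫ f.fn.map k) c := by
  refine (congrArg (rC h) ?_).trans (rC_comp (f.fn.map k) h _).symm
  exact congr($(f.sharp.hom.naturality k.op) c)

lemma rC_ψ {V V' : C} {W : D} (g : V' ⟶ V) (h : V ⟶ f.fn.obj W) (c : O_D.obj.obj (op W)) :
    rC g (ψ f h c) = ψ f (g ≫ h) c :=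
  (rC_comp h g _).symm

theorem isGenA_puS {I : Type u} {obj : I → D} {M : ModSite.Mod O_D} {m : ∀ i, Sec M (obj i)}
    (hm : IsGenA m) : IsGenA (obj := fun i => f.fn.obj (obj i)) fun i => puS f (m i) := fun P => by
  have : (fun g : f.pull.obj M ⟶ P => fun i => ap g (f.fn.obj (obj i)) (puS f (m i))) =
      (fun g => fun i => ap g (obj i) (m i)) ∘ f.adj.homEquiv M P := funext fun g => funext fun i => by
    show _ = ap (f.adj.homEquiv M P g) (obj i) (m i)
    rw [Adjunction.homEquiv_unit]
    rfl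
  rw [this]
  exact (hm (f.push.obj P)).comp (f.adj.homEquiv M P).bijective

/-- Locally, sections of an inverse image are combinations of pulled back sections. -/
theorem loc_pull (M : ModSite.Mod O_D) {V : C} (s : Sec (f.pull.obj M) V) :
    Loc J V fun V' g => ∃ (n : ℕ) (c : Fin n → O.obj.obj (op V')) (W : Fin n → D)
      (h : ∀ i, V' ⟶ f.fn.obj (W i)) (m : ∀ i, Sec M (W i)),
      res ((jP O).obj (f.pull.obj M)) g.op s = ∑ i, c i • puR f (h i) (m i) := by
  haveI : Epi (coverπ M) := ⟨fun a b e => SheafOfModules.hom_ext (PresheafOfModules.hom_ext fun W =>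
    ModuleCat.hom_ext (LinearMap.ext fun x => by
      obtain ⟨p, rfl⟩ := coverπ_surjective M W.unop x
      exact congr(((jP O_D).map $e).app W p)))⟩
  haveI : f.pull.PreservesEpimorphisms := Functor.preservesEpimorphisms_of_adjunction f.adj
  haveI : (SheafOfModules.toSheaf (ModSite.ringSh O)).PreservesHomology :=
    haveI : PreservesFiniteColimits (SheafOfModules.toSheaf.{u} (ModSite.ringSh O)) := inferInstance
    inferInstance
  haveI : Epi ((SheafOfModules.toSheaf (ModSite.ringSh O)).map (f.pull.map (coverπ M))) := inferInstance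
  have hsurj := (Sheaf.isLocallySurjective_iff_epi' AddCommGrpCat.{u}
    ((SheafOfModules.toSheaf (ModSite.ringSh O)).map (f.pull.map (coverπ M)))).2 inferInstance
  obtain ⟨S, hS, hp⟩ : Loc J V fun V' g => ∃ p, ap (f.pull.map (coverπ M)) V' p =
      res ((jP O).obj (f.pull.obj M)) g.op s :=
    haveI : Presheaf.IsLocallySurjective J ((PresheafOfModules.toPresheaf _).map
      ((jP O).map (f.pull.map (coverπ M)))) := hsurj
    loc_of_isLocallySurjective ((jP O).map (f.pull.map (coverπ M))) s
  refine Loc.bind (⟨S, hS, hp⟩ : Loc J V _) fun V' g ⟨p, hp⟩ => ?_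
  refine (loc_hatA (isGenA_puS f (isGenA_genSec (O := O_D) (obj := fun i : secIdx M => i.1))) p).mono
    fun V'' g' ⟨y, hy⟩ => ?_
  let e := (Fintype.equivFin y.support).symm
  refine ⟨_, fun i => y (e i).1, fun i => (e i).1.1.1, fun i => (e i).1.2, fun i => (e i).1.1.2, ?_⟩
  rw [op_comp, ← res_comp, ← hp, ← app_res ((jP O).map (f.pull.map (coverπ M))) g'.op p]
  refine (congrArg (ap (f.pull.map (coverπ M)) V'') hy).trans ?_
  refine (map_sum (((jP O).map (f.pull.map (coverπ M))).app (op V'')).hom _ _).trans ?_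
  rw [← Finset.sum_coe_sort y.support]
  refine Eq.trans ?_ (e.sum_comp fun q : y.support => y q.1 • puR f q.1.2 q.1.1.2).symm
  refine Finset.sum_congr rfl fun q _ => ?_
  refine (ap_smul (f.pull.map (coverπ M)) V'' _ _).trans (congrArg (y q.1 • ·) ?_)
  refine (ap_puR f (coverπ M) q.1.2 _).trans (congrArg (puR f q.1.2) ?_)
  exact congrFun ((Equiv.ofBijective _ (isGenA_genSec (O := O_D) (obj := fun i : secIdx M => i.1) M)).apply_symm_apply
    fun i => i.2) q.1.1

/-- Locally, finitely many maps to images factor through a common one. -/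
theorem loc_common : ∀ (n : ℕ) {V : C} (W : Fin (n + 1) → D) (h : ∀ i, V ⟶ f.fn.obj (W i)),
    Loc J V fun V' g => ∃ (W₀ : D) (h₀ : V' ⟶ f.fn.obj W₀) (p : ∀ i, W₀ ⟶ W i),
      ∀ i, g ≫ h i = h₀ ≫ f.fn.map (p i) := by
  intro n
  induction n with
  | zero =>
    intro V W h
    refine Loc.of_forall fun V' g => ⟨W 0, g ≫ h 0, Fin.cases (𝟙 _) (fun i => i.elim0), fun i => ?_⟩
    obtain rfl := Fin.fin_one_eq_zero i
    simp
  | succ n ih =>
    intro V W h
    refine (ih (fun i => W i.succ) fun i => h i.succ).bind fun V' g ⟨W₀, h₀, p, hp⟩ => ?_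
    refine (loc_lift_pair (J := J) (K := K) f.fn (g ≫ h 0) h₀).mono
      fun V'' g' ⟨W₁, h₁, a, b, ha, hb⟩ => ⟨W₁, h₁, Fin.cases a (fun i => b ≫ p i), fun i => ?_⟩
    induction i using Fin.cases with
    | zero => simpa using ha
    | succ i =>
      simp only [Category.assoc, Fin.cases_succ, Functor.map_comp]
      rw [hp i, ← Category.assoc, hb, Category.assoc]

end Pull

end ModSiteLib
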