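/-
Inverse image and tensor product preserve the monomorphism of a presentation of a flat module.
-/
import Groth.Agent.ModSiteLib.PullMono

set_option autoImplicit false
set_option linter.style.haveILetI false
set_option backward.isDefEq.respectTransparency false

universe u

open CategoryTheory Limits MonoidalCategory Opposite Groth.Agent.ModSiteLib
open Groth.Agent.ModSiteLib.SetPull

namespace ModSiteLib

variable {C : Type u} [SmallCategory C] {J : GrothendieckTopology C} {O : Sheaf J CommRingCat.{u}}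
  {D : Type u} [SmallCategory D] {K : GrothendieckTopology D} {O_D : Sheaf K CommRingCat.{u}}
  (f : ModSite.RMor O O_D) (G : ModSite.Mod O)
  {R M : ModSite.Mod O_D} {I : Type u} (obj : I → D) (ι : R ⟶ genMod obj) (π : genMod obj ⟶ M)

/-- The hypotheses on a presentation. -/
structure Pres : Prop where
  zero : ∀ W (r : Sec R W), ap π W (ap ι W r) = 0
  inj : ∀ W, Function.Injective (ap ι W)
  ex : ∀ W (p : Sec (genMod obj) W), ap π W p = 0 → ∃ r, ap ι W r = p
  surj : ∀ W (t : Sec M W), Loc K W fun W' k => ∃ p, ap π W' p = res ((jP O_D).obj M) k.op t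

variable {obj ι π}

/-- The final step: coefficients already separated. -/
theorem loc_zero_final (hP : Pres obj ι π) (hM : Eqn M) {n : ℕ} {V : C} {W : D}
    (h : V ⟶ f.fn.obj W) (g : Fin n → Sec G V) (r : Fin n → Sec R W)
    {σ : Type u} [Fintype σ] (e : σ → Sec (genMod obj) W) (c : Fin n → σ → O_D.obj.obj (op W))
    (hc : ∀ j, ap ι W (r j) = ∑ a, c j a • e a)
    (hg : ∀ a, ∑ j, ψ f h (c j a) • g j = 0) :
    Loc J V fun _ k => res ((jP O).obj (tens G (f.pull.obj R))) k.op
      (∑ j, shT G (f.pull.obj R) (g j) (puR f h (r j))) = 0 := by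
  let eσ := (Fintype.equivFin σ).symm
  have hrel : ∀ j ∈ (Finset.univ : Finset (Fin n)), ∑ a, c j (eσ a) • ap π W (e (eσ a)) = 0 :=
    fun j _ => by
      refine Eq.trans ?_ (hP.zero W (r j))
      rw [hc j, ap_sum]
      refine (eσ.sum_comp fun a => c j a • ap π W (e a)).trans ?_
      exact Finset.sum_congr rfl fun a _ => (ap_smul π W _ _).symm
  obtain ⟨T, hT, hTg⟩ : Loc K W fun W' q => ∃ (l : ℕ) (tl : Fin l → Sec (genMod (O := O_D) obj) W')
      (b : Fin (Fintype.card σ) → Fin l → O_D.obj.obj (op W')),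
      (∀ a, res ((jP O_D).obj M) q.op (ap π W (e (eσ a))) = ∑ i, b a i • ap π W' (tl i)) ∧
      (∀ j ∈ (Finset.univ : Finset (Fin n)), ∀ i, ∑ a, b a i * rC q (c j (eσ a)) = 0) := by
    refine Loc.bind (eqn_multi hM Finset.univ (fun j a => c j (eσ a))
      (fun a => ap π W (e (eσ a))) hrel) fun W₁ q₁ ⟨l, t, b, ht, hb⟩ => ?_
    refine (Loc.forall_finset Finset.univ fun i _ => hP.surj W₁ (t i)).mono fun W' q₂ hl => ?_
    choose tl htl using fun i => hl i (Finset.mem_univ i)
    refine ⟨l, tl, fun a i => rC q₂ (b a i), fun a => ?_, fun j hj i => ?_⟩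
    · rw [op_comp, ← res_comp, ht a, res_sum]
      exact Finset.sum_congr rfl fun i _ => by rw [res_smul, htl i]
    · refine Eq.trans ?_ ((congrArg (rC q₂) (hb j hj i)).trans (map_zero _))
      simp [rC]
  refine (loc_lift_cover (J := J) (K := K) f.fn hT h).mono fun V' k ⟨W', h', q, hq, hk⟩ => ?_
  obtain ⟨l, tl, b, ht, hb⟩ := hTg q hq
  have hker : ∀ a, ap π W' (res ((jP O_D).obj (genMod obj)) q.op (e (eσ a)) - ∑ i, b a i • tl i) = 0 :=
    fun a => by
      refine (map_sub (((jP O_D).map π).app (op W')).hom _ _).trans (sub_eq_zero.2 ?_)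
      refine (app_res ((jP O_D).map π) q.op _).trans ((ht a).trans ?_)
      refine Eq.trans ?_ (ap_sum π W' _ _).symm
      exact Finset.sum_congr rfl fun i _ => (ap_smul π W' _ _).symm
  choose ρ hρ using fun a => hP.ex W' _ (hker a)
  have hr : ∀ j, res ((jP O_D).obj R) q.op (r j) = ∑ a, rC q (c j (eσ a)) • ρ a := fun j => by
    apply hP.inj W'
    refine (app_res ((jP O_D).map ι) q.op _).trans ?_
    rw [show ((jP O_D).map ι).app (op W) (r j) = ap ι W (r j) from rfl, hc j, res_sum, ap_sum]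
    refine Eq.trans ?_ (Finset.sum_congr rfl fun a _ =>
      ((ap_smul ι W' _ _).trans (congrArg _ (hρ a))).symm)
    simp only [smul_sub, Finset.sum_sub_distrib, Finset.smul_sum]
    refine Eq.trans ?_ (sub_zero _).symm |>.trans (congrArg (_ - ·) ?_)
    · refine Eq.trans ?_ (eσ.sum_comp fun a => rC q (c j a) • res ((jP O_D).obj (genMod obj)) q.op (e a)).symm
      exact Finset.sum_congr rfl fun a _ => res_smul _ _ _ _
    · rw [Finset.sum_comm]
      refine (Finset.sum_eq_zero fun i _ => ?_).symm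
      simp only [← mul_smul, ← Finset.sum_smul]
      refine (congrArg (· • tl i) ?_).trans (zero_smul _ _)
      refine Eq.trans ?_ (hb j (Finset.mem_univ j) i)
      exact Finset.sum_congr rfl fun a _ => mul_comm _ _
  let G' := f.pull.obj R
  have hz : ∀ j, res ((jP O).obj G') k.op (puR f h (r j)) =
      ∑ a, ψ f (k ≫ h) (c j (eσ a)) • puR f h' (ρ a) := fun j => by
    rw [res_puR, hk, ← puR_res, hr j, puR_sum]
    refine Finset.sum_congr rfl fun a _ => ?_
    rw [puR_smul, ψ_rC]
  rw [res_sum]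
  simp only [res_shT]
  refine (Finset.sum_congr rfl fun j _ =>
    (congrArg (shT G G' _) (hz j)).trans (shT_sum_right G G' _ _ _)).trans ?_
  rw [Finset.sum_comm]
  refine Finset.sum_eq_zero fun a _ => ?_
  refine (Finset.sum_congr rfl fun j _ =>
    (shT_smul_right G G' _ _ _).trans (shT_smul_left G G' _ _ _).symm).trans ?_
  refine (shT_sum_left G G' _ _ _).symm.trans ?_
  refine (congrArg (shT G G' · _) ?_).trans (shT_zero_left G G' _)
  refine Eq.trans ?_ ((congrArg (res ((jP O).obj G) k.op) (hg (eσ a))).trans (res_zero _ _))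
  rw [res_sum]
  refine Finset.sum_congr rfl fun j _ => ?_
  rw [res_smul]
  exact congrArg (· • _) (rC_ψ f k h _).symm

/-- The image of an index. -/
noncomputable def img {V : C} {W : D} (h : V ⟶ f.fn.obj W) (q : (gA obj).obj (op W)) :
    (gA fun i => f.fn.obj (obj i)).obj (op V) :=
  ⟨q.1, h ≫ f.fn.map q.2⟩

/-- Locally, indices with equal images become equal. -/
theorem loc_equalize {V : C} {W : D} (h : V ⟶ f.fn.obj W)
    (Q : Finset ((gA obj).obj (op W) × (gA obj).obj (op W))) :
    (∀ p ∈ Q, img f h p.1 = img f h p.2) →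
    Loc J V fun V' g => ∃ (W' : D) (h' : V' ⟶ f.fn.obj W') (k : W' ⟶ W),
      g ≫ h = h' ≫ f.fn.map k ∧ ∀ p ∈ Q, (gA obj).map k.op p.1 = (gA obj).map k.op p.2 := by
  classical
  induction Q using Finset.induction with
  | empty => exact fun _ => Loc.of_forall fun V' g =>
      ⟨W, g ≫ h, 𝟙 _, by simp, fun p hp => absurd hp (by simp)⟩
  | @insert p Q _ ih =>
    intro hQ
    obtain ⟨⟨i, b⟩, ⟨i', b'⟩⟩ := p
    have e := hQ _ (Finset.mem_insert_self _ _)
    obtain rfl : i = i' := congrArg Sigma.fst e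
    have e' : h ≫ f.fn.map b = h ≫ f.fn.map b' := eq_of_heq (Sigma.mk.inj e).2
    refine (ih fun q hq => hQ q (Finset.mem_insert_of_mem hq)).bind fun V' g ⟨W', h', k, hk, hkQ⟩ => ?_
    refine (loc_lift_eq (J := J) (K := K) f.fn (k ≫ b) (k ≫ b') h' (by
      rw [f.fn.map_comp, f.fn.map_comp, ← Category.assoc, ← hk, ← Category.assoc, ← hk,
        Category.assoc, Category.assoc, e'])).mono fun V'' g' ⟨W'', h'', k', hk', hh⟩ => ?_
    refine ⟨W'', h'', k' ≫ k, by rw [Category.assoc, hk, ← Category.assoc, hh, Category.assoc,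
      f.fn.map_comp], fun q hq => ?_⟩
    rcases Finset.mem_insert.1 hq with rfl | hq'
    · show (⟨i, (k' ≫ k) ≫ b⟩ : Σ j, W'' ⟶ obj j) = ⟨i, (k' ≫ k) ≫ b'⟩
      rw [Category.assoc, Category.assoc, hk']
    · rw [op_comp, (gA obj).map_comp]
      exact congrArg ((gA obj).map k'.op) (hkQ q hq')

open Classical in
/-- Coefficient bookkeeping. -/
theorem loc_zero_coef (hP : Pres obj ι π) (hM : Eqn M) {n : ℕ} {V : C} {W : D}
    (h : V ⟶ f.fn.obj W) (g : Fin n → Sec G V) (r : Fin n → Sec R W)
    (s : Finset ((gA obj).obj (op W))) (y : Fin n → (gA obj).obj (op W) → O_D.obj.obj (op W))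
    (hy : ∀ j, ap ι W (r j) = ∑ q ∈ s, y j q • res ((jP O_D).obj (genMod obj)) q.2.op (genSec obj q.1))
    (hg : ∀ a, ∑ j, ∑ q ∈ s with img f h q = a, ψ f h (y j q) • g j = 0) :
    Loc J V fun _ k => res ((jP O).obj (tens G (f.pull.obj R))) k.op
      (∑ j, shT G (f.pull.obj R) (g j) (puR f h (r j))) = 0 := by
  refine (loc_equalize f h ((s ×ˢ s).filter fun p => img f h p.1 = img f h p.2)
    fun p hp => (Finset.mem_filter.1 hp).2).bind fun V' k ⟨W', h', q₀, hk, heq⟩ => ?_
  let σ := {a // a ∈ s.image (img f h)}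
  have hrep : ∀ a : σ, ∃ q ∈ s, img f h q = a.1 := fun a => Finset.mem_image.1 a.2
  choose rep hrep hrep' using hrep
  let ev : (gA obj).obj (op W') → Sec (genMod (O := O_D) obj) W' :=
    fun q => res ((jP O_D).obj (genMod obj)) q.2.op (genSec obj q.1)
  let e : σ → Sec (genMod (O := O_D) obj) W' := fun a => ev ((gA obj).map q₀.op (rep a))
  let c : Fin n → σ → O_D.obj.obj (op W') :=
    fun j a => ∑ q ∈ s with img f h q = a.1, rC q₀ (y j q)
  have hfin := loc_zero_final f G hP hM h' (fun j => res ((jP O).obj G) k.op (g j))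
    (fun j => res ((jP O_D).obj R) q₀.op (r j)) e c (fun j => ?_) (fun a => ?_)
  · refine hfin.mono fun V'' k' hk' => ?_
    rw [op_comp, ← res_comp, res_sum]
    refine Eq.trans ?_ hk'
    refine congrArg (res ((jP O).obj (tens G (f.pull.obj R))) k'.op) (Finset.sum_congr rfl fun j _ => ?_)
    rw [res_shT, res_puR, hk, ← puR_res]
  · refine (app_res ((jP O_D).map ι) q₀.op _).trans ?_
    rw [show ((jP O_D).map ι).app (op W) (r j) = ap ι W (r j) from rfl, hy j, res_sum]
    simp only [c, Finset.sum_smul]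
    rw [← Finset.sum_fiberwise_of_maps_to (fun q hq => Finset.mem_image_of_mem (img f h) hq),
      ← Finset.sum_coe_sort (s.image (img f h))]
    refine Finset.sum_congr rfl fun a _ => Finset.sum_congr rfl fun q hq => ?_
    rw [res_smul]
    refine congrArg (rC q₀ (y j q) • ·) ?_
    have hmem : (q, rep a) ∈ (s ×ˢ s).filter fun p => img f h p.1 = img f h p.2 :=
      Finset.mem_filter.2 ⟨Finset.mem_product.2 ⟨(Finset.mem_filter.1 hq).1, hrep a⟩,
        (Finset.mem_filter.1 hq).2.trans (hrep' a).symm⟩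
    refine (res_comp ((jP O_D).obj (genMod obj)) q.2.op q₀.op _).trans ?_
    exact congrArg ev (heq _ hmem)
  · refine Eq.trans ?_ ((congrArg (res ((jP O).obj G) k.op) (hg a.1)).trans (res_zero _ _))
    rw [res_sum]
    refine Finset.sum_congr rfl fun j _ => ?_
    rw [res_sum]
    simp only [c, ψ, rC, map_sum, Finset.sum_smul]
    refine Finset.sum_congr rfl fun q _ => ?_
    rw [res_smul]
    refine congrArg (· • res ((jP O).obj G) k.op (g j)) ?_
    exact (ψ_rC f h' q₀ (y j q)).trans ((congrArg (fun m => ψ f m (y j q)) hk.symm).trans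
      (rC_ψ f k h (y j q)).symm)

/-- The generators of the pulled back module. -/
noncomputable abbrev pullGen : ∀ i : I, Sec (f.pull.obj (genMod (O := O_D) obj)) (f.fn.obj (obj i)) :=
  fun i => puS f (genSec obj i)

open Classical in
/-- Detection of zero in the pulled back presentation. -/
theorem loc_zero_detect (hP : Pres obj ι π) (hM : Eqn M) {n : ℕ} {V : C} {W : D}
    (h : V ⟶ f.fn.obj W) (g : Fin n → Sec G V) (r : Fin n → Sec R W)
    (y : Fin n → ((gA obj).obj (op W) →₀ O_D.obj.obj (op W)))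
    (hy : ∀ j, ap ι W (r j) =
      ∑ q ∈ (y j).support, y j q • res ((jP O_D).obj (genMod obj)) q.2.op (genSec obj q.1))
    (hz : ap (((ModSite.tensorBi O).obj G).map (f.pull.map ι)) V
      (∑ j, shT G (f.pull.obj R) (g j) (puR f h (r j))) = 0) :
    Loc J V fun _ k => res ((jP O).obj (tens G (f.pull.obj R))) k.op
      (∑ j, shT G (f.pull.obj R) (g j) (puR f h (r j))) = 0 := by
  let s : Finset ((gA obj).obj (op W)) := Finset.univ.biUnion fun j => (y j).support
  have hy' : ∀ j, ap ι W (r j) =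
      ∑ q ∈ s, y j q • res ((jP O_D).obj (genMod obj)) q.2.op (genSec obj q.1) := fun j =>
    (hy j).trans (Finset.sum_subset (Finset.subset_biUnion_of_mem (fun j => (y j).support) (Finset.mem_univ j))
      fun q _ hq => by rw [Finsupp.notMem_support_iff.1 hq, zero_smul])
  let A' := gA fun i => f.fn.obj (obj i)
  let P' := f.pull.obj (genMod (O := O_D) obj)
  let Y : Fin n → (frP (O := O) A').obj (op V) := fun j =>
    ∑ q ∈ s, ψ f h (y j q) • (ModuleCat.freeMk (img f h q) : (frP (O := O) A').obj (op V))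
  let x : ((jP O).obj G ⊗ frP A' : PMod O).obj (op V) :=
    ∑ j, TensorProduct.tmul (O.obj.obj (op V)) (g j) (Y j)
  let Θ : ((jP O).obj G ⊗ frP A' : PMod O) ⟶ (jP O).obj G ⊗ (jP O).obj P' :=
    (jP O).obj G ◁ hatA (pullGen f)
  have hhat : ∀ j, (hatA (pullGen f)).app (op V) (Y j) = puR f h (ap ι W (r j)) := fun j => by
    rw [hy' j, puR_sum]
    refine (map_sum ((hatA (pullGen f)).app (op V)).hom _ _).trans (Finset.sum_congr rfl fun q _ => ?_)
    refine (map_smul ((hatA (pullGen f)).app (op V)).hom _ _).trans ?_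
    rw [puR_smul, puR_res]
    exact congrArg (ψ f h (y j q) • ·) (hatA_mk (pullGen f) (op V) (img f h q))
  have himg : ap ((aP O).map Θ) V (((adjP O).unit.app _).app (op V) x) =
      ap (((ModSite.tensorBi O).obj G).map (f.pull.map ι)) V
        (∑ j, shT G (f.pull.obj R) (g j) (puR f h (r j))) := by
    rw [ap_aP_map, ap_sum]
    refine (congrArg (((adjP O).unit.app ((jP O).obj G ⊗ (jP O).obj P')).app (op V))
      (map_sum (Θ.app (op V)).hom _ _)).trans ?_
    refine (map_sum (((adjP O).unit.app ((jP O).obj G ⊗ (jP O).obj P')).app (op V)).hom _ _).trans ?_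
    refine Finset.sum_congr rfl fun j _ => ?_
    refine Eq.trans ?_ (ap_tensorBi₂ G (f.pull.map ι) _ _).symm
    refine congrArg (shT G P' (g j)) ?_
    exact (hhat j).trans (ap_puR f ι h (r j)).symm
  have hΘ : IsIso ((aP O).map Θ) := by
    haveI h₁ : IsIso ((aP O).map (hatA (pullGen (obj := obj) f) ▷ (jP O).obj G)) :=
      isIso_tensorSh_map O _ _ (W_hatA (isGenA_puS f isGenA_genSec))
    have e₀ : Θ = (β_ _ _).hom ≫ (hatA (pullGen f) ▷ (jP O).obj G) ≫ (β_ _ _).inv := by
      rw [← BraidedCategory.braiding_naturality_right_assoc, Iso.hom_inv_id, Category.comp_id]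
    rw [e₀, Functor.map_comp, Functor.map_comp]
    infer_instance
  have hx : ((adjP O).unit.app ((jP O).obj G ⊗ frP A')).app (op V) x = 0 := by
    have e := congrArg (ap (@inv _ _ _ _ ((aP O).map Θ) hΘ) V) (himg.trans hz)
    rw [ap_zero, ← ap_comp, @IsIso.hom_inv_id _ _ _ _ _ hΘ] at e
    exact e
  have hW := W_unit O ((jP O).obj G ⊗ frP A')
  rw [GrothendieckTopology.W_iff_isLocallyBijective] at hW
  haveI := hW.1
  let u₀ := (adjP O).unit.app ((jP O).obj G ⊗ frP A')
  refine Loc.bind (⟨Presheaf.equalizerSieve (F := ((jP O).obj G ⊗ frP A' : PMod O).presheaf) (X := op V) x 0,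
    Presheaf.equalizerSieve_mem J ((PresheafOfModules.toPresheaf _).map u₀)
    (X := op V) x 0 (hx.trans (map_zero (u₀.app (op V)).hom).symm), fun V' k hk => hk⟩ :
      Loc J V fun V' k => res ((jP O).obj G ⊗ frP A' : PMod O) k.op x =
        res ((jP O).obj G ⊗ frP A' : PMod O) k.op 0) fun V' k hk => ?_
  rw [res_zero, res_sum] at hk
  have hcoef : ∀ a, ∑ j, ∑ q ∈ s with img f (k ≫ h) q = a,
      ψ f (k ≫ h) (y j q) • res ((jP O).obj G) k.op (g j) = 0 := fun a => by
    have e := congrArg (fun t => TensorProduct.finsuppScalarRight (O.obj.obj (op V'))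
      (O.obj.obj (op V')) (Sec G V') (A'.obj (op V')) t a) hk
    simp only [map_zero, Finsupp.coe_zero, Pi.zero_apply] at e
    refine Eq.trans ?_ e
    rw [map_sum, Finsupp.finsetSum_apply]
    refine Finset.sum_congr rfl fun j _ => ?_
    refine Eq.trans ?_ (congrArg (fun t => TensorProduct.finsuppScalarRight (O.obj.obj (op V'))
      (O.obj.obj (op V')) (Sec G V') (A'.obj (op V')) t a)
      (PresheafOfModules.Monoidal.tensorObj_map_tmul k.op (g j) (Y j))).symm
    refine Eq.trans ?_ (TensorProduct.finsuppScalarRight_apply_tmul_apply _ _ a).symm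
    have hY : res (frP (O := O) A') k.op (Y j) =
        ∑ q ∈ s, ψ f (k ≫ h) (y j q) •
          (ModuleCat.freeMk (img f (k ≫ h) q) : (frP (O := O) A').obj (op V')) := by
      rw [res_sum]
      refine Finset.sum_congr rfl fun q _ => ?_
      rw [res_smul, res_freeMk]
      refine congrArg₂ (fun c v => c • (ModuleCat.freeMk v : (frP (O := O) A').obj (op V')))
        (rC_ψ f k h (y j q)) ?_
      exact congrArg (Sigma.mk q.1) (Category.assoc k h (f.fn.map q.2)).symm
    have hYa : (show A'.obj (op V') →₀ O.obj.obj (op V') from res (frP (O := O) A') k.op (Y j)) a =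
        ∑ q ∈ s with img f (k ≫ h) q = a, ψ f (k ≫ h) (y j q) := by
      rw [hY, Finset.sum_filter]
      refine (Finsupp.finsetSum_apply _ _ _).trans (Finset.sum_congr rfl fun q _ => ?_)
      show (ψ f (k ≫ h) (y j q) • (Finsupp.single (img f (k ≫ h) q) (1 : O.obj.obj (op V')))) a = _
      simp [Finsupp.single_apply]
    rw [← Finset.sum_smul]
    exact congrArg (· • res ((jP O).obj G) k.op (g j)) hYa.symm
  refine (loc_zero_coef f G hP hM (k ≫ h) (fun j => res ((jP O).obj G) k.op (g j)) r s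
    (fun j q => y j q) hy' hcoef).mono fun V'' k' hk' => ?_
  rw [op_comp, ← res_comp, res_sum]
  refine Eq.trans ?_ hk'
  refine congrArg (res ((jP O).obj (tens G (f.pull.obj R))) k'.op) (Finset.sum_congr rfl fun j _ => ?_)
  rw [res_shT, res_puR]

lemma ap_res_eq_zero {M N : ModSite.Mod O} (φ : M ⟶ N) {V V' : C} (g : V' ⟶ V) {z : Sec M V}
    (hz : ap φ V z = 0) : ap φ V' (res ((jP O).obj M) g.op z) = 0 :=
  (app_res ((jP O).map φ) g.op z).trans ((congrArg (res _ g.op) hz).trans (res_zero _ _))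

/-- Zero detection for a family of pulled back sections. -/
theorem loc_zero_sum (hP : Pres obj ι π) (hM : Eqn M) : ∀ {N : ℕ} {V : C} (W : Fin N → D)
    (h : ∀ l, V ⟶ f.fn.obj (W l)) (g : Fin N → Sec G V) (r : ∀ l, Sec R (W l)),
    ap (((ModSite.tensorBi O).obj G).map (f.pull.map ι)) V
      (∑ l, shT G (f.pull.obj R) (g l) (puR f (h l) (r l))) = 0 →
    Loc J V fun _ k => res ((jP O).obj (tens G (f.pull.obj R))) k.op
      (∑ l, shT G (f.pull.obj R) (g l) (puR f (h l) (r l))) = 0 := by
  intro N V W h g r hz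
  cases N with
  | zero =>
    refine Loc.of_forall fun V' k => ?_
    rw [Finset.univ_eq_empty, Finset.sum_empty, res_zero]
  | succ N =>
    let T' := (jP O).obj (tens G (f.pull.obj R))
    refine (loc_common (J := J) (K := K) f N W h).bind fun V₃ g₃ ⟨W₀, h₀, p, hp⟩ => ?_
    let rr := fun l => res ((jP O_D).obj R) (p l).op (r l)
    have hz₃ : res T' g₃.op (∑ l, shT G (f.pull.obj R) (g l) (puR f (h l) (r l))) =
        ∑ l, shT G (f.pull.obj R) (res ((jP O).obj G) g₃.op (g l)) (puR f h₀ (rr l)) := by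
      rw [res_sum]
      refine Finset.sum_congr rfl fun l _ => ?_
      rw [res_shT, res_puR, hp l, ← puR_res]
    obtain ⟨T, hT, hTg⟩ : Loc K W₀ fun W' k => ∀ l ∈ (Finset.univ : Finset (Fin (N + 1))),
        ∃ y : (gA obj).obj (op W') →₀ O_D.obj.obj (op W'),
          res ((jP O_D).obj (genMod obj)) k.op (ap ι W₀ (rr l)) =
            ∑ q ∈ y.support, y q • res ((jP O_D).obj (genMod obj)) q.2.op (genSec obj q.1) :=
      Loc.forall_finset Finset.univ fun l _ => loc_hatA isGenA_genSec (ap ι W₀ (rr l))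
    refine (loc_lift_cover (J := J) (K := K) f.fn hT h₀).bind fun V₄ g₄ ⟨W', h', k, hk, hkh⟩ => ?_
    choose y hy using fun l => hTg k hk l (Finset.mem_univ l)
    have hz₄ : res T' g₄.op (res T' g₃.op (∑ l, shT G (f.pull.obj R) (g l) (puR f (h l) (r l)))) =
        ∑ l, shT G (f.pull.obj R) (res ((jP O).obj G) g₄.op (res ((jP O).obj G) g₃.op (g l)))
          (puR f h' (res ((jP O_D).obj R) k.op (rr l))) := by
      rw [hz₃, res_sum]
      refine Finset.sum_congr rfl fun l _ => ?_
      rw [res_shT, res_puR, hkh, ← puR_res]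
    refine (loc_zero_detect f G hP hM h' _ (fun l => res ((jP O_D).obj R) k.op (rr l)) y
      (fun l => (app_res ((jP O_D).map ι) k.op _).trans (hy l))
      (hz₄ ▸ ap_res_eq_zero _ g₄ (ap_res_eq_zero _ g₃ hz))).mono fun V' k' hk' => ?_
    rw [op_comp, op_comp, ← res_comp, ← res_comp, hz₄]
    exact hk'

/-- Tensoring the inverse image of a pure monomorphism gives a monomorphism. -/
theorem mono_tensor_pull (hP : Pres obj ι π) (hM : Eqn M) :
    Mono (((ModSite.tensorBi O).obj G).map (f.pull.map ι)) := by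
  refine mono_of_injective_ap _ fun V => (injective_iff_map_eq_zero
    (((jP O).map (((ModSite.tensorBi O).obj G).map (f.pull.map ι))).app (op V)).hom).2 fun z hz => ?_
  refine sec_eq_zero_of_loc (tens G (f.pull.obj R)) z ?_
  refine (loc_tensor G (f.pull.obj R) z).bind fun V₁ g₁ ⟨n, x, s, hz₁⟩ => ?_
  refine (Loc.forall_finset Finset.univ fun i _ => loc_pull f R (s i)).bind fun V₂ g₂ hs => ?_
  choose m c W h r hr using fun i => hs i (Finset.mem_univ i)
  let e := (Fintype.equivFin (Σ i, Fin (m i))).symm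
  have hz₂ : res ((jP O).obj (tens G (f.pull.obj R))) (g₂ ≫ g₁).op z =
      ∑ l, shT G (f.pull.obj R) (c (e l).1 (e l).2 • res ((jP O).obj G) g₂.op (x (e l).1))
        (puR f (h (e l).1 (e l).2) (r (e l).1 (e l).2)) := by
    rw [op_comp, ← res_comp, hz₁, res_sum]
    refine Eq.trans ?_ (e.sum_comp fun q : Σ i, Fin (m i) => shT G (f.pull.obj R)
      (c q.1 q.2 • res ((jP O).obj G) g₂.op (x q.1)) (puR f (h q.1 q.2) (r q.1 q.2))).symm
    rw [Fintype.sum_sigma]
    refine Finset.sum_congr rfl fun i _ => ?_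
    rw [res_shT, hr i, shT_sum_right]
    refine Finset.sum_congr rfl fun q _ => ?_
    rw [shT_smul_right, shT_smul_left]
  refine (loc_zero_sum f G hP hM _ _ _ _ (hz₂ ▸ ap_res_eq_zero _ (g₂ ≫ g₁) hz)).mono
    fun V' g hg => ?_
  rw [Category.assoc, op_comp, ← res_comp, hz₂]
  exact hg

end ModSiteLib
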