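/-
Inverse images of flat modules are flat; short exact sequences with flat quotient stay exact.
-/
import Groth.Agent.ModSiteLib.PullMonoCore
import Mathlib.CategoryTheory.Abelian.Refinements

set_option autoImplicit false
set_option linter.style.haveILetI false
set_option backward.isDefEq.respectTransparency false

universe u

open CategoryTheory Limits MonoidalCategory Opposite Groth.Agent.ModSiteLib
open Groth.Agent.ModSiteLib.SetPull

namespace Groth.Agent.ModSiteLib.Snake

variable {A : Type*} [Category* A] [Abelian A]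

theorem exists_lift_of_exact {S : ShortComplex A} (hS : S.Exact) {T : A} (x : T ⟶ S.X₂)
    (hx : x ≫ S.g = 0) : ∃ (T' : A) (π : T' ⟶ T) (_ : Epi π) (y : T' ⟶ S.X₁), π ≫ x = y ≫ S.f :=
  hS.exact_up_to_refinements x hx

/-- A diagram chase: two exact rows with a monomorphism in the middle. -/
theorem mono_right {R R' Q P P' U M M' : A} (f : R ⟶ R') (c : R' ⟶ Q) (i : R ⟶ P) (i' : R' ⟶ P')
    (k : Q ⟶ U) (d : P' ⟶ U) (p : P ⟶ M) (p' : P' ⟶ M') (a : P ⟶ P') (b : M ⟶ M')
    [Mono a] [Mono k] [Epi p] (wi : i ≫ p = 0) (w' : i' ≫ p' = 0)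
    (h' : (ShortComplex.mk i' p' w').Exact) (wc : f ≫ c = 0) (hc : (ShortComplex.mk f c wc).Exact)
    (sq₁ : f ≫ i' = i ≫ a) (sq₂ : a ≫ p' = p ≫ b) (sq₃ : c ≫ k = i' ≫ d) (wd : a ≫ d = 0) :
    Mono b := by
  rw [Preadditive.mono_iff_cancel_zero]
  intro T x hx
  obtain ⟨T₁, π₁, _, y, hy⟩ := surjective_up_to_refinements_of_epi p x
  obtain ⟨T₂, π₂, _, r', hr'⟩ := h'.exact_up_to_refinements (y ≫ a) (by
    show (y ≫ a) ≫ p' = 0
    rw [Category.assoc, sq₂, ← Category.assoc, ← hy, Category.assoc, hx, comp_zero])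
  change π₂ ≫ y ≫ a = r' ≫ i' at hr'
  have hrc : r' ≫ c = 0 := by
    rw [← cancel_mono k, zero_comp, Category.assoc, sq₃, ← Category.assoc, ← hr']
    simp [wd]
  obtain ⟨T₃, π₃, _, r, hr⟩ := hc.exact_up_to_refinements r' hrc
  change π₃ ≫ r' = r ≫ f at hr
  have e : π₃ ≫ π₂ ≫ y = r ≫ i := by
    rw [← cancel_mono a]
    simp only [Category.assoc]
    rw [hr', ← Category.assoc π₃, hr, Category.assoc, sq₁]
  rw [← cancel_epi π₁, ← cancel_epi π₂, ← cancel_epi π₃, comp_zero, comp_zero, comp_zero, hy,
    ← Category.assoc π₂, ← Category.assoc π₃, e, Category.assoc, wi, comp_zero]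

/-- A diagram chase: monomorphism from a cover. -/
theorem mono_left {R' R P F G : A} (j : R' ⟶ R) (i : R ⟶ P) (p : P ⟶ G) (r : R ⟶ F) (f : F ⟶ G)
    [Mono i] [Epi r] (sq : i ≫ p = r ≫ f) (w : (j ≫ i) ≫ p = 0)
    (hp : (ShortComplex.mk (j ≫ i) p w).Exact) (wj : j ≫ r = 0) : Mono f := by
  rw [Preadditive.mono_iff_cancel_zero]
  intro T x hx
  obtain ⟨T₁, π₁, _, y, hy⟩ := surjective_up_to_refinements_of_epi r x
  obtain ⟨T₂, π₂, _, z, hz⟩ := hp.exact_up_to_refinements (y ≫ i) (by
    show (y ≫ i) ≫ p = 0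
    rw [Category.assoc, sq, ← Category.assoc, ← hy, Category.assoc, hx, comp_zero])
  change π₂ ≫ y ≫ i = z ≫ j ≫ i at hz
  have e : π₂ ≫ y = z ≫ j := by
    rw [← cancel_mono i]
    simpa only [Category.assoc] using hz
  rw [← cancel_epi π₁, ← cancel_epi π₂, comp_zero, comp_zero, hy, ← Category.assoc π₂, e,
    Category.assoc, wj, comp_zero]

theorem exact_epi_map {B : Type*} [Category* B] [Abelian B] (F : A ⥤ B) [F.PreservesZeroMorphisms]
    [PreservesFiniteColimits F] {S : ShortComplex A} (hS : S.Exact) (hg : Epi S.g) :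
    (S.map F).Exact ∧ Epi (S.map F).g :=
  haveI := hg
  (S.map F).exact_and_epi_g_iff_g_is_cokernel.2
    ⟨CokernelCofork.mapIsColimit _ hS.gIsCokernel F⟩

end Groth.Agent.ModSiteLib.Snake

namespace ModSiteLib

variable {C : Type u} [SmallCategory C] {J : GrothendieckTopology C} {O : Sheaf J CommRingCat.{u}}

theorem exists_kernel_section {M N : ModSite.Mod O} (φ : M ⟶ N) (X : C) (p : Sec M X)
    (hp : ap φ X p = 0) : ∃ r, ap (kernel.ι φ) X r = p := by
  haveI : (jP O).IsRightAdjoint := (adjP O).isRightAdjoint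
  haveI : PreservesLimitsOfSize.{0, 0} (jP O) := (adjP O).rightAdjoint_preservesLimits
  let G := jP O ⋙ PresheafOfModules.evaluation _ (op X)
  haveI : PreservesFiniteLimits G := inferInstance
  haveI : G.PreservesZeroMorphisms := inferInstance
  let R₀ := (O.obj ⋙ forget₂ CommRingCat.{u} RingCat.{u}).obj (op X)
  have hk := KernelFork.mapIsLimit _ (kernelIsKernel φ) G
  obtain ⟨m, hm⟩ := KernelFork.IsLimit.lift' hk
    (ModuleCat.ofHom (LinearMap.toSpanSingleton R₀ (G.obj M) p))
    (ModuleCat.hom_ext (LinearMap.ext_ring (by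
      show ap φ X ((1 : R₀) • p) = 0
      rw [one_smul]
      exact hp)))
  exact ⟨m (1 : R₀), (congrArg (fun q => q.hom (1 : R₀)) hm).trans (one_smul R₀ p)⟩

theorem injective_ap_of_mono {M N : ModSite.Mod O} (φ : M ⟶ N) [Mono φ] (V : C) :
    Function.Injective (ap φ V) :=
  injective_jP_map_app φ (op V)

theorem loc_of_epi {M N : ModSite.Mod O} (φ : M ⟶ N) [Epi φ] {V : C} (t : Sec N V) :
    Loc J V fun V' g => ∃ p, ap φ V' p = res ((jP O).obj N) g.op t := by
  haveI : (SheafOfModules.toSheaf (ModSite.ringSh O)).PreservesHomology :=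
    haveI : PreservesFiniteColimits (SheafOfModules.toSheaf.{u} (ModSite.ringSh O)) := inferInstance
    inferInstance
  have hsurj := (Sheaf.isLocallySurjective_iff_epi' AddCommGrpCat.{u}
    ((SheafOfModules.toSheaf (ModSite.ringSh O)).map φ)).2 inferInstance
  haveI : Presheaf.IsLocallySurjective J ((PresheafOfModules.toPresheaf _).map ((jP O).map φ)) :=
    hsurj
  exact loc_of_isLocallySurjective ((jP O).map φ) t

instance epi_coverπ (M : ModSite.Mod O) : Epi (coverπ M) :=
  ⟨fun a b e => SheafOfModules.hom_ext (PresheafOfModules.hom_ext fun W =>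
    ModuleCat.hom_ext (LinearMap.ext fun x => by
      obtain ⟨p, rfl⟩ := coverπ_surjective M W.unop x
      exact congr(((jP O).map $e).app W p)))⟩

theorem isFlat_genMod {I : Type u} (obj : I → C) : ModSite.IsFlat (genMod (O := O) obj) :=
  isFlat_sheafify O _ fun V => by
    have : Module.Free (O.obj.obj V) ((frP (O := O) (gA obj)).obj V) :=
      inferInstanceAs (Module.Free (O.obj.obj V) ((gA obj).obj V →₀ O.obj.obj V))
    infer_instance

theorem isFlat_of_isGenA {I : Type u} {obj : I → C} {M : ModSite.Mod O} {m : ∀ i, Sec M (obj i)}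
    (hm : IsGenA m) : ModSite.IsFlat M :=
  haveI := isIso_aP_map_hatA hm
  isFlat_of_iso O (asIso ((aP O).map (hatA m)) ≪≫ (asIso (adjP O).counit).app M) (isFlat_genMod obj)

variable {D : Type u} [SmallCategory D] {K : GrothendieckTopology D} {O_D : Sheaf K CommRingCat.{u}}
  (f : ModSite.RMor O O_D)

/-- An epimorphism from a generated module onto a flat module gives a presentation. -/
theorem pres_of_epi {I : Type u} {obj : I → D} {M : ModSite.Mod O_D} (π : genMod obj ⟶ M) [Epi π] :
    Pres obj (kernel.ι π) π where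
  zero W r := (ap_comp (kernel.ι π) π W r).symm.trans (by rw [kernel.condition]; rfl)
  inj W := injective_ap_of_mono _ W
  ex W p hp := exists_kernel_section π W p hp
  surj W t := loc_of_epi π t

theorem mono_tensor_pull_kernel {I : Type u} {obj : I → D} {M : ModSite.Mod O_D}
    (π : genMod obj ⟶ M) [Epi π] (hM : ModSite.IsFlat M) (G : ModSite.Mod O) :
    Mono (((ModSite.tensorBi O).obj G).map (f.pull.map (kernel.ι π))) :=
  mono_tensor_pull f G (pres_of_epi π) (eqn_of_isFlat hM)

theorem mono_pull_kernel {I : Type u} {obj : I → D} {M : ModSite.Mod O_D}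
    (π : genMod obj ⟶ M) [Epi π] (hM : ModSite.IsFlat M) : Mono (f.pull.map (kernel.ι π)) := by
  haveI := mono_tensor_pull_kernel f π hM (ModSite.unit O)
  refine mono_of_injective_ap _ fun V => (injective_iff_map_eq_zero
    (((jP O).map (f.pull.map (kernel.ι π))).app (op V)).hom).2 fun z hz => ?_
  have h0 : shT (ModSite.unit O) (f.pull.obj (kernel π)) (1 : O.obj.obj (op V)) z = 0 := by
    apply injective_ap_of_mono (((ModSite.tensorBi O).obj (ModSite.unit O)).map
      (f.pull.map (kernel.ι π))) V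
    rw [ap_tensorBi₂, ap_zero]
    exact (congrArg (shT _ _ _) hz).trans (bil_zero_right _)
  have h1 := congrArg (ap (unitTensorIso (f.pull.obj (kernel π))).hom V) h0
  rw [ap_unitTensorIso, one_smul, ap_zero] at h1
  exact h1

/-- Inverse images of flat modules are flat. -/
theorem isFlat_pull {M : ModSite.Mod O_D} (hM : ModSite.IsFlat M) : ModSite.IsFlat (f.pull.obj M) := by
  let π := coverπ M
  have hP : ModSite.IsFlat (f.pull.obj (coverMod M)) :=
    isFlat_of_isGenA (isGenA_puS f (isGenA_genSec (O := O_D) (obj := fun i : secIdx M => i.1)))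
  haveI : f.pull.Additive := f.adj.left_adjoint_additive
  haveI : PreservesColimitsOfSize.{0, 0} f.pull := f.adj.leftAdjoint_preservesColimits
  haveI : PreservesFiniteColimits f.pull := inferInstance
  let S : ShortComplex (ModSite.Mod O_D) := ShortComplex.mk (kernel.ι π) π (kernel.condition π)
  have hS : S.Exact := ShortComplex.exact_kernel π
  obtain ⟨hS', hepi⟩ := Groth.Agent.ModSiteLib.Snake.exact_epi_map f.pull hS inferInstance
  refine isFlat_of_preservesMono ⟨fun {G G'} a _ => ?_⟩
  let T := ModSite.tensorBi O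
  let Q : ShortComplex (ModSite.Mod O) := ShortComplex.mk a (cokernel.π a) (cokernel.condition a)
  have hQ : Q.Exact := ShortComplex.exact_cokernel a
  haveI := hepi
  obtain ⟨hTP, hTPe⟩ := Groth.Agent.ModSiteLib.Snake.exact_epi_map (T.obj G) hS' hepi
  obtain ⟨hTP', _⟩ := Groth.Agent.ModSiteLib.Snake.exact_epi_map (T.obj G') hS' hepi
  obtain ⟨hTQ, _⟩ := Groth.Agent.ModSiteLib.Snake.exact_epi_map (T.flip.obj (f.pull.obj (kernel π))) hQ inferInstance
  haveI := preservesMono_flip_of_isFlat hP
  haveI : Mono (((T.flip.obj (f.pull.obj (coverMod M))).map a)) := inferInstance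
  haveI : Mono ((T.obj (cokernel a)).map (f.pull.map (kernel.ι π))) :=
    mono_tensor_pull_kernel f π hM (cokernel a)
  haveI := hTPe
  refine Groth.Agent.ModSiteLib.Snake.mono_right
    ((T.flip.obj (f.pull.obj (kernel π))).map a)
    ((T.flip.obj (f.pull.obj (kernel π))).map (cokernel.π a))
    ((T.obj G).map (f.pull.map (kernel.ι π))) ((T.obj G').map (f.pull.map (kernel.ι π)))
    ((T.obj (cokernel a)).map (f.pull.map (kernel.ι π)))
    ((T.flip.obj (f.pull.obj (coverMod M))).map (cokernel.π a))
    ((T.obj G).map (f.pull.map π)) ((T.obj G').map (f.pull.map π))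
    ((T.flip.obj (f.pull.obj (coverMod M))).map a) _
    ((S.map f.pull).map (T.obj G)).zero ((S.map f.pull).map (T.obj G')).zero hTP' (Q.map (T.flip.obj (f.pull.obj (kernel π)))).zero hTQ
    ((T.map a).naturality _).symm ((T.map a).naturality _).symm
    ((T.map (cokernel.π a)).naturality _).symm ?_
  rw [← Functor.map_comp, cokernel.condition, Functor.map_zero]

/-- Short exact sequences with flat quotient stay exact after inverse image. -/
theorem shortExact_pull {S : ShortComplex (ModSite.Mod O_D)} (hS : S.ShortExact)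
    (hH : ModSite.IsFlat S.X₃) [f.pull.PreservesZeroMorphisms] : (S.map f.pull).ShortExact := by
  haveI : f.pull.Additive := f.adj.left_adjoint_additive
  haveI : PreservesColimitsOfSize.{0, 0} f.pull := f.adj.leftAdjoint_preservesColimits
  haveI : PreservesFiniteColimits f.pull := inferInstance
  haveI := hS.mono_f
  haveI := hS.epi_g
  obtain ⟨hex, hepi⟩ := Groth.Agent.ModSiteLib.Snake.exact_epi_map f.pull hS.exact hS.epi_g
  let p := coverπ S.X₂
  let π := p ≫ S.g
  haveI : Epi π := inferInstance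
  haveI := mono_pull_kernel f π hH
  let r : kernel π ⟶ S.X₁ := hS.exact.lift (kernel.ι π ≫ p) (by
    rw [Category.assoc]; exact kernel.condition π)
  have hr : r ≫ S.f = kernel.ι π ≫ p := hS.exact.lift_f _ _
  let j : kernel p ⟶ kernel π := kernel.lift π (kernel.ι p) (by
    rw [← Category.assoc, kernel.condition, zero_comp])
  have hj : j ≫ kernel.ι π = kernel.ι p := kernel.lift_ι _ _ _
  have hjr : j ≫ r = 0 := by
    rw [← cancel_mono S.f, Category.assoc, hr, ← Category.assoc, hj, kernel.condition, zero_comp]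
  haveI : Epi r := by
    rw [Preadditive.epi_iff_cancel_zero]
    intro T t ht
    rw [← cancel_epi (𝟙 S.X₁), comp_zero, Category.id_comp]
    obtain ⟨T₁, π₁, _, y, hy⟩ := surjective_up_to_refinements_of_epi p S.f
    have hy' : y ≫ π = 0 := by
      rw [← Category.assoc, ← hy, Category.assoc, S.zero, comp_zero]
    have e : kernel.lift π y hy' ≫ r = π₁ := by
      rw [← cancel_mono S.f, Category.assoc, hr, kernel.lift_ι_assoc]
      exact hy.symm
    rw [← cancel_epi π₁, comp_zero, ← e, Category.assoc, ht, comp_zero]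
  haveI : f.pull.PreservesEpimorphisms := Functor.preservesEpimorphisms_of_adjunction f.adj
  haveI : Epi (f.pull.map r) := inferInstance
  obtain ⟨hp, -⟩ := Groth.Agent.ModSiteLib.Snake.exact_epi_map f.pull
    (S := ShortComplex.mk (kernel.ι p) p (kernel.condition p)) (ShortComplex.exact_kernel p) inferInstance
  have e₀ : f.pull.map j ≫ f.pull.map (kernel.ι π) = f.pull.map (kernel.ι p) := by
    rw [← f.pull.map_comp, hj]
  have w : (f.pull.map j ≫ f.pull.map (kernel.ι π)) ≫ f.pull.map p = 0 := by
    rw [e₀, ← f.pull.map_comp, kernel.condition, f.pull.map_zero]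
  let e' : (ShortComplex.mk (kernel.ι p) p (kernel.condition p)).map f.pull ≅
      ShortComplex.mk (f.pull.map j ≫ f.pull.map (kernel.ι π)) (f.pull.map p) w :=
    ShortComplex.isoMk (Iso.refl _) (Iso.refl _) (Iso.refl _)
      ((Category.id_comp _).trans (e₀.trans (Category.comp_id _).symm))
      ((Category.id_comp _).trans (Category.comp_id _).symm)
  haveI : Mono (f.pull.map S.f) := Groth.Agent.ModSiteLib.Snake.mono_left (f.pull.map j)
    (f.pull.map (kernel.ι π)) (f.pull.map p) (f.pull.map r) (f.pull.map S.f)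
    (by rw [← f.pull.map_comp, ← f.pull.map_comp, hr]) w
    ((ShortComplex.exact_iff_of_iso e').1 hp)
    (by rw [← f.pull.map_comp, hjr, f.pull.map_zero])
  exact { exact := hex, mono_f := ‹_›, epi_g := hepi }

end ModSiteLib
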