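/-
Free modules on a site with a terminal object, through their generating sections.
-/
import Groth.Agent.ModSiteLib.PullFlat
import Mathlib.Algebra.Category.ModuleCat.Sheaf.Quasicoherent

set_option autoImplicit false
set_option linter.style.haveILetI false
set_option backward.isDefEq.respectTransparency false

universe u

open CategoryTheory Limits Opposite Groth.Agent.ModSiteLib Groth.Agent.ModSiteLib.SetPull

namespace ModSiteLib

variable {C : Type u} [SmallCategory C] {J : GrothendieckTopology C} {O : Sheaf J CommRingCat.{u}}
  {T : C} (hT : IsTerminal T)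

/-- Global sections are sections over a terminal object. -/
noncomputable def termSectionsEquiv (M : ModSite.Mod O) : M.sections ≃ Sec M T where
  toFun s := s.val (op T)
  invFun m := ⟨fun V => res ((jP O).obj M) (hT.from V.unop).op m, fun {V W} g => by
    show res ((jP O).obj M) g (res ((jP O).obj M) (hT.from V.unop).op m) =
      res ((jP O).obj M) (hT.from W.unop).op m
    rw [res_comp]
    exact congrArg (fun k => res ((jP O).obj M) k m)
      (Quiver.Hom.unop_inj (hT.hom_ext _ _))⟩
  left_inv s := by
    refine Subtype.ext (funext fun V => ?_)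
    exact s.2 (hT.from V.unop).op
  right_inv m := by
    show res ((jP O).obj M) (hT.from T).op m = m
    rw [show hT.from T = 𝟙 T from hT.hom_ext _ _, op_id, res_id]

variable (O T) in
/-- The generating sections of a free module. -/
noncomputable def freeSec (I : Type u) (i : I) : Sec (SheafOfModules.free (R := ModSite.ringSh O) I) T :=
  ((SheafOfModules.free (R := ModSite.ringSh O) I).freeHomEquiv (𝟙 _) i).val (op T)

lemma ap_freeSec {I : Type u} {M : ModSite.Mod O} (g : SheafOfModules.free (R := ModSite.ringSh O) I ⟶ M)
    (i : I) : ap g T (freeSec O T I i) = (M.freeHomEquiv g i).val (op T) := by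
  have h := SheafOfModules.freeHomEquiv_comp_apply
    (𝟙 (SheafOfModules.free (R := ModSite.ringSh O) I)) g i
  rw [Category.id_comp] at h
  rw [h]
  rfl

include hT in
theorem isGenA_freeSec (I : Type u) : IsGenA (obj := fun _ : I => T) (freeSec O T I) := fun M => by
  have : (fun g : SheafOfModules.free (R := ModSite.ringSh O) I ⟶ M => fun i => ap g T (freeSec O T I i)) =
      fun g => fun i => termSectionsEquiv hT M (M.freeHomEquiv g i) :=
    funext fun g => funext fun i => ap_freeSec g i
  rw [this]
  exact ((M.freeHomEquiv).trans (Equiv.piCongrRight fun _ => termSectionsEquiv hT M)).bijective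

include hT in
theorem free_hom_ext {I : Type u} {M : ModSite.Mod O}
    {g g' : SheafOfModules.free (R := ModSite.ringSh O) I ⟶ M}
    (h : ∀ i, ap g T (freeSec O T I i) = ap g' T (freeSec O T I i)) : g = g' :=
  (isGenA_freeSec hT I M).1 (funext h)

/-- The map out of a free module given by sections. -/
noncomputable def freeLift {I : Type u} {M : ModSite.Mod O} (v : I → Sec M T) :
    SheafOfModules.free (R := ModSite.ringSh O) I ⟶ M :=
  M.freeHomEquiv.symm fun i => (termSectionsEquiv hT M).symm (v i)

lemma ap_freeLift {I : Type u} {M : ModSite.Mod O} (v : I → Sec M T) (i : I) :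
    ap (freeLift hT v) T (freeSec O T I i) = v i := by
  rw [ap_freeSec, freeLift, Equiv.apply_symm_apply]
  exact (termSectionsEquiv hT M).apply_symm_apply (v i)

include hT in
/-- Locally, sections of a free module on finitely many generators are combinations of them. -/
theorem loc_free {I : Type u} [Fintype I] {V : C}
    (x : Sec (SheafOfModules.free (R := ModSite.ringSh O) I) V) :
    Loc J V fun V' g => ∃ d : I → O.obj.obj (op V'),
      res ((jP O).obj (SheafOfModules.free (R := ModSite.ringSh O) I)) g.op x =
        ∑ i, d i • res ((jP O).obj (SheafOfModules.free (R := ModSite.ringSh O) I)) (hT.from V').op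
          (freeSec O T I i) := by
  classical
  refine (loc_hatA (isGenA_freeSec (O := O) hT I) x).mono fun V' g ⟨y, hy⟩ => ?_
  refine ⟨fun i => ∑ q ∈ y.support with q.1 = i, y q, hy.trans ?_⟩
  rw [← Finset.sum_fiberwise_of_maps_to (fun q _ => Finset.mem_univ q.1)]
  refine Finset.sum_congr rfl fun i _ => ?_
  rw [Finset.sum_smul]
  refine Finset.sum_congr rfl fun q hq => ?_
  obtain ⟨-, rfl⟩ := Finset.mem_filter.1 hq
  rw [show q.2 = hT.from V' from hT.hom_ext _ _]

theorem epi_of_loc_surjective {M N : ModSite.Mod O} (φ : M ⟶ N)
    (h : ∀ (V : C) (t : Sec N V), Loc J V fun V' g => ∃ p, ap φ V' p = res ((jP O).obj N) g.op t) :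
    Epi φ := by
  refine ⟨fun {P} a b e => SheafOfModules.hom_ext (PresheafOfModules.hom_ext fun V =>
    ModuleCat.hom_ext (LinearMap.ext fun t => ?_))⟩
  show ap a V.unop t = ap b V.unop t
  refine sub_eq_zero.1 (sec_eq_zero_of_loc P _ ((h V.unop t).mono fun V' g ⟨p, hp⟩ => ?_))
  refine (map_sub (((jP O).obj P).map g.op).hom _ _).trans (sub_eq_zero.2 ?_)
  show res ((jP O).obj P) g.op (ap a V.unop t) = res ((jP O).obj P) g.op (ap b V.unop t)
  rw [← app_res ((jP O).map a), ← app_res ((jP O).map b), ← hp]
  exact congr(((jP O).map $e).app (op V') p)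

end ModSiteLib
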