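/-
Restriction and sections of the internal hom.
-/
import Groth.Agent.ModSiteLib.FlatLocal
import Groth.Agent.ModSiteLib.FreeOn

set_option autoImplicit false
set_option linter.style.haveILetI false

universe u

open CategoryTheory Limits Opposite

namespace ModSiteLib

variable {C : Type u} [SmallCategory C] {J : GrothendieckTopology C} {O : Sheaf J CommRingCat.{u}} (X : C)

/-- The adjunction defining the internal hom. -/
noncomputable abbrev sheafHomAdj' (M : ModSite.Mod O) [ModSite.HasSheafHom M] :
    (ModSite.tensorBi O).flip.obj M ⊣ ModSite.sheafHom M :=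
  Adjunction.ofIsLeftAdjoint _

/-- Restriction commutes with the internal hom. -/
noncomputable def restrSheafHomIso (M : ModSite.Mod O) [ModSite.HasSheafHom M]
    [ModSite.HasSheafHom ((ModSite.restr O X).obj M)] :
    ModSite.sheafHom M ⋙ ModSite.restr O X ≅
      ModSite.restr O X ⋙ ModSite.sheafHom ((ModSite.restr O X).obj M) :=
  Adjunction.rightAdjointUniq
    (((ModSite.extZeroAdj O X).comp (sheafHomAdj' M)).ofNatIsoLeft (projNatLeft X M).symm)
    ((sheafHomAdj' ((ModSite.restr O X).obj M)).comp (ModSite.extZeroAdj O X))

/-- Maps out of `j_{X!} O_X` are sections over `X`, additively. -/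
noncomputable def freeOnAddEquiv (M : ModSite.Mod O) :
    (ModSite.freeOn O X ⟶ M) ≃+ M.val.obj (op X) where
  __ := freeOnEquiv M X
  map_add' a b := by
    have h : ∀ c : ModSite.freeOn O X ⟶ M,
        freeOnEquiv M X c = c.val.app (op X) (freeOnEquiv _ X (𝟙 _)) := fun c => by
      conv_lhs => rw [← Category.id_comp c]
      exact freeOnEquiv_comp X (𝟙 _) c
    show freeOnEquiv M X (a + b) = freeOnEquiv M X a + freeOnEquiv M X b
    rw [h a, h b, h (a + b)]
    rfl

/-- Precomposition with an isomorphism, additively. -/
def precompAddEquiv {A : Type*} [Category A] [Preadditive A] {P Q : A} (e : P ≅ Q) (N : A) :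
    (Q ⟶ N) ≃+ (P ⟶ N) where
  toFun f := e.hom ≫ f
  invFun f := e.inv ≫ f
  left_inv f := by simp
  right_inv f := by simp
  map_add' f g := by simp

/-- Sections of the internal hom. -/
noncomputable def sectSheafHomEquiv (M N : ModSite.Mod O) [ModSite.HasSheafHom M] :
    ModSite.sect ((ModSite.sheafHom M).obj N) X ≃+
      ((ModSite.restr O X).obj M ⟶ (ModSite.restr O X).obj N) :=
  (freeOnAddEquiv X _).symm.trans
    (((sheafHomAdj' M).homAddEquiv _ N).symm.trans
      ((precompAddEquiv ((projNatLeft X M).app (ModSite.unit (O.over X))) N).trans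
        ((precompAddEquiv ((ModSite.extZero O X).mapIso
            (unitTensorIso ((ModSite.restr O X).obj M))).symm N).trans
          ((ModSite.extZeroAdj O X).homAddEquiv _ N))))

end ModSiteLib
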