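import Groth.Agent.S9115
import Groth.Agent.ModSiteLib.SheafHom

/-!
# Sections of coproducts over quasi-compact objects
-/

set_option autoImplicit false
set_option backward.isDefEq.respectTransparency false

noncomputable section

universe u

open CategoryTheory Limits Opposite

namespace Groth.Agent.CoprodQcLib

variable {C : Type u} [SmallCategory C] {J : GrothendieckTopology C} {O : Sheaf J CommRingCat.{u}}

/-- Covering sieves of `V` contain finite families detecting zero sections. -/
def QcSep (J : GrothendieckTopology C) (O : Sheaf J CommRingCat.{u}) (V : C) : Prop :=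
  ∀ S ∈ J V, ∃ (κ : Type u) (_ : Finite κ) (W : κ → C) (g : ∀ k, W k ⟶ V), (∀ k, S (g k)) ∧
    ∀ (M : ModSite.Mod O) (x y : M.val.obj (op V)),
      (∀ k, M.val.map (g k).op x = M.val.map (g k).op y) → x = y

theorem qcSep_of_isQcObject {V : C}
    (hV : CohCx.IsQcObject ((presheafToSheaf J (Type u)).obj (yoneda.obj V))) : QcSep J O V := by
  intro S hS
  obtain ⟨κ, hκ, W, g, -, hgS, hjs⟩ := S9115.exists_finite_refinement (J := J) Set.univ
    (fun X => ⟨PUnit, fun _ => X, fun _ => 𝟙 X, J.superset_covering
      (fun Y h _ => ⟨X, h, 𝟙 X, ⟨PUnit.unit⟩, Category.comp_id h⟩) (J.top_mem X), fun _ => trivial⟩) hV S hS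
  exact ⟨κ, inferInstance, W, g, hgS, fun M x y h => S9115.sec_ext_of_jointlySurjective M g hjs x y h⟩

theorem nsmul_sum_app {M N : ModSite.Mod O} {α : Type*} (s : Finset α) (a : α → (M ⟶ N)) (V : Cᵒᵖ)
    (x : M.val.obj V) : (∑ i ∈ s, a i).val.app V x = ∑ i ∈ s, (a i).val.app V x := by
  classical
  induction s using Finset.induction with
  | empty => rfl
  | insert j s hj ih =>
    rw [Finset.sum_insert hj, Finset.sum_insert hj, ← ih]
    rfl

variable {ι : Type u} (f : ι → ModSite.Mod O)

open scoped Classical in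
/-- The `i`-th projection. -/
def prj (i : ι) : (∐ f) ⟶ f i :=
  Sigma.desc fun j => if h : j = i then eqToHom (congrArg f h) else 0

theorem ι_prj_self (i : ι) : Sigma.ι f i ≫ prj f i = 𝟙 _ := by
  classical
  rw [prj, Sigma.ι_desc, dif_pos rfl, eqToHom_refl]

theorem ι_prj_ne {i j : ι} (h : j ≠ i) : Sigma.ι f j ≫ prj f i = 0 := by
  classical
  rw [prj, Sigma.ι_desc, dif_neg h]

/-- The endomorphism keeping the components in `s`. -/
def keep (s : Finset ι) : (∐ f) ⟶ ∐ f := ∑ i ∈ s, prj f i ≫ Sigma.ι f i

theorem ι_keep {s : Finset ι} {i : ι} (h : i ∈ s) : Sigma.ι f i ≫ keep f s = Sigma.ι f i := by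
  rw [keep, Preadditive.comp_sum, Finset.sum_eq_single i]
  · rw [← Category.assoc, ι_prj_self, Category.id_comp]
  · intro j _ hj
    rw [← Category.assoc, ι_prj_ne f (Ne.symm hj), zero_comp]
  · exact fun h' => absurd h h'

theorem keep_keep {s t : Finset ι} (h : s ⊆ t) : keep f s ≫ keep f t = keep f s := by
  rw [keep, Preadditive.sum_comp]
  exact Finset.sum_congr rfl fun i hi => by rw [Category.assoc, ι_keep f (h hi)]

theorem keep_apply (s : Finset ι) (V : C) (x : (∐ f).val.obj (op V)) :
    (keep f s).val.app (op V) x =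
      ∑ i ∈ s, (Sigma.ι f i).val.app (op V) ((prj f i).val.app (op V) x) :=
  nsmul_sum_app s _ (op V) x

theorem fixed_mono {s t : Finset ι} (h : s ⊆ t) {V : C} {x : (∐ f).val.obj (op V)}
    (hx : (keep f s).val.app (op V) x = x) : (keep f t).val.app (op V) x = x := by
  conv_lhs => rw [← hx]
  exact (ConcreteCategory.congr_hom
    (congrArg (fun a : (∐ f) ⟶ ∐ f => a.val.app (op V)) (keep_keep f h)) x).trans hx

/-- Locally every section lies in finitely many components. -/
theorem loc_fixed (V : C) (x : (∐ f).val.obj (op V)) :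
    ∃ S ∈ J V, ∀ ⦃W : C⦄ (g : W ⟶ V), S g →
      ∃ s : Finset ι, (keep f s).val.app (op W) ((∐ f).val.map g.op x) = (∐ f).val.map g.op x := by
  classical
  let P : ModSiteLib.PMod O := ∐ fun i => (ModSiteLib.jP O).obj (f i)
  let θ : P ⟶ (ModSiteLib.jP O).obj (∐ f) := Sigma.desc fun i => (ModSiteLib.jP O).map (Sigma.ι f i)
  let adj := ModSiteLib.adjP O
  haveI : PreservesColimitsOfSize.{u, u} (ModSiteLib.aP O) := adj.leftAdjoint_preservesColimits
  let θ' : (ModSiteLib.aP O).obj P ⟶ ∐ f := (adj.homEquiv _ _).symm θ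
  haveI : IsIso θ' := by
    let e : (ModSiteLib.aP O).obj P ≅ ∐ f :=
      PreservesCoproduct.iso (ModSiteLib.aP O) (fun i => (ModSiteLib.jP O).obj (f i)) ≪≫
        Sigma.mapIso fun i => (asIso adj.counit).app (f i)
    have : θ' = e.hom := by
      refine (cancel_epi (PreservesCoproduct.iso (ModSiteLib.aP O) _).inv).1 ?_
      simp only [e, Iso.trans_hom, Iso.inv_hom_id_assoc]
      refine Sigma.hom_ext _ _ fun i => ?_
      rw [PreservesCoproduct.inv_hom, ι_comp_sigmaComparison_assoc, show θ' = _ from adj.homEquiv_counit _ _ θ]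
      refine ((Category.assoc _ _ _).symm.trans (congrArg (· ≫ _)
        (((ModSiteLib.aP O).map_comp _ _).symm.trans (congrArg (ModSiteLib.aP O).map (Sigma.ι_desc _ i))))).trans ?_
      refine Eq.trans ?_ (Sigma.ι_map (fun j => ((asIso adj.counit).app (f j)).hom) i).symm
      exact adj.counit.naturality (Sigma.ι f i)
    rw [this]
    infer_instance
  have hθ : adj.unit.app P ≫ (ModSiteLib.jP O).map θ' = θ := by
    exact (adj.homEquiv_unit P _ θ').symm.trans ((adj.homEquiv _ _).apply_symm_apply θ)
  obtain ⟨-, hls⟩ := (J.W_iff_isLocallyBijective _).1 (ModSiteLib.W_unit (O := O) P)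
  let y : ((ModSiteLib.jP O).obj ((ModSiteLib.aP O).obj P)).obj (op V) :=
    ((ModSiteLib.jP O).map (inv θ')).app (op V) x
  refine ⟨_, hls.imageSieve_mem y, fun W g hg => ?_⟩
  obtain ⟨p, hp⟩ := hg
  have hp' : θ.app (op W) p = (∐ f).val.map g.op x := by
    rw [← hθ]
    refine (congrArg (((ModSiteLib.jP O).map θ').app (op W)) hp).trans ?_
    refine (PresheafOfModules.naturality_apply ((ModSiteLib.jP O).map θ') g.op y).trans ?_
    refine congrArg ((∐ f).val.map g.op) ?_
    exact ConcreteCategory.congr_hom (congrArg (fun a : (∐ f) ⟶ ∐ f => a.val.app (op V)) (IsIso.inv_hom_id θ')) x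
  rw [← hp']
  let T : Submodule _ (P.obj (op W)) :=
    { carrier := {q | ∃ s : Finset ι, (keep f s).val.app (op W) (θ.app (op W) q) = θ.app (op W) q}
      zero_mem' := ⟨∅, (congrArg _ (map_zero _)).trans ((map_zero _).trans (map_zero _).symm)⟩
      add_mem' := by
        rintro a b ⟨s, hs⟩ ⟨t, ht⟩
        refine ⟨s ∪ t, ?_⟩
        exact (congrArg _ (map_add _ a b)).trans ((map_add _ _ _).trans ((congrArg₂ (· + ·)
          (fixed_mono f Finset.subset_union_left hs) (fixed_mono f Finset.subset_union_right ht)).trans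
          (map_add _ a b).symm))
      smul_mem' := by
        rintro r a ⟨s, hs⟩
        exact ⟨s, (congrArg _ (map_smul _ r a)).trans
          ((LinearMap.map_smul ((keep f s).val.app (op W)).hom r _).trans
            ((congrArg (r • ·) hs).trans (map_smul _ r a).symm))⟩ }
  have hT : T = ⊤ := by
    have h0 : T.mkQ = 0 := by
      let E := PresheafOfModules.evaluation (O.obj ⋙ forget₂ CommRingCat RingCat) (op W)
      refine congrArg ModuleCat.Hom.hom ((isColimitOfPreserves E
        (coproductIsCoproduct fun i => (ModSiteLib.jP O).obj (f i))).hom_ext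
          (f := ModuleCat.ofHom T.mkQ) (f' := 0) fun i => ModuleCat.hom_ext (LinearMap.ext fun m => ?_))
      refine (Submodule.Quotient.mk_eq_zero T).2 ⟨{i.as}, ?_⟩
      have h1 : θ.app (op W) ((Sigma.ι (fun i => (ModSiteLib.jP O).obj (f i)) i.as).app (op W) m) =
          (Sigma.ι f i.as).val.app (op W) m :=
        ConcreteCategory.congr_hom (congrArg (fun a => PresheafOfModules.Hom.app a (op W))
          (Sigma.ι_desc (fun i => (ModSiteLib.jP O).map (Sigma.ι f i)) i.as)) m
      refine (congrArg _ h1).trans (Eq.trans ?_ h1.symm)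
      exact ConcreteCategory.congr_hom (congrArg (fun a : f i.as ⟶ ∐ f => a.val.app (op W))
        (ι_keep f (Finset.mem_singleton_self i.as))) m
    exact eq_top_iff.2 fun q _ => (Submodule.Quotient.mk_eq_zero T).1 (LinearMap.congr_fun h0 q)
  have hmem : ∀ q : P.obj (op W), q ∈ T := fun q => hT ▸ Submodule.mem_top
  exact hmem p

/-- Sections over a quasi-compact object lie in finitely many components. -/
theorem exists_fixed {V : C} (hV : QcSep J O V) (x : (∐ f).val.obj (op V)) :
    ∃ s : Finset ι, (keep f s).val.app (op V) x = x := by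
  classical
  obtain ⟨S, hS, hS'⟩ := loc_fixed f V x
  obtain ⟨κ, hκ, W, g, hg, hsep⟩ := hV S hS
  choose s hs using fun k => hS' (g k) (hg k)
  obtain ⟨_⟩ := nonempty_fintype κ
  refine ⟨Finset.univ.biUnion s, hsep _ _ _ fun k => ?_⟩
  refine (PresheafOfModules.naturality_apply (keep f (Finset.univ.biUnion s)).val (g k).op x).symm.trans ?_
  exact fixed_mono f (Finset.subset_biUnion_of_mem s (Finset.mem_univ k)) (hs k)

theorem prj_sum {V : C} (s : Finset ι) (t : ∀ i, (f i).val.obj (op V)) {j : ι} (hj : j ∈ s) :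
    (prj f j).val.app (op V) (∑ i ∈ s, (Sigma.ι f i).val.app (op V) (t i)) = t j := by
  rw [map_sum, Finset.sum_eq_single j]
  · exact ConcreteCategory.congr_hom (congrArg (fun a : f j ⟶ f j => a.val.app (op V)) (ι_prj_self f j)) _
  · intro i _ hi
    exact ConcreteCategory.congr_hom (congrArg (fun a : f i ⟶ f j => a.val.app (op V)) (ι_prj_ne f hi)) _
  · exact fun h => absurd hj h

open scoped Classical DirectSum in
theorem dsum_bijective {V : C} (hV : QcSep J O V) :
    Function.Bijective (DirectSum.toAddMonoid fun i =>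
      (((Sigma.ι f i).val.app (op V)).hom.toAddMonoidHom : (f i).val.obj (op V) →+ (∐ f).val.obj (op V))) := by
  constructor
  · refine (injective_iff_map_eq_zero _).2 fun d hd => DFinsupp.ext fun j => ?_
    by_cases hj : j ∈ d.support
    · have h : ∑ i ∈ d.support, (Sigma.ι f i).val.app (op V) (d i) = 0 := by
        rw [← DirectSum.sum_support_of d, map_sum] at hd
        refine Eq.trans (Finset.sum_congr rfl fun i _ => ?_) hd
        exact (DirectSum.toAddMonoid_of (fun i => (((Sigma.ι f i).val.app (op V)).hom.toAddMonoidHom : (f i).val.obj (op V) →+ (∐ f).val.obj (op V))) i (d i)).symm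
      exact ((prj_sum f d.support (fun i => d i) hj).symm.trans (congrArg _ h)).trans (map_zero _)
    · exact DFinsupp.notMem_support_iff.1 hj
  · intro x
    obtain ⟨s, hs⟩ := exists_fixed f hV x
    refine ⟨∑ i ∈ s, DirectSum.of (fun i => (f i).val.obj (op V)) i ((prj f i).val.app (op V) x), ?_⟩
    rw [map_sum]
    refine Eq.trans (Finset.sum_congr rfl fun i _ => ?_) ((keep_apply f s V x).symm.trans hs)
    exact DirectSum.toAddMonoid_of _ i _

open scoped Classical in
theorem preservesCoproducts_sections {V : C} (hV : QcSep J O V) (ι : Type u) :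
    PreservesColimitsOfShape (Discrete ι)
      (SheafOfModules.toSheaf (ModSite.ringSh O) ⋙ (sheafSections J AddCommGrpCat.{u}).obj (op V)) := by
  refine ⟨fun {K} => ?_⟩
  let f : ι → ModSite.Mod O := fun i => K.obj ⟨i⟩
  let G := SheafOfModules.toSheaf (ModSite.ringSh O) ⋙ (sheafSections J AddCommGrpCat.{u}).obj (op V)
  haveI : PreservesColimit (Discrete.functor f) G := by
    let E := AddEquiv.ofBijective _ (dsum_bijective f hV)
    refine preservesColimit_of_preserves_colimit_cocone (coproductIsCoproduct f) ?_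
    refine (isColimitMapCoconeCofanMkEquiv G f (fun i => Sigma.ι f i)).symm
      (mkCofanColimit _ (fun s => AddCommGrpCat.ofHom
        ((DirectSum.toAddMonoid (fun i => (s.inj i).hom)).comp E.symm.toAddMonoidHom))
        (fun s i => AddCommGrpCat.ext fun m => ?_) (fun s m hm => AddCommGrpCat.ext fun y => ?_))
    · show DirectSum.toAddMonoid (fun i => (s.inj i).hom) (E.symm ((Sigma.ι f i).val.app (op V) m)) = _
      have h : E (DirectSum.of (fun i => (f i).val.obj (op V)) i m) = (Sigma.ι f i).val.app (op V) m :=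
        DirectSum.toAddMonoid_of (fun i => (((Sigma.ι f i).val.app (op V)).hom.toAddMonoidHom : (f i).val.obj (op V) →+ (∐ f).val.obj (op V))) i m
      rw [← h, E.symm_apply_apply]
      exact DirectSum.toAddMonoid_of (fun i => (s.inj i).hom) i m
    · obtain ⟨d, rfl⟩ := E.surjective y
      show m (E d) = DirectSum.toAddMonoid (fun i => (s.inj i).hom) (E.symm (E d))
      rw [E.symm_apply_apply]
      let ψ := DirectSum.toAddMonoid (fun i => (s.inj i).hom)
      refine DFunLike.congr_fun (DirectSum.addHom_ext (f := (AddCommGrpCat.Hom.hom m).comp E.toAddMonoidHom) (g := ψ) fun i a => ?_) d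
      refine Eq.trans ?_ (DirectSum.toAddMonoid_of (fun i => (s.inj i).hom) i a).symm
      exact (congrArg m (DirectSum.toAddMonoid_of (fun i => (((Sigma.ι f i).val.app (op V)).hom.toAddMonoidHom : (f i).val.obj (op V) →+ (∐ f).val.obj (op V))) i a)).trans
        (ConcreteCategory.congr_hom (hm i) a)
  exact preservesColimit_of_iso_diagram G (Discrete.natIso fun i => Iso.refl (f i.as) : Discrete.functor f ≅ K)

theorem preservesCoproducts_hom {V : C} (hV : QcSep J O V) (ι : Type u) :
    PreservesColimitsOfShape (Discrete ι) (preadditiveCoyoneda.obj (op (ModSite.freeOn O V))) := by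
  haveI := preservesCoproducts_sections (O := O) hV ι
  refine preservesColimitsOfShape_of_natIso (NatIso.ofComponents
    (fun M => (AddEquiv.toAddCommGrpIso (ModSiteLib.freeOnAddEquiv V M)).symm)
    (fun {M N} p => ?_) : SheafOfModules.toSheaf (ModSite.ringSh O) ⋙ (sheafSections J AddCommGrpCat.{u}).obj (op V) ≅
      preadditiveCoyoneda.obj (op (ModSite.freeOn O V)))
  refine AddCommGrpCat.ext fun m => (ModSiteLib.freeOnEquiv N V).injective ?_
  refine ((ModSiteLib.freeOnEquiv N V).apply_symm_apply _).trans ?_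
  refine Eq.trans ?_ (ModSiteLib.freeOnEquiv_comp V ((ModSiteLib.freeOnEquiv M V).symm m) p).symm
  exact congrArg (p.val.app (op V)) ((ModSiteLib.freeOnEquiv M V).apply_symm_apply m).symm

end Groth.Agent.CoprodQcLib
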