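/-
Restriction commutes with sheafification and with the tensor product.
-/
import Groth.Agent.ModSiteLib.ProjFormula
import Mathlib.CategoryTheory.Sites.PreservesLocallyBijective

set_option autoImplicit false
set_option linter.style.haveILetI false

universe u

open CategoryTheory Limits Opposite MonoidalCategory

namespace ModSiteLib

variable {C : Type u} [SmallCategory C] {J : GrothendieckTopology C} {O : Sheaf J CommRingCat.{u}}

/-- Sheafification inverts locally bijective maps. -/
theorem isIso_aP_map_of_W {P Q : PMod O} (f : P ⟶ Q)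
    (hf : J.W ((PresheafOfModules.toPresheaf _).map f)) : IsIso ((aP O).map f) := by
  haveI : IsIso ((SheafOfModules.toSheaf (ModSite.ringSh O)).map ((aP O).map f)) :=
    (NatIso.isIso_map_iff (PresheafOfModules.sheafificationCompToSheaf.{u}
      (𝟙 (ModSite.ringSh O).obj)) f).2 ((J.W_iff _).1 hf)
  exact isIso_of_reflects_iso _ (SheafOfModules.toSheaf (ModSite.ringSh O))

variable (X : C)

theorem W_oRes {P Q : PMod O} (f : P ⟶ Q) (hf : J.W ((PresheafOfModules.toPresheaf _).map f)) :
    (J.over X).W ((PresheafOfModules.toPresheaf _).map ((oRes O X).map f)) := by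
  rw [GrothendieckTopology.W_iff_isLocallyBijective] at hf ⊢
  haveI := hf.1
  haveI := hf.2
  exact ⟨Presheaf.isLocallyInjective_whisker (J.over X) J (Over.forget X)
      ((PresheafOfModules.toPresheaf _).map f),
    Presheaf.isLocallySurjective_whisker (J.over X) J (Over.forget X)
      ((PresheafOfModules.toPresheaf _).map f)⟩

theorem isIso_resTensor (P Q : PMod O) : IsIso (resTensor (U := X) P Q) :=
  (PresheafOfModules.isoMk (fun W => @asIso _ _ _ _ ((resTensor (U := X) P Q).app W)
      (IsIso.id _))
    (fun _ _ f => (resTensor (U := X) P Q).naturality f)).isIso_hom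

/-- Sheafification commutes with restriction. -/
noncomputable def restrSheafifyIso (P : PMod O) :
    (ModSite.restr O X).obj ((aP O).obj P) ≅ (aP (O.over X)).obj ((oRes O X).obj P) :=
  haveI := isIso_aP_map_of_W (O := O.over X) ((oRes O X).map ((adjP O).unit.app P))
    (W_oRes X _ (W_unit O P))
  (asIso ((adjP (O.over X)).counit.app ((ModSite.restr O X).obj ((aP O).obj P)))).symm ≪≫
    (aP (O.over X)).mapIso ((restrPreIso O X).app ((aP O).obj P)) ≪≫
    (asIso ((aP (O.over X)).map ((oRes O X).map ((adjP O).unit.app P)))).symm

/-- Restriction commutes with the tensor product. -/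
noncomputable def restrTensorIso (M N : ModSite.Mod O) :
    (ModSite.restr O X).obj (((ModSite.tensorBi O).obj M).obj N) ≅
      ((ModSite.tensorBi (O.over X)).obj ((ModSite.restr O X).obj M)).obj
        ((ModSite.restr O X).obj N) :=
  restrSheafifyIso X _ ≪≫ (aP (O.over X)).mapIso
    ((@asIso _ _ _ _ _ (isIso_resTensor X ((jP O).obj M) ((jP O).obj N))).symm ≪≫
      (tensorIso ((restrPreIso O X).app M).symm ((restrPreIso O X).app N).symm))

end ModSiteLib
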