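/-
The internal hom out of a finitely presented module commutes with filtered colimits.
-/
import Groth.Agent.ModSiteLib.SheafHom
import Groth.Agent.ModSiteLib.Flat
import Groth.Agent.DerCompLib.Restr
import Mathlib.CategoryTheory.Sites.LocalProperties
import Mathlib.CategoryTheory.Adjunction.Mates

set_option autoImplicit false
set_option linter.style.haveILetI false
set_option backward.isDefEq.respectTransparency false

universe v w z u

open CategoryTheory Limits Opposite

namespace ModSiteLib

section Generic

variable {A : Type w} [Category.{v} A] {B : Type w} [Category.{v} B]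
  {Λ : Type u} [SmallCategory Λ] (D : Λ ⥤ A) [HasColimit D] [HasColimitsOfShape Λ B]

/-- The comparison out of the colimit, natural in the functor. -/
noncomputable def postNatTrans :
    (Functor.whiskeringLeft Λ A B).obj D ⋙ colim ⟶ (evaluation A B).obj (colimit D) where
  app G := colimit.post D G
  naturality G G' a := by
    refine colimit.hom_ext fun j => ?_
    dsimp
    rw [ι_colimMap_assoc, colimit.ι_post, colimit.ι_post_assoc, Functor.whiskerLeft_app]
    exact (a.naturality _).symm

/-- A finite limit of functors preserving an exact colimit preserves it. -/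
theorem preservesColimit_of_isLimit {K : Type z} [SmallCategory K] [FinCategory K] [HasLimitsOfShape K B]
    [PreservesLimitsOfShape K (colim : (Λ ⥤ B) ⥤ B)] {Φ : K ⥤ A ⥤ B} {c : Cone Φ} (hc : IsLimit c)
    (h : ∀ k, PreservesColimit D (Φ.obj k)) : PreservesColimit D c.pt := by
  let η := postNatTrans (B := B) D
  haveI : ∀ k, IsIso ((Functor.whiskerLeft Φ η).app k) := fun k => by
    haveI := h k
    exact inferInstanceAs (IsIso (colimit.post D (Φ.obj k)))
  haveI : IsIso (Functor.whiskerLeft Φ η) := NatIso.isIso_of_isIso_app _
  let hs := isLimitOfPreserves ((Functor.whiskeringLeft Λ A B).obj D ⋙ colim) hc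
  let ht := isLimitOfPreserves ((evaluation A B).obj (colimit D)) hc
  let e := IsLimit.conePointsIsoOfNatIso hs ht (asIso (Functor.whiskerLeft Φ η))
  have he : colimit.post D c.pt = e.hom := by
    refine ht.hom_ext fun k => ?_
    refine Eq.trans ?_ (IsLimit.conePointsIsoOfNatIso_hom_comp hs ht _ k).symm
    exact (η.naturality (c.π.app k)).symm
  haveI : IsIso (colimit.post D c.pt) := by rw [he]; infer_instance
  exact preservesColimit_of_isIso_post c.pt D

end Generic

variable {C : Type u} [SmallCategory C] {J : GrothendieckTopology C} (O : Sheaf J CommRingCat.{u})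

attribute [local instance] hasSheafHom

/-- The internal hom, as a functor of both variables. -/
noncomputable def sheafHomBi : (ModSite.Mod O)ᵒᵖ ⥤ ModSite.Mod O ⥤ ModSite.Mod O where
  obj M := ModSite.sheafHom M.unop
  map {M M'} a := conjugateEquiv (sheafHomAdj' M.unop) (sheafHomAdj' M'.unop)
    ((ModSite.tensorBi O).flip.map a.unop)
  map_id M := by
    rw [unop_id, (ModSite.tensorBi O).flip.map_id, conjugateEquiv_id]
  map_comp a b := by
    rw [unop_comp, (ModSite.tensorBi O).flip.map_comp, conjugateEquiv_comp]

/-- Maps into the internal hom, natural in the contravariant variable. -/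
noncomputable def sheafHomBiCoyonedaIso (T N : ModSite.Mod O) :
    (sheafHomBi O).flip.obj N ⋙ coyoneda.obj (op T) ≅
      ((ModSite.tensorBi O).obj T).op ⋙ yoneda.obj N :=
  NatIso.ofComponents (fun M => (((sheafHomAdj' M.unop).homEquiv T N).symm).toIso) (fun {M M'} a => by
    refine ConcreteCategory.hom_ext _ _ fun (f : T ⟶ (ModSite.sheafHom M.unop).obj N) => ?_
    change ((sheafHomAdj' M'.unop).homEquiv T N).symm (f ≫ (conjugateEquiv (sheafHomAdj' M.unop)
      (sheafHomAdj' M'.unop) ((ModSite.tensorBi O).flip.map a.unop)).app N) =
      ((ModSite.tensorBi O).obj T).map a.unop ≫ ((sheafHomAdj' M.unop).homEquiv T N).symm f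
    rw [Adjunction.homEquiv_counit, Adjunction.homEquiv_counit, Functor.map_comp, Category.assoc,
      conjugateEquiv_counit, ← Category.assoc]
    exact (congrArg (· ≫ _) (((ModSite.tensorBi O).flip.map a.unop).naturality f)).trans
      (Category.assoc _ _ _))

theorem preservesFiniteLimits_sheafHomBi : PreservesFiniteLimits (sheafHomBi O) := by
  refine ⟨fun K _ _ => preservesLimitsOfShape_of_evaluation _ K fun N => ⟨fun {G} => ⟨fun {c} hc => ⟨?_⟩⟩⟩⟩
  refine coyonedaJointlyReflectsLimits _ _ fun T => ?_
  haveI := preservesColimits_tensor O T.unop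
  haveI : PreservesFiniteColimits ((ModSite.tensorBi O).obj T.unop) :=
    PreservesColimitsOfSize.preservesFiniteColimits _
  haveI : PreservesFiniteLimits ((ModSite.tensorBi O).obj T.unop).op :=
    preservesFiniteLimits_op _
  haveI : PreservesLimitsOfShape K ((sheafHomBi O).flip.obj N ⋙ coyoneda.obj T) :=
    preservesLimitsOfShape_of_natIso (sheafHomBiCoyonedaIso O T.unop N).symm
  exact isLimitOfPreserves ((sheafHomBi O).flip.obj N ⋙ coyoneda.obj T) hc

/-- The internal hom out of the structure sheaf is the identity. -/
noncomputable def sheafHomUnitIso : ModSite.sheafHom (ModSite.unit O) ≅ 𝟭 (ModSite.Mod O) :=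
  Adjunction.rightAdjointUniq (sheafHomAdj' (ModSite.unit O))
    (Adjunction.id.ofNatIsoLeft
      (tensorFlipIso O (ModSite.unit O) ≪≫ NatIso.ofComponents (fun M => unitTensorIso M) (fun {M N} f => by
        simp only [unitTensorIso, Iso.trans_hom, Functor.mapIso_hom]
        have h1 := congrArg (aP O).map (MonoidalCategory.leftUnitor_naturality ((jP O).map f))
        have h2 : (aP O).map ((jP O).map f) ≫ ((asIso (adjP O).counit).app N).hom =
            ((asIso (adjP O).counit).app M).hom ≫ f := (adjP O).counit.naturality f
        rw [Functor.map_comp, Functor.map_comp] at h1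
        exact (Category.assoc _ _ _).symm.trans ((congrArg (· ≫ _) h1).trans ((Category.assoc _ _ _).trans
          ((congrArg (_ ≫ ·) h2).trans (Category.assoc _ _ _).symm))))).symm)

variable {O} {Λ : Type u} [SmallCategory Λ] [IsFiltered Λ] (D : Λ ⥤ ModSite.Mod O)

theorem preservesColimit_sheafHom_of_isColimit {K : Type z} [SmallCategory K] [FinCategory K]
    {G : K ⥤ ModSite.Mod O} {c : Cocone G} (hc : IsColimit c)
    (h : ∀ k, PreservesColimit D (ModSite.sheafHom (G.obj k))) :
    PreservesColimit D (ModSite.sheafHom c.pt) := by
  haveI := preservesFiniteLimits_sheafHomBi O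
  haveI : HasExactColimitsOfShape Λ (ModSite.Mod O) := AB5OfSize.ofShape Λ
  haveI : PreservesLimitsOfShape Kᵒᵖ (colim : (Λ ⥤ ModSite.Mod O) ⥤ ModSite.Mod O) :=
    haveI := HasExactColimitsOfShape.preservesFiniteLimits (J := Λ) (C := ModSite.Mod O)
    inferInstance
  exact preservesColimit_of_isLimit D (isLimitOfPreserves (sheafHomBi O) hc.op) fun k => h k.unop

theorem preservesColimit_sheafHom_of_isCokernel {P Q F : ModSite.Mod O} (f : P ⟶ Q) (g : Q ⟶ F)
    (w : f ≫ g = 0) (hc : IsColimit (CokernelCofork.ofπ g w))
    (hP : PreservesColimit D (ModSite.sheafHom P)) (hQ : PreservesColimit D (ModSite.sheafHom Q)) :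
    PreservesColimit D (ModSite.sheafHom F) :=
  preservesColimit_sheafHom_of_isColimit D (G := parallelPair f 0) (c := CokernelCofork.ofπ g w) hc
    fun k => match k with
      | WalkingParallelPair.zero => hP
      | WalkingParallelPair.one => hQ

theorem preservesColimit_sheafHom_of_presentation {F : ModSite.Mod O}
    (p : SheafOfModules.Presentation (R := ModSite.ringSh O) F) [p.IsFinite] :
    PreservesColimit D (ModSite.sheafHom F) := by
  have hfree : ∀ (I : Type u) [Finite I],
      PreservesColimit D (ModSite.sheafHom (SheafOfModules.free (R := ModSite.ringSh O) I)) := by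
    intro I _
    letI := Fintype.ofFinite I
    have hu : PreservesColimit D (ModSite.sheafHom (ModSite.unit O)) :=
      preservesColimit_of_natIso D (sheafHomUnitIso O).symm
    exact preservesColimit_sheafHom_of_isColimit D (coproductIsCoproduct (fun _ : I => ModSite.unit O))
      fun _ => hu
  exact preservesColimit_sheafHom_of_isCokernel D _ _ _ p.isColimit (hfree p.relations.I)
    (hfree p.generators.I)

theorem preservesColimit_sheafHom_of_isFinitePresentation (F : ModSite.Mod O)
    [hF : SheafOfModules.IsFinitePresentation (R := ModSite.ringSh O) F] :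
    PreservesColimit D (ModSite.sheafHom F) := by
  obtain ⟨σ, hσ⟩ := hF.exists_quasicoherentData
  haveI : IsIso (colimit.post D (ModSite.sheafHom F)) := by
    refine (isIso_iff_of_reflects_iso _ (SheafOfModules.toSheaf _)).1 (Sheaf.isIso_of_coversTop σ.coversTop fun i => ?_)
    let X := σ.X i
    haveI := hσ.isFinite_presentation i
    haveI := Groth.Agent.DerCompLib.isLeftAdjoint_restr' O X
    haveI : PreservesColimit (D ⋙ ModSite.restr O X) (ModSite.sheafHom ((ModSite.restr O X).obj F)) :=
      preservesColimit_sheafHom_of_presentation (D ⋙ ModSite.restr O X) (σ.presentation i)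
    haveI : PreservesColimit D (ModSite.sheafHom F ⋙ ModSite.restr O X) :=
      preservesColimit_of_natIso D (restrSheafHomIso X F).symm
    have h := colimit.post_post D (ModSite.sheafHom F) (ModSite.restr O X)
    haveI : IsIso ((ModSite.restr O X).map (colimit.post D (ModSite.sheafHom F))) := by
      haveI : IsIso (colimit.post (D ⋙ ModSite.sheafHom F) (ModSite.restr O X) ≫
          (ModSite.restr O X).map (colimit.post D (ModSite.sheafHom F))) := by rw [h]; infer_instance
      exact IsIso.of_isIso_comp_left (colimit.post (D ⋙ ModSite.sheafHom F) (ModSite.restr O X)) _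
    exact inferInstanceAs (IsIso ((SheafOfModules.toSheaf _).map
      ((ModSite.restr O X).map (colimit.post D (ModSite.sheafHom F)))))
  exact preservesColimit_of_isIso_post (ModSite.sheafHom F) D

end ModSiteLib
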