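/-
Maps from finitely presented to flat modules factor locally through free modules.
-/
import Groth.Agent.ModSiteLib.FreeGen

set_option autoImplicit false
set_option linter.style.haveILetI false
set_option backward.isDefEq.respectTransparency false

universe u

open CategoryTheory Limits Opposite Groth.Agent.ModSiteLib Groth.Agent.ModSiteLib.SetPull

namespace ModSiteLib

variable {C : Type u} [SmallCategory C] {J : GrothendieckTopology C} {O : Sheaf J CommRingCat.{u}}

/-- A finite presentation over an object, by sections. -/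
structure FinPres (F : ModSite.Mod O) (U : C) where
  /-- number of generators -/
  n : ℕ
  /-- generators -/
  e : Fin n → Sec F U
  /-- number of relations -/
  m : ℕ
  /-- relations -/
  c : Fin m → Fin n → O.obj.obj (op U)
  rel : ∀ b, ∑ a, c b a • e a = 0
  gen : ∀ {V : C} (g : V ⟶ U) (x : Sec F V), Loc J V fun V' g' =>
    ∃ d : Fin n → O.obj.obj (op V'),
      res ((jP O).obj F) g'.op x = ∑ a, d a • res ((jP O).obj F) (g' ≫ g).op (e a)
  ker : ∀ {V : C} (g : V ⟶ U) (d : Fin n → O.obj.obj (op V)),
    ∑ a, d a • res ((jP O).obj F) g.op (e a) = 0 → Loc J V fun V' g' =>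
      ∃ y : Fin m → O.obj.obj (op V'), ∀ a, rC g' (d a) = ∑ b, y b * rC (g' ≫ g) (c b a)

/-- Finite presentations on `C/U` give presentations by sections. -/
theorem nonempty_finPres (F : ModSite.Mod O) (U : C)
    (p : ((ModSite.restr O U).obj F).Presentation) [p.IsFinite] : Nonempty (FinPres F U) := by
  classical
  let G := p.generators
  let T : Over U := Over.mk (𝟙 U)
  let hT : IsTerminal T := Over.mkIdTerminal
  haveI : Finite G.I := inferInstanceAs (Finite p.generators.I)
  haveI : Finite p.relations.I := inferInstance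
  letI : Fintype G.I := Fintype.ofFinite _
  letI : Fintype p.relations.I := Fintype.ofFinite _
  let eI := (Fintype.equivFin G.I).symm
  let eR := (Fintype.equivFin p.relations.I).symm
  let FI := SheafOfModules.free (R := ModSite.ringSh (O.over U)) G.I
  let pr : G.I → (FI ⟶ ModSite.unit (O.over U)) := fun i =>
    freeLift hT fun j => (show O.obj.obj (op U) from if j = i then 1 else 0)
  let e : Fin _ → Sec F U := fun a => ap G.π T (freeSec (O.over U) T G.I (eI a))
  let rs : Fin _ → Sec FI T := fun b =>
    ap (p.relations.π ≫ kernel.ι G.π) T (freeSec (O.over U) T p.relations.I (eR b))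
  let c : Fin _ → Fin _ → O.obj.obj (op U) := fun b a => ap (pr (eI a)) T (rs b)
  have hcomb : ∀ {V : Over U} (x : Sec FI V), Loc (J.over U) V fun V' g =>
      ∃ d : G.I → O.obj.obj (op V'.left),
        res ((jP (O.over U)).obj FI) g.op x = ∑ i, d i • res ((jP (O.over U)).obj FI) (hT.from V').op
          (freeSec (O.over U) T G.I i) ∧
        ∀ i, (ap (pr i) V' (res ((jP (O.over U)).obj FI) g.op x) : O.obj.obj (op V'.left)) = d i := by
    intro V x
    refine (loc_free hT x).mono fun V' g ⟨d, hd⟩ => ⟨d, hd, fun i => ?_⟩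
    rw [hd, ap_sum, Finset.sum_eq_single i]
    · rw [ap_smul]
      refine (congrArg (d i • ·) ((app_res ((jP (O.over U)).map (pr i)) (hT.from V').op _).trans
        (congrArg (res ((jP (O.over U)).obj (ModSite.unit (O.over U))) (hT.from V').op)
          ((ap_freeLift hT _ i).trans (if_pos rfl))))).trans ?_
      exact (congrArg (d i * ·) (map_one (O.obj.map (hT.from V').left.op).hom)).trans (mul_one _)
    · intro j _ hj
      rw [ap_smul]
      refine (congrArg (d j • ·) ((app_res ((jP (O.over U)).map (pr i)) (hT.from V').op _).trans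
        (congrArg (res ((jP (O.over U)).obj (ModSite.unit (O.over U))) (hT.from V').op)
          ((ap_freeLift hT _ j).trans (if_neg hj))))).trans ?_
      exact (congrArg (d j • ·) (res_zero _ _)).trans (smul_zero _)
    · simp
  have hzero : ∀ {V : Over U} (r : Sec (kernel G.π) V), ap G.π V (ap (kernel.ι G.π) V r) = 0 :=
    fun {V} r => (ap_comp (kernel.ι G.π) G.π V r).symm.trans (by rw [kernel.condition]; rfl)
  have hrsum : ∀ b, rs b = ∑ i, (ap (pr i) T (rs b) : O.obj.obj (op U)) • freeSec (O.over U) T G.I i := by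
    intro b
    refine sub_eq_zero.1 (sec_eq_zero_of_loc FI _ ((hcomb (rs b)).mono fun V' g ⟨d, hd, hpr⟩ => ?_))
    refine (map_sub (((jP (O.over U)).obj FI).map g.op).hom _ _).trans (sub_eq_zero.2 ?_)
    show res _ g.op (rs b) = res _ g.op _
    rw [res_sum]
    refine hd.trans (Finset.sum_congr rfl fun i _ => ?_)
    rw [res_smul, show g = hT.from V' from hT.hom_ext _ _]
    refine congrArg (· • _) ((hpr i).symm.trans ?_)
    exact (app_res ((jP (O.over U)).map (pr i)) g.op (rs b)).trans
      (by rw [show g = hT.from V' from hT.hom_ext _ _]; rfl)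
  refine ⟨{ n := _, e := e, m := _, c := c, rel := fun b => ?_, gen := ?_, ker := ?_ }⟩
  · refine Eq.trans ?_ (hzero (V := T) (ap p.relations.π T (freeSec (O.over U) T p.relations.I (eR b))))
    show _ = ap G.π T (rs b)
    rw [hrsum b, ap_sum]
    refine (eI.sum_comp fun i => (ap (pr i) T (rs b) : O.obj.obj (op U)) •
      (show Sec F U from ap G.π T (freeSec (O.over U) T G.I i))).trans ?_
    exact Finset.sum_congr rfl fun i _ => (ap_smul G.π T _ _).symm
  · intro V g x
    obtain ⟨S, hS, hp⟩ := (loc_of_epi (O := O.over U) G.π (V := Over.mk g) x).bind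
      (q := fun V' (g' : V' ⟶ Over.mk g) => ∃ d : G.I → O.obj.obj (op V'.left),
        res ((jP O).obj F) g'.left.op x =
          ∑ i, d i • res ((jP O).obj F) (hT.from V').left.op (ap G.π T (freeSec (O.over U) T G.I i)))
      fun V' g' ⟨q, hq⟩ => (loc_free hT q).mono fun V'' g'' ⟨d, hd⟩ => ⟨d, by
        show res ((jP (O.over U)).obj ((ModSite.restr O U).obj F)) (g'' ≫ g').op x = _
        rw [op_comp, ← res_comp, ← hq]
        refine (app_res ((jP (O.over U)).map G.π) g''.op q).symm.trans ?_
        refine (congrArg (ap G.π V'') hd).trans ?_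
        rw [ap_sum]
        refine Finset.sum_congr rfl fun i _ => ?_
        exact (ap_smul G.π V'' _ _).trans (congrArg (d i • ·)
          (app_res ((jP (O.over U)).map G.π) (hT.from V'').op _))⟩
    refine ⟨Sieve.overEquiv (Over.mk g) S, hS, fun V' g' hg' => ?_⟩
    rw [Sieve.overEquiv_iff] at hg'
    obtain ⟨d, hd⟩ := hp _ hg'
    refine ⟨fun a => d (eI a), hd.trans ?_⟩
    refine Eq.trans ?_ (eI.sum_comp fun i => d i • res ((jP O).obj F) (g' ≫ g).op
      (show Sec F U from ap G.π T (freeSec (O.over U) T G.I i))).symm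
    refine Finset.sum_congr rfl fun i _ => ?_
    have hleft : (hT.from (Over.mk (g' ≫ (Over.mk g).hom))).left = g' ≫ g :=
      (Category.comp_id _).symm.trans (Over.w (hT.from (Over.mk (g' ≫ (Over.mk g).hom))))
    rw [hleft]
  · intro V g d hd
    let x : Sec FI (Over.mk g) := ∑ a, d a • res ((jP (O.over U)).obj FI) (hT.from (Over.mk g)).op
      (freeSec (O.over U) T G.I (eI a))
    have hleft : (hT.from (Over.mk g)).left = g :=
      (Category.comp_id _).symm.trans (Over.w (hT.from (Over.mk g)))
    have hx : ap G.π (Over.mk g) x = 0 := by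
      refine Eq.trans ?_ hd
      rw [ap_sum]
      refine Finset.sum_congr rfl fun a _ => (ap_smul G.π _ _ _).trans (congrArg (d a • ·) ?_)
      refine (app_res ((jP (O.over U)).map G.π) (hT.from (Over.mk g)).op _).trans ?_
      show res ((jP O).obj F) (hT.from (Over.mk g)).left.op (e a) = _
      rw [hleft]
    obtain ⟨r, hr⟩ := exists_kernel_section G.π (Over.mk g) x hx
    obtain ⟨S, hS, hp⟩ := (loc_of_epi (O := O.over U) p.relations.π r).bind
      (q := fun V' (g' : V' ⟶ Over.mk g) => ∃ y : p.relations.I → O.obj.obj (op V'.left),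
        res ((jP (O.over U)).obj FI) g'.op x = ∑ b, y b • res ((jP (O.over U)).obj FI) (hT.from V').op
          (ap (p.relations.π ≫ kernel.ι G.π) T (freeSec (O.over U) T p.relations.I b)))
      fun V' g' ⟨q, hq⟩ => (loc_free hT q).mono fun V'' g'' ⟨y, hy⟩ => ⟨y, by
        rw [op_comp, ← res_comp, ← hr, ← app_res ((jP (O.over U)).map (kernel.ι G.π)), ← hq]
        refine (app_res ((jP (O.over U)).map (kernel.ι G.π)) g''.op _).symm.trans ?_
        refine (congrArg (ap (kernel.ι G.π) V'')
          (app_res ((jP (O.over U)).map p.relations.π) g''.op q).symm).trans ?_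
        refine (congrArg (fun t => ap (kernel.ι G.π) V'' (ap p.relations.π V'' t)) hy).trans ?_
        rw [ap_sum, ap_sum]
        refine Finset.sum_congr rfl fun b _ => ?_
        rw [ap_smul, ap_smul]
        refine congrArg (y b • ·) ?_
        exact app_res ((jP (O.over U)).map (p.relations.π ≫ kernel.ι G.π)) (hT.from V'').op _⟩
    refine ⟨Sieve.overEquiv (Over.mk g) S, hS, fun V' g' hg' => ?_⟩
    rw [Sieve.overEquiv_iff] at hg'
    obtain ⟨y, hy⟩ := hp _ hg'
    refine ⟨fun b => y (eR b), fun a => ?_⟩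
    let g₁ : Over.mk (g' ≫ (Over.mk g).hom) ⟶ Over.mk g := Over.homMk g'
    have h₁ : ap (pr (eI a)) (Over.mk g) x = d a := by
      rw [ap_sum, Finset.sum_eq_single a]
      · rw [ap_smul]
        refine (congrArg (d a • ·) ((app_res ((jP (O.over U)).map (pr (eI a))) (hT.from (Over.mk g)).op _).trans
          (congrArg (res ((jP (O.over U)).obj (ModSite.unit (O.over U))) (hT.from (Over.mk g)).op)
            ((ap_freeLift hT _ (eI a)).trans (if_pos rfl))))).trans ?_
        exact (congrArg (d a * ·) (map_one (O.obj.map (hT.from (Over.mk g)).left.op).hom)).trans (mul_one _)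
      · intro b _ hb
        rw [ap_smul]
        refine (congrArg (d b • ·) ((app_res ((jP (O.over U)).map (pr (eI a))) (hT.from (Over.mk g)).op _).trans
          (congrArg (res ((jP (O.over U)).obj (ModSite.unit (O.over U))) (hT.from (Over.mk g)).op)
            ((ap_freeLift hT _ (eI b)).trans (if_neg (eI.injective.ne hb)))))).trans ?_
        exact (congrArg (d b • ·) (res_zero _ _)).trans (smul_zero _)
      · simp
    refine (congrArg (rC g') h₁.symm).trans ?_
    show res ((jP (O.over U)).obj (ModSite.unit (O.over U))) g₁.op (ap (pr (eI a)) (Over.mk g) x) = _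
    rw [← app_res ((jP (O.over U)).map (pr (eI a))) g₁.op x]
    refine (congrArg (ap (pr (eI a)) _) hy).trans ?_
    rw [ap_sum]
    refine Eq.trans ?_ (eR.sum_comp fun b => @HMul.hMul (O.obj.obj (op V')) (O.obj.obj (op V'))
      (O.obj.obj (op V')) _ (y b) (rC (g' ≫ g) (show O.obj.obj (op U) from
        ap (pr (eI a)) T (ap (p.relations.π ≫ kernel.ι G.π) T (freeSec (O.over U) T p.relations.I b))))).symm
    refine Finset.sum_congr rfl fun b _ => ?_
    rw [ap_smul]
    refine (congrArg (y b • ·) (app_res ((jP (O.over U)).map (pr (eI a))) _ _)).trans ?_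
    have hl : (hT.from (Over.mk (g' ≫ (Over.mk g).hom))).left = g' ≫ g :=
      (Category.comp_id _).symm.trans (Over.w (hT.from (Over.mk (g' ≫ (Over.mk g).hom))))
    refine congrArg (y b * ·) ?_
    show rC (hT.from (Over.mk (g' ≫ (Over.mk g).hom))).left _ = _
    rw [hl]
    rfl

/-- Local factorisation through a free module. -/
theorem loc_factor {F H : ModSite.Mod O} (hH : Eqn H) (φ : F ⟶ H) {U : C} (P : FinPres F U) :
    Loc J U fun W g => ∃ (l : ℕ)
      (a : (ModSite.restr O W).obj F ⟶ SheafOfModules.free (ULift.{u} (Fin l)))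
      (b : SheafOfModules.free (ULift.{u} (Fin l)) ⟶ (ModSite.restr O W).obj H),
      a ≫ b = (ModSite.restr O W).map φ := by
  have hrel : ∀ b ∈ (Finset.univ : Finset (Fin P.m)), ∑ a, P.c b a • ap φ U (P.e a) = 0 := fun b _ => by
    simp only [← ap_smul]
    rw [← ap_sum, P.rel b, ap_zero]
  refine Loc.mono (eqn_multi hH Finset.univ P.c (fun a => ap φ U (P.e a)) hrel) ?_
  intro W g ⟨l, t, B, ht, hB⟩
  let T : Over W := Over.mk (𝟙 W)
  let hT : IsTerminal T := Over.mkIdTerminal
  let L := ULift.{u} (Fin l)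
  let FL := SheafOfModules.free (R := ModSite.ringSh (O.over W)) L
  let FN := SheafOfModules.free (R := ModSite.ringSh (O.over W)) (ULift.{u} (Fin P.n))
  let p : FN ⟶ (ModSite.restr O W).obj F := freeLift hT fun i => res ((jP O).obj F) g.op (P.e i.down)
  let a₀ : FN ⟶ FL := freeLift hT fun i => ∑ k : L,
    (show (O.over W).obj.obj (op T) from B i.down k.down) • freeSec (O.over W) T L k
  let b : FL ⟶ (ModSite.restr O W).obj H := freeLift hT fun k => t k.down
  have hpV : ∀ (V : Over W) (i : ULift.{u} (Fin P.n)),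
      ap p V (res ((jP (O.over W)).obj FN) (hT.from V).op (freeSec (O.over W) T _ i)) =
        res ((jP O).obj F) (V.hom ≫ g).op (P.e i.down) := fun V i => by
    refine (app_res ((jP (O.over W)).map p) (hT.from V).op _).trans ?_
    refine (congrArg (res _ (hT.from V).op) (ap_freeLift hT _ i)).trans ?_
    refine (res_comp ((jP O).obj F) g.op (hT.from V).left.op _).trans ?_
    have : (hT.from V).left = V.hom := (Category.comp_id _).symm.trans (Over.w (hT.from V))
    rw [← op_comp, this]
  haveI : Epi p := epi_of_loc_surjective p fun V x => by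
    obtain ⟨S, hS, hp⟩ := P.gen (V.hom ≫ g) x
    refine ⟨(Sieve.overEquiv V).symm S, J.overEquiv_symm_mem_over V S hS, fun V' g' hg' => ?_⟩
    obtain ⟨d, hd⟩ := hp g'.left ((Sieve.overEquiv_symm_iff S g').1 hg')
    refine ⟨∑ i : ULift.{u} (Fin P.n), (show (O.over W).obj.obj (op V') from d i.down) •
      res ((jP (O.over W)).obj FN) (hT.from V').op (freeSec (O.over W) T _ i), ?_⟩
    refine Eq.trans ?_ hd.symm
    rw [ap_sum]
    refine Eq.trans ?_ ((Equiv.ulift.{u}).sum_comp fun a => d a • res ((jP O).obj F)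
      (g'.left ≫ V.hom ≫ g).op (P.e a))
    refine Finset.sum_congr rfl fun i _ => (ap_smul p V' _ _).trans (congrArg (_ • ·) ?_)
    rw [hpV, ← Category.assoc, Over.w g']
    rfl
  have hk : kernel.ι p ≫ a₀ = 0 := by
    refine SheafOfModules.hom_ext (PresheafOfModules.hom_ext fun V => ModuleCat.hom_ext
      (LinearMap.ext fun r => ?_))
    show ap a₀ V.unop (ap (kernel.ι p) V.unop r) = 0
    have h0 : ap p V.unop (ap (kernel.ι p) V.unop r) = 0 :=
      (ap_comp (kernel.ι p) p V.unop r).symm.trans (by rw [kernel.condition]; rfl)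
    generalize ap (kernel.ι p) V.unop r = x at h0 ⊢
    refine sec_eq_zero_of_loc FL _ ((loc_free hT x).bind fun V₁ g₁ ⟨d, hd⟩ => ?_)
    have hd0 : ∑ i, (show O.obj.obj (op V₁.left) from d ⟨i⟩) •
        res ((jP O).obj F) (V₁.hom ≫ g).op (P.e i) = 0 := by
      refine Eq.trans ?_ ((app_res ((jP (O.over W)).map p) g₁.op x).trans
        ((congrArg (res _ g₁.op) h0).trans (res_zero _ _)))
      refine Eq.trans ?_ (congrArg (ap p V₁) hd).symm
      rw [ap_sum]
      refine Eq.trans ?_ (Finset.sum_congr rfl fun i _ =>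
        ((ap_smul p V₁ _ _).trans (congrArg (d i • ·) (hpV V₁ i))).symm)
      exact ((Equiv.ulift.{u}).sum_comp fun a => (show O.obj.obj (op V₁.left) from d ⟨a⟩) •
        res ((jP O).obj F) (V₁.hom ≫ g).op (P.e a)).symm
    obtain ⟨S, hS, hy⟩ := P.ker (V₁.hom ≫ g) (fun i => d ⟨i⟩) hd0
    refine ⟨(Sieve.overEquiv V₁).symm S, J.overEquiv_symm_mem_over V₁ S hS, fun V₂ g₂ hg₂ => ?_⟩
    obtain ⟨y, hy⟩ := hy g₂.left ((Sieve.overEquiv_symm_iff S g₂).1 hg₂)
    have hd₂ : res ((jP (O.over W)).obj FN) (g₂ ≫ g₁).op x =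
        ∑ i, (show (O.over W).obj.obj (op V₂) from rC (O := O) g₂.left (d i)) •
          res ((jP (O.over W)).obj FN) (hT.from V₂).op (freeSec (O.over W) T _ i) := by
      rw [op_comp, ← res_comp, hd, res_sum]
      refine Finset.sum_congr rfl fun i _ => ?_
      rw [res_smul, res_comp, ← op_comp, show g₂ ≫ hT.from V₁ = hT.from V₂ from hT.hom_ext _ _]
      rfl
    refine (app_res ((jP (O.over W)).map a₀) (g₂ ≫ g₁).op x).symm.trans ?_
    refine (congrArg (ap a₀ V₂) hd₂).trans ?_
    rw [ap_sum]
    simp only [ap_smul]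
    have e₁ : ∀ i, ap a₀ V₂ (res ((jP (O.over W)).obj FN) (hT.from V₂).op (freeSec (O.over W) T _ i)) =
        ∑ k : L, (show (O.over W).obj.obj (op V₂) from rC (O := O) V₂.hom (B i.down k.down)) •
          res ((jP (O.over W)).obj FL) (hT.from V₂).op (freeSec (O.over W) T L k) := fun i => by
      refine (app_res ((jP (O.over W)).map a₀) (hT.from V₂).op _).trans ?_
      refine (congrArg (res _ (hT.from V₂).op) (ap_freeLift hT _ i)).trans ?_
      rw [res_sum]
      refine Finset.sum_congr rfl fun k _ => ?_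
      rw [res_smul]
      refine congrArg (· • _) ?_
      show rC (hT.from V₂).left _ = _
      have : (hT.from V₂).left = V₂.hom := (Category.comp_id _).symm.trans (Over.w (hT.from V₂))
      rw [this]
      rfl
    simp only [e₁, Finset.smul_sum, ← mul_smul]
    rw [Finset.sum_comm]
    refine Finset.sum_eq_zero fun k _ => ?_
    rw [← Finset.sum_smul]
    refine (congrArg (· • _) ?_).trans (zero_smul _ _)
    show ∑ i : ULift.{u} (Fin P.n), rC (O := O) g₂.left (d i) * rC (O := O) V₂.hom (B i.down k.down) =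
      (0 : O.obj.obj (op V₂.left))
    rw [← (Equiv.ulift.{u}).symm.sum_comp]
    simp only [Equiv.ulift_symm_apply]
    simp only [hy, Finset.sum_mul]
    rw [Finset.sum_comm]
    refine Finset.sum_eq_zero fun b' _ => ?_
    have e₂ := congrArg (rC (O := O) V₂.hom) (hB b' (Finset.mem_univ b') k.down)
    simp only [rC, map_sum, map_mul, map_zero] at e₂
    refine Eq.trans ?_ ((congrArg (y b' * ·) e₂).trans (mul_zero _))
    rw [Finset.mul_sum]
    refine Finset.sum_congr rfl fun i _ => ?_
    rw [← Over.w g₂]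
    simp only [rC, op_comp, Functor.map_comp, CommRingCat.hom_comp, RingHom.comp_apply, Category.assoc]
    ring
  have hex : (ShortComplex.mk (kernel.ι p) p (kernel.condition p)).Exact := ShortComplex.exact_kernel p
  haveI : Epi (ShortComplex.mk (kernel.ι p) p (kernel.condition p)).g := ‹Epi p›
  let a := hex.desc a₀ hk
  have ha : p ≫ a = a₀ := hex.g_desc a₀ hk
  refine ⟨l, a, b, ?_⟩
  rw [← cancel_epi p, ← Category.assoc, ha]
  refine free_hom_ext hT fun i => ?_
  rw [ap_comp, ap_comp, ap_freeLift, ap_freeLift, ap_sum]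
  refine Eq.trans ?_ ((app_res ((jP O).map φ) g.op (P.e i.down)).trans (ht i.down)).symm
  refine Eq.trans ?_ ((Equiv.ulift.{u}).sum_comp fun k => B i.down k • t k)
  refine Finset.sum_congr rfl fun k _ => ?_
  exact (ap_smul b T _ _).trans (congrArg (_ • ·) (ap_freeLift hT _ k))

/-- Maps from finitely presented to flat modules factor locally through free modules. -/
theorem exists_cover_factor {F H : ModSite.Mod O} [F.IsFinitePresentation] (hH : ModSite.IsFlat H)
    (φ : F ⟶ H) (X : C) :
    Loc J X fun W _ => ∃ (l : ℕ)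
      (a : (ModSite.restr O W).obj F ⟶ SheafOfModules.free (ULift.{u} (Fin l)))
      (b : SheafOfModules.free (ULift.{u} (Fin l)) ⟶ (ModSite.restr O W).obj H),
      a ≫ b = (ModSite.restr O W).map φ := by
  obtain ⟨σ, hσ⟩ := SheafOfModules.IsFinitePresentation.exists_quasicoherentData F
  refine Loc.bind (p := fun V _ => ∃ i, Nonempty (V ⟶ σ.X i))
    ⟨Sieve.ofObjects σ.X X, σ.coversTop X, fun V g hg => (Sieve.mem_ofObjects_iff ..).1 hg⟩
    fun V g ⟨i, ⟨v⟩⟩ => ?_
  haveI : (σ.presentation i).IsFinite := hσ.isFinite_presentation i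
  obtain ⟨P⟩ := nonempty_finPres F (σ.X i) (σ.presentation i)
  obtain ⟨S, hS, hp⟩ := loc_factor (eqn_of_isFlat hH) φ P
  exact ⟨S.pullback v, J.pullback_stable v hS, fun W g' hg' => hp (g' ≫ v) hg'⟩

end ModSiteLib
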