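/-
Global sections commute with filtered colimits when the final object is quasi-compact and quasi-separated.
-/
import Groth.Agent.ModSiteLib.Colimits
import Groth.Prelude.Def_CohCx
import Mathlib.CategoryTheory.Sites.EpiMono
import Mathlib.CategoryTheory.Limits.Types.Filtered

set_option autoImplicit false
set_option linter.style.haveILetI false
set_option backward.isDefEq.respectTransparency false

universe u

open CategoryTheory Limits Opposite

namespace Groth.Agent.GlobalSectionsColimLib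

variable {C : Type u} [SmallCategory C] {J : GrothendieckTopology C}

/-- The sheafified representable. -/
noncomputable abbrev aY (J : GrothendieckTopology C) (W : C) : Sheaf J (Type u) :=
  (presheafToSheaf J (Type u)).obj (yoneda.obj W)

/-- The map out of a representable given by a section. -/
noncomputable def secMap {K : Sheaf J (Type u)} {W : C} (k : K.obj.obj (op W)) : aY J W ⟶ K :=
  ((sheafificationAdjunction J (Type u)).homEquiv _ K).symm (yonedaEquiv.symm k)

theorem secMap_apply {K : Sheaf J (Type u)} {W : C} (k : K.obj.obj (op W)) {V : C} (g : V ⟶ W) :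
    (secMap k).hom.app (op V) ((toSheafify J (yoneda.obj W)).app (op V) g) = K.obj.map g.op k := by
  have h := ((sheafificationAdjunction J (Type u)).homEquiv _ K).apply_symm_apply (yonedaEquiv.symm k)
  rw [Adjunction.homEquiv_unit] at h
  exact ConcreteCategory.congr_hom (NatTrans.congr_app h (op V)) g

theorem secMap_id {K : Sheaf J (Type u)} {W : C} (k : K.obj.obj (op W)) :
    (secMap k).hom.app (op W) ((toSheafify J (yoneda.obj W)).app (op W) (𝟙 W)) = k :=
  (secMap_apply k (𝟙 W)).trans (by simp)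

theorem secMap_comp {K T : Sheaf J (Type u)} (a : K ⟶ T) {W : C} (k : K.obj.obj (op W)) :
    secMap k ≫ a = secMap (a.hom.app (op W) k) := by
  rw [secMap, secMap, ← Adjunction.homEquiv_naturality_right_symm]
  refine congrArg _ (yonedaEquiv.injective ?_)
  simp [yonedaEquiv_comp]

theorem jointlySurjective_ext {I : Type u} {L : I → Sheaf J (Type u)} {K T : Sheaf J (Type u)}
    {f : ∀ i, L i ⟶ K} (hf : CohCx.JointlySurjective f) {a b : K ⟶ T} (h : ∀ i, f i ≫ a = f i ≫ b) :
    a = b := by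
  refine Sheaf.hom_ext (NatTrans.ext (funext fun V => ?_))
  refine ConcreteCategory.hom_ext _ _ fun (s : K.obj.obj V) => ?_
  obtain ⟨S, hS, hS'⟩ := hf V.unop s
  refine (((isSheaf_iff_isSheaf_of_type _ _).1 T.property).isSeparated S hS).ext fun W g hg => ?_
  obtain ⟨i, z, hz⟩ := hS' W g hg
  change T.obj.map g.op (a.hom.app V s) = T.obj.map g.op (b.hom.app V s)
  rw [← NatTrans.naturality_apply, ← NatTrans.naturality_apply, ← hz]
  exact ConcreteCategory.congr_hom (NatTrans.congr_app (congrArg (fun t => t.hom) (h i)) (op W)) z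

/-- A quasi-compact sheaf is detected by finitely many sections with a given local property. -/
theorem exists_finite_detecting {K : Sheaf J (Type u)} (hK : CohCx.IsQcObject K)
    (P : ∀ W : C, K.obj.obj (op W) → Prop)
    (hP : ∀ (V : C) (k : K.obj.obj (op V)), ∃ S ∈ J V, ∀ ⦃W : C⦄ (g : W ⟶ V), S g → P W (K.obj.map g.op k)) :
    ∃ (κ : Type u) (_ : Fintype κ) (W : κ → C) (k : ∀ i, K.obj.obj (op (W i))), (∀ i, P (W i) (k i)) ∧
      ∀ (T : Sheaf J (Type u)) (a b : K ⟶ T),
        (∀ i, a.hom.app (op (W i)) (k i) = b.hom.app (op (W i)) (k i)) → a = b := by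
  let I := Σ W : C, {k : K.obj.obj (op W) // P W k}
  have hsurj : CohCx.JointlySurjective fun i : I => secMap i.2.1 := by
    intro V s
    obtain ⟨S, hS, hS'⟩ := hP V s
    exact ⟨S, hS, fun W g hg => ⟨⟨W, _, hS' g hg⟩, _, secMap_id _⟩⟩
  obtain ⟨t, ht⟩ := hK I _ _ hsurj
  refine ⟨t, inferInstance, fun i => i.1.1, fun i => i.1.2.1, fun i => i.1.2.2, fun T a b h => ?_⟩
  refine jointlySurjective_ext ht fun i => ?_
  rw [secMap_comp, secMap_comp, h i]

/-- The underlying sheaf of sets. -/
noncomputable abbrev ty (G : Sheaf J AddCommGrpCat.{u}) : Sheaf J (Type u) :=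
  (sheafCompose J (forget AddCommGrpCat.{u})).obj G

/-- A global section, restricted to a sheaf of sets. -/
def glMap (K : Sheaf J (Type u)) {G : Sheaf J AddCommGrpCat.{u}} (x : (ty G).obj.sections) : K ⟶ ty G :=
  ⟨{ app := fun V => TypeCat.ofHom fun _ => x.1 V
     naturality := fun {V W} g => ConcreteCategory.hom_ext _ _ fun _ => (x.2 g).symm }⟩

theorem glMap_comp (K : Sheaf J (Type u)) {G G' : Sheaf J AddCommGrpCat.{u}} (φ : G ⟶ G')
    (x : (ty G).obj.sections) :
    glMap K x ≫ (sheafCompose J (forget AddCommGrpCat.{u})).map φ =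
      glMap K ((Functor.sectionsFunctor _).map ((sheafCompose J (forget AddCommGrpCat.{u})).map φ).hom x) :=
  rfl

theorem epi_terminal_of_cover {F : Sheaf J (Type u)}
    (h : ∀ V : C, ∃ S ∈ J V, ∀ ⦃W : C⦄ (g : W ⟶ V), S g → Nonempty (F.obj.obj (op W))) :
    Epi (terminal.from F) := by
  rw [← Sheaf.isLocallySurjective_iff_epi]
  refine ⟨fun {V} t => ?_⟩
  obtain ⟨S, hS, hS'⟩ := h V
  refine J.superset_covering ?_ hS
  intro W g hg
  obtain ⟨s⟩ := hS' g hg
  refine ⟨s, ?_⟩
  have ht : IsTerminal ((⊤_ Sheaf J (Type u)).obj.obj (op W)) :=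
    IsTerminal.isTerminalObj (sheafToPresheaf J (Type u) ⋙ (evaluation Cᵒᵖ (Type u)).obj (op W)) _
      terminalIsTerminal
  haveI := (Types.isTerminalEquivUnique _ ht).instSubsingleton
  exact Subsingleton.elim _ _

theorem cover_of_epi_terminal {F : Sheaf J (Type u)} (hF : Epi (terminal.from F)) (V : C) :
    ∃ S ∈ J V, ∀ ⦃W : C⦄ (g : W ⟶ V), S g → Nonempty (F.obj.obj (op W)) := by
  haveI := (Sheaf.isLocallySurjective_iff_epi (terminal.from F)).2 hF
  have ht : IsTerminal ((⊤_ Sheaf J (Type u)).obj.obj (op V)) :=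
    IsTerminal.isTerminalObj (sheafToPresheaf J (Type u) ⋙ (evaluation Cᵒᵖ (Type u)).obj (op V)) _
      terminalIsTerminal
  exact ⟨_, Presheaf.imageSieve_mem J (terminal.from F).hom ((Types.isTerminalEquivUnique _ ht).default),
    fun W g hg => ⟨hg.choose⟩⟩

/-- A map out of a cover of the final object, agreeing on the two projections, is a global section. -/
theorem exists_descend {K : Sheaf J (Type u)} (hK : Epi (terminal.from K)) {G : Sheaf J AddCommGrpCat.{u}}
    (a : K ⟶ ty G) (h : (prod.fst : K ⨯ K ⟶ K) ≫ a = prod.snd ≫ a) :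
    ∃ x : (ty G).obj.sections, glMap K x = a := by
  classical
  have hind : ∀ {W : C} (k k' : K.obj.obj (op W)), a.hom.app (op W) k = a.hom.app (op W) k' := by
    intro W k k'
    have e := congrArg (fun t => prod.lift (secMap k) (secMap k') ≫ t) h
    simp only [prod.lift_fst_assoc, prod.lift_snd_assoc, secMap_comp] at e
    rw [← secMap_id (a.hom.app (op W) k), e, secMap_id]
  choose S hS hne using cover_of_epi_terminal hK
  let fam (V : C) : Presieve.FamilyOfElements (ty G).obj (S V).arrows :=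
    fun W g hg => a.hom.app (op W) (hne V g hg).some
  have hcomp : ∀ V, (fam V).Compatible := by
    intro V W₁ W₂ Z g₁ g₂ f₁ f₂ hf₁ hf₂ _
    change (ty G).obj.map g₁.op (a.hom.app (op W₁) _) = (ty G).obj.map g₂.op (a.hom.app (op W₂) _)
    rw [← NatTrans.naturality_apply, ← NatTrans.naturality_apply]
    exact hind _ _
  have hsh (V : C) := ((isSheaf_iff_isSheaf_of_type _ _).1 (ty G).property) (S V) (hS V)
  let x (V : C) : (ty G).obj.obj (op V) := (hsh V).amalgamate (fam V) (hcomp V)
  have hx : ∀ {Z V : C} (h : Z ⟶ V) (k : K.obj.obj (op Z)),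
      (ty G).obj.map h.op (x V) = a.hom.app (op Z) k := by
    intro Z V h k
    refine (((isSheaf_iff_isSheaf_of_type _ _).1 (ty G).property).isSeparated _
      (J.pullback_stable h (hS V))).ext fun W g hg => ?_
    change (ty G).obj.map g.op ((ty G).obj.map h.op (x V)) = (ty G).obj.map g.op (a.hom.app (op Z) k)
    rw [← Functor.map_comp_apply, ← op_comp, ← NatTrans.naturality_apply]
    exact ((hsh V).valid_glue (hcomp V) (g ≫ h) hg).trans (hind _ _)
  refine ⟨⟨fun V => x V.unop, fun {V W} g => ?_⟩, ?_⟩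
  · refine (hsh W.unop).isSeparatedFor.ext fun Z f hf => ?_
    obtain ⟨k⟩ := hne W.unop f hf
    rw [← Functor.map_comp_apply]
    exact (hx (f ≫ g.unop) k).trans (hx f k).symm
  · refine Sheaf.hom_ext (NatTrans.ext (funext fun V => ConcreteCategory.hom_ext _ _ fun k => ?_))
    refine Eq.trans ?_ (hx (𝟙 V.unop) k)
    exact (ConcreteCategory.congr_hom ((ty G).obj.map_id V) (x V.unop)).symm

variable {Λ : Type u} [SmallCategory Λ] [IsFiltered Λ] {D : Λ ⥤ Sheaf J AddCommGrpCat.{u}}
  {c : Cocone D}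

/-- The local description of sections of a filtered colimit of sheaves. -/
theorem isLocallyBijective_desc (hc : IsColimit c) :
    J.W (colimit.desc (D ⋙ sheafToPresheaf J _) ((sheafToPresheaf J _).mapCocone c)) := by
  let E := colimit.cocone (D ⋙ sheafToPresheaf J AddCommGrpCat.{u})
  let e := (Sheaf.isColimitSheafifyCocone E (colimit.isColimit _)).coconePointUniqueUpToIso hc
  have h : colimit.desc (D ⋙ sheafToPresheaf J _) ((sheafToPresheaf J _).mapCocone c) =
      toSheafify J E.pt ≫ ((sheafToPresheaf J _).mapIso e).hom := by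
    refine colimit.hom_ext fun j => ?_
    rw [colimit.ι_desc, ← Category.assoc]
    refine Eq.trans ?_ (congrArg (· ≫ ((sheafToPresheaf J _).mapIso e).hom)
      (Sheaf.sheafifyCocone_ι_app_val E j))
    exact congrArg (fun t => t.hom)
      (IsColimit.comp_coconePointUniqueUpToIso_hom (Sheaf.isColimitSheafifyCocone E (colimit.isColimit _)) hc j).symm
  rw [h]
  exact J.W.comp_mem _ _ (J.W_toSheafify E.pt) (MorphismProperty.of_isIso _ _)

theorem loc_lift (hc : IsColimit c) (V : C) (x : (ty c.pt).obj.obj (op V)) :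
    ∃ S ∈ J V, ∀ ⦃W : C⦄ (g : W ⟶ V), S g → ∃ (i : Λ) (y : (D.obj i).obj.obj (op W)),
      (c.ι.app i).hom.app (op W) y = c.pt.obj.map g.op x := by
  let u := colimit.desc (D ⋙ sheafToPresheaf J _) ((sheafToPresheaf J _).mapCocone c)
  obtain ⟨-, h⟩ := (J.W_iff_isLocallyBijective u).1 (isLocallyBijective_desc hc)
  refine ⟨_, Presheaf.imageSieve_mem J u x, fun W g hg => ?_⟩
  obtain ⟨z, hz⟩ := hg
  obtain ⟨i, y, rfl⟩ := Concrete.isColimit_exists_rep _
    (isColimitOfPreserves ((evaluation Cᵒᵖ AddCommGrpCat.{u}).obj (op W)) (colimit.isColimit _)) z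
  refine ⟨i, y, Eq.trans ?_ hz⟩
  exact (ConcreteCategory.congr_hom (NatTrans.congr_app (colimit.ι_desc ((sheafToPresheaf J _).mapCocone c) i) (op W)) y).symm

theorem loc_eq (hc : IsColimit c) {i : Λ} (V : C) (x y : (D.obj i).obj.obj (op V))
    (h : (c.ι.app i).hom.app (op V) x = (c.ι.app i).hom.app (op V) y) :
    ∃ S ∈ J V, ∀ ⦃W : C⦄ (g : W ⟶ V), S g → ∃ (j : Λ) (f : i ⟶ j),
      (D.map f).hom.app (op W) ((D.obj i).obj.map g.op x) =
        (D.map f).hom.app (op W) ((D.obj i).obj.map g.op y) := by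
  let u := colimit.desc (D ⋙ sheafToPresheaf J _) ((sheafToPresheaf J _).mapCocone c)
  obtain ⟨h', -⟩ := (J.W_iff_isLocallyBijective u).1 (isLocallyBijective_desc hc)
  let ι := (colimit.ι (D ⋙ sheafToPresheaf J AddCommGrpCat.{u}) i).app (op V)
  have hu : ∀ z, u.app (op V) (ι z) = (c.ι.app i).hom.app (op V) z := fun z =>
    ConcreteCategory.congr_hom (NatTrans.congr_app (colimit.ι_desc _ i) (op V)) z
  refine ⟨_, Presheaf.equalizerSieve_mem J u (ι x) (ι y) ((hu x).trans (h.trans (hu y).symm)), fun W g hg => ?_⟩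
  change (colimit (D ⋙ sheafToPresheaf J AddCommGrpCat.{u})).map g.op (ι x) =
    (colimit (D ⋙ sheafToPresheaf J AddCommGrpCat.{u})).map g.op (ι y) at hg
  rw [← NatTrans.naturality_apply, ← NatTrans.naturality_apply] at hg
  obtain ⟨j, f, f', e⟩ := Concrete.isColimit_exists_of_rep_eq _
    (isColimitOfPreserves ((evaluation Cᵒᵖ AddCommGrpCat.{u}).obj (op W)) (colimit.isColimit _)) _ _ hg
  refine ⟨IsFiltered.coeq f f', f ≫ IsFiltered.coeqHom f f', ?_⟩
  have e' := congrArg ((D.map (IsFiltered.coeqHom f f')).hom.app (op W)) e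
  simp only [Functor.comp_map, evaluation_obj_map] at e'
  conv_rhs => rw [IsFiltered.coeq_condition f f']
  rw [Functor.map_comp, Functor.map_comp]
  exact e'

theorem exists_common {i : Λ} {κ : Type u} [Fintype κ] (P : κ → ∀ j, (i ⟶ j) → Prop)
    (hmono : ∀ a {j j'} (f : i ⟶ j) (g : j ⟶ j'), P a j f → P a j' (f ≫ g))
    (h : ∀ a, ∃ (j : Λ) (f : i ⟶ j), P a j f) : ∃ (j : Λ) (f : i ⟶ j), ∀ a, P a j f := by
  classical
  suffices ∀ s : Finset κ, ∃ (j : Λ) (f : i ⟶ j), ∀ a ∈ s, P a j f by
    obtain ⟨j, f, hf⟩ := this Finset.univ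
    exact ⟨j, f, fun a => hf a (Finset.mem_univ a)⟩
  intro s
  induction s using Finset.induction with
  | empty => exact ⟨i, 𝟙 i, fun a ha => absurd ha (Finset.notMem_empty a)⟩
  | insert a s _ ih =>
    obtain ⟨j, f, hf⟩ := ih
    obtain ⟨j', f', hf'⟩ := h a
    obtain ⟨k, g, g', e⟩ := IsFiltered.span f f'
    refine ⟨k, f ≫ g, fun b hb => ?_⟩
    rcases Finset.mem_insert.1 hb with rfl | hb
    · rw [e]; exact hmono _ f' g' hf'
    · exact hmono _ f g (hf b hb)

/-- Maps out of a quasi-compact sheaf that agree in the colimit agree eventually. -/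
theorem exists_eq_of_isQcObject (hc : IsColimit c) {K : Sheaf J (Type u)} (hK : CohCx.IsQcObject K) {i : Λ}
    (a b : K ⟶ ty (D.obj i))
    (h : a ≫ (sheafCompose J (forget AddCommGrpCat.{u})).map (c.ι.app i) =
      b ≫ (sheafCompose J (forget AddCommGrpCat.{u})).map (c.ι.app i)) :
    ∃ (j : Λ) (f : i ⟶ j), a ≫ (sheafCompose J (forget AddCommGrpCat.{u})).map (D.map f) =
      b ≫ (sheafCompose J (forget AddCommGrpCat.{u})).map (D.map f) := by
  obtain ⟨κ, hκ, W, k, hk, hext⟩ := exists_finite_detecting hK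
    (fun W k => ∃ (j : Λ) (f : i ⟶ j),
      (D.map f).hom.app (op W) (a.hom.app (op W) k) = (D.map f).hom.app (op W) (b.hom.app (op W) k))
    (fun V k => by
      obtain ⟨S, hS, hS'⟩ := loc_eq hc V (a.hom.app (op V) k) (b.hom.app (op V) k)
        (ConcreteCategory.congr_hom (NatTrans.congr_app (congrArg (fun t => t.hom) h) (op V)) k)
      refine ⟨S, hS, fun W g hg => ?_⟩
      obtain ⟨j, f, e⟩ := hS' g hg
      refine ⟨j, f, ?_⟩
      rw [NatTrans.naturality_apply, NatTrans.naturality_apply]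
      exact e)
  obtain ⟨j, f, hf⟩ := exists_common (fun q j f =>
      (D.map f).hom.app (op (W q)) (a.hom.app (op (W q)) (k q)) =
        (D.map f).hom.app (op (W q)) (b.hom.app (op (W q)) (k q)))
    (fun q {j j'} f g e => by
      rw [Functor.map_comp]
      exact congrArg ((D.map g).hom.app (op (W q))) e) hk
  exact ⟨j, f, hext _ _ _ hf⟩

variable (S : Set (Sheaf J (Type u)))
  (hSa : ∀ F : Sheaf J (Type u), Epi (terminal.from F) → ∃ K ∈ S, Epi (terminal.from K) ∧ Nonempty (K ⟶ F))
  (hSb : ∀ K ∈ S, CohCx.IsQcObject (K ⨯ K))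

include hSa hSb in
/-- Global sections of the pieces that agree in the colimit agree eventually. -/
theorem sections_inj (hc : IsColimit c) {i : Λ} (x y : (ty (D.obj i)).obj.sections)
    (h : ∀ V, (c.ι.app i).hom.app V (x.1 V) = (c.ι.app i).hom.app V (y.1 V)) :
    ∃ (j : Λ) (f : i ⟶ j), ∀ V, (D.map f).hom.app V (x.1 V) = (D.map f).hom.app V (y.1 V) := by
  have hT : Epi (terminal.from (⊤_ Sheaf J (Type u))) := by
    rw [Subsingleton.elim (terminal.from (⊤_ Sheaf J (Type u))) (𝟙 _)]
    infer_instance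
  obtain ⟨K, hK, hKe, -⟩ := hSa _ hT
  obtain ⟨j, f, hf⟩ := exists_eq_of_isQcObject hc (hSb K hK) (glMap _ x) (glMap _ y)
    (Sheaf.hom_ext (NatTrans.ext (funext fun V => ConcreteCategory.hom_ext _ _ fun _ => h V)))
  refine ⟨j, f, fun V => ?_⟩
  obtain ⟨R, hR, hne⟩ := cover_of_epi_terminal hKe V.unop
  refine (((isSheaf_iff_isSheaf_of_type _ _).1 (ty (D.obj j)).property).isSeparated R hR).ext fun W g hg => ?_
  obtain ⟨k⟩ := hne g hg
  have e := ConcreteCategory.congr_hom (NatTrans.congr_app (congrArg (fun t => t.hom) hf) (op W))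
    ((prod.lift (secMap k) (secMap k)).hom.app (op W) ((toSheafify J (yoneda.obj W)).app (op W) (𝟙 W)))
  change (D.obj j).obj.map g.op ((D.map f).hom.app V (x.1 V)) = (D.obj j).obj.map g.op ((D.map f).hom.app V (y.1 V))
  rw [← NatTrans.naturality_apply, ← NatTrans.naturality_apply]
  exact (congrArg _ (x.2 g.op)).trans (e.trans (congrArg _ (y.2 g.op)).symm)

include hSa hSb in
/-- Global sections of the colimit come from some piece. -/
theorem sections_surj (hc : IsColimit c) (x : (ty c.pt).obj.sections) :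
    ∃ (i : Λ) (y : (ty (D.obj i)).obj.sections), ∀ V, (c.ι.app i).hom.app V (y.1 V) = x.1 V := by
  classical
  let P : Cᵒᵖ ⥤ Type u :=
    { obj := fun V => Σ i : Λ, {y : (D.obj i).obj.obj V // (c.ι.app i).hom.app V y = x.1 V}
      map := fun {V V'} g => TypeCat.ofHom fun z => ⟨z.1, (D.obj z.1).obj.map g z.2.1, by
        rw [NatTrans.naturality_apply, z.2.2]; exact x.2 g⟩
      map_id := fun V => ConcreteCategory.hom_ext _ _ fun z =>
        congrArg (Sigma.mk z.1) (Subtype.ext (ConcreteCategory.congr_hom ((D.obj z.1).obj.map_id V) z.2.1))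
      map_comp := fun g g' => ConcreteCategory.hom_ext _ _ fun z =>
        congrArg (Sigma.mk z.1) (Subtype.ext
          (ConcreteCategory.congr_hom ((D.obj z.1).obj.map_comp g g') z.2.1)) }
  let F := (presheafToSheaf J (Type u)).obj P
  have hF : Epi (terminal.from F) := epi_terminal_of_cover fun V => by
    obtain ⟨R, hR, hR'⟩ := loc_lift hc V (x.1 (op V))
    refine ⟨R, hR, fun W g hg => ?_⟩
    obtain ⟨i, y, hy⟩ := hR' g hg
    exact ⟨(toSheafify J P).app (op W) ⟨i, y, hy.trans (x.2 g.op)⟩⟩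
  obtain ⟨K, hK, hKe, ⟨φ⟩⟩ := hSa F hF
  let φ' : K ⨯ K ⟶ F := prod.fst ≫ φ
  obtain ⟨κ, hκ, W, q, hq, hext⟩ := exists_finite_detecting (hSb K hK)
    (fun W q => ∃ z : P.obj (op W), (toSheafify J P).app (op W) z = φ'.hom.app (op W) q)
    (fun V q => ⟨_, Presheaf.imageSieve_mem J (toSheafify J P) (φ'.hom.app (op V) q),
      fun W g hg => ⟨hg.choose, hg.choose_spec.trans (NatTrans.naturality_apply φ'.hom g.op q).symm⟩⟩)
  choose z hz using hq
  let s : Finset Λ := Finset.univ.image fun a => (z a).1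
  obtain ⟨m, hm⟩ := IsFiltered.sup_objs_exists s
  let f (i : Λ) (hi : i ∈ s) : i ⟶ m := (hm hi).some
  let ψ : P ⟶ (ty (D.obj m)).obj :=
    { app := fun V => TypeCat.ofHom fun z =>
        if h : z.1 ∈ s then (D.map (f z.1 h)).hom.app V z.2.1 else (0 : (D.obj m).obj.obj V)
      naturality := fun {V V'} g => ConcreteCategory.hom_ext _ _ fun z => by
        change (if h : z.1 ∈ s then (D.map (f z.1 h)).hom.app V' ((D.obj z.1).obj.map g z.2.1) else 0) =
          (D.obj m).obj.map g (if h : z.1 ∈ s then (D.map (f z.1 h)).hom.app V z.2.1 else 0)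
        split_ifs with h
        · exact NatTrans.naturality_apply _ g _
        · exact (map_zero _).symm }
  let ψ' : F ⟶ ty (D.obj m) := ((sheafificationAdjunction J (Type u)).homEquiv _ _).symm ψ
  have hψ : ∀ {V : Cᵒᵖ} (w : P.obj V), ψ'.hom.app V ((toSheafify J P).app V w) = ψ.app V w := fun {V} w => by
    have h := ((sheafificationAdjunction J (Type u)).homEquiv P (ty (D.obj m))).apply_symm_apply ψ
    rw [Adjunction.homEquiv_unit] at h
    exact ConcreteCategory.congr_hom (NatTrans.congr_app h V) w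
  let U := sheafCompose J (forget AddCommGrpCat.{u})
  have key : (φ' ≫ ψ') ≫ U.map (c.ι.app m) = glMap (K ⨯ K) x := by
    refine hext _ _ _ fun a => ?_
    change (c.ι.app m).hom.app _ (ψ'.hom.app _ (φ'.hom.app _ (q a))) = x.1 _
    rw [← hz a, hψ]
    have ha : (z a).1 ∈ s := Finset.mem_image_of_mem _ (Finset.mem_univ a)
    change (c.ι.app m).hom.app _ (if h : (z a).1 ∈ s then (D.map (f (z a).1 h)).hom.app _ (z a).2.1 else 0) = _
    rw [dif_pos ha]
    exact (ConcreteCategory.congr_hom (NatTrans.congr_app (congrArg (fun t => t.hom) (c.w (f _ ha))) _) _).trans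
      (z a).2.2
  let b : K ⟶ ty (D.obj m) := prod.lift (𝟙 K) (𝟙 K) ≫ φ' ≫ ψ'
  have hb : b ≫ U.map (c.ι.app m) = glMap K x := by
    simp only [b, Category.assoc]
    rw [Category.assoc] at key
    rw [key]
    rfl
  have hp : ∀ p : K ⨯ K ⟶ K, (p ≫ b) ≫ U.map (c.ι.app m) = glMap (K ⨯ K) x := fun p => by
    rw [Category.assoc, hb]
    rfl
  obtain ⟨j, g, hg⟩ := exists_eq_of_isQcObject hc (hSb K hK) (prod.fst ≫ b) (prod.snd ≫ b)
    ((hp _).trans (hp _).symm)
  obtain ⟨y, hy⟩ := exists_descend hKe (b ≫ U.map (D.map g)) (by simpa only [Category.assoc] using hg)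
  refine ⟨j, y, fun V => ?_⟩
  obtain ⟨R, hR, hne⟩ := cover_of_epi_terminal hKe V.unop
  refine (((isSheaf_iff_isSheaf_of_type _ _).1 (ty c.pt).property).isSeparated R hR).ext fun Z r hr => ?_
  obtain ⟨k⟩ := hne r hr
  change c.pt.obj.map r.op ((c.ι.app j).hom.app V (y.1 V)) = c.pt.obj.map r.op (x.1 V)
  refine (NatTrans.naturality_apply (c.ι.app j).hom r.op (y.1 V)).symm.trans ?_
  refine (congrArg _ (y.2 r.op)).trans (Eq.trans ?_ (x.2 r.op).symm)
  refine (congrArg _ (ConcreteCategory.congr_hom (NatTrans.congr_app (congrArg (fun t => t.hom) hy) (op Z)) k)).trans ?_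
  refine (ConcreteCategory.congr_hom (NatTrans.congr_app (congrArg (fun t => t.hom) (c.w g)) (op Z)) _).trans ?_
  exact ConcreteCategory.congr_hom (NatTrans.congr_app (congrArg (fun t => t.hom) hb) (op Z)) k

end Groth.Agent.GlobalSectionsColimLib
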