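/-
Maps out of finitely presented modules commute with filtered colimits.
-/
import Groth.Agent.ModSiteLib.GlobalSectionsColim
import Groth.Agent.ModSiteLib.SheafHomColim

set_option autoImplicit false
set_option linter.style.haveILetI false
set_option backward.isDefEq.respectTransparency false

universe u

open CategoryTheory Limits Opposite

namespace ModSiteLib

open Groth.Agent.GlobalSectionsColimLib

variable {C : Type u} [SmallCategory C] {J : GrothendieckTopology C} {O : Sheaf J CommRingCat.{u}}
  {Λ : Type u} [SmallCategory Λ] [IsFiltered Λ]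
  (S : Set (Sheaf J (Type u)))
  (hSa : ∀ F : Sheaf J (Type u), Epi (terminal.from F) → ∃ K ∈ S, Epi (terminal.from K) ∧ Nonempty (K ⟶ F))
  (hSb : ∀ K ∈ S, CohCx.IsQcObject (K ⨯ K))

include hSa hSb in
theorem preservesColimit_coyoneda_unit (D : Λ ⥤ ModSite.Mod O) :
    PreservesColimit D (coyoneda.obj (op (ModSite.unit O))) := by
  refine ⟨fun {c} hc => ?_⟩
  haveI := toSheaf_preservesColimits (ModSite.ringSh O)
  let T : ModSite.Mod O ⥤ Sheaf J AddCommGrpCat.{u} := SheafOfModules.toSheaf.{u} (ModSite.ringSh O)
  have hc' : IsColimit (T.mapCocone c) := isColimitOfPreserves T hc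
  let e (M : ModSite.Mod O) : (ModSite.unit O ⟶ M) ≃ (ty (T.obj M)).obj.sections :=
    M.unitHomEquiv
  refine ⟨Types.FilteredColimit.isColimitOf' _ _ (fun x => ?_) (fun i x y h => ?_)⟩
  · obtain ⟨i, y, hy⟩ := sections_surj S hSa hSb hc' (e c.pt x)
    refine ⟨i, (e (D.obj i)).symm y, (e c.pt).injective (Subtype.ext (funext fun V => ?_))⟩
    refine (hy V).symm.trans ?_
    exact congrArg (fun t : (ty (T.obj (D.obj i))).obj.sections => (c.ι.app i).val.app V (t.1 V))
      ((e (D.obj i)).apply_symm_apply y).symm
  · obtain ⟨j, f, hf⟩ := sections_inj S hSa hSb hc' (e (D.obj i) x) (e (D.obj i) y)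
      (fun V => congrArg (fun t : (ty (T.obj c.pt)).obj.sections => t.1 V) (congrArg (e c.pt) h))
    exact ⟨j, f, (e (D.obj j)).injective (Subtype.ext (funext hf))⟩

attribute [local instance] hasSheafHom

/-- Maps out of `F` are global sections of the internal hom. -/
noncomputable def coyonedaSheafHomIso (F : ModSite.Mod O) :
    ModSite.sheafHom F ⋙ coyoneda.obj (op (ModSite.unit O)) ≅ coyoneda.obj (op F) :=
  NatIso.ofComponents
    (fun N => ((((sheafHomAdj' F).homEquiv (ModSite.unit O) N).symm).trans
      ((unitTensorIso F).homCongr (Iso.refl N))).toIso)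
    (fun {N N'} p => ConcreteCategory.hom_ext _ _ fun (a : ModSite.unit O ⟶ (ModSite.sheafHom F).obj N) => by
      change (unitTensorIso F).inv ≫ ((sheafHomAdj' F).homEquiv (ModSite.unit O) N').symm
          (a ≫ (ModSite.sheafHom F).map p) ≫ 𝟙 N' =
        ((unitTensorIso F).inv ≫ ((sheafHomAdj' F).homEquiv (ModSite.unit O) N).symm a ≫ 𝟙 N) ≫ p
      rw [Adjunction.homEquiv_naturality_right_symm, Category.comp_id, Category.comp_id, Category.assoc])

include hSa hSb in
theorem preservesColimit_coyoneda_of_isFinitePresentation (F : ModSite.Mod O)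
    [SheafOfModules.IsFinitePresentation (R := ModSite.ringSh O) F] (D : Λ ⥤ ModSite.Mod O) :
    PreservesColimit D (coyoneda.obj (op F)) := by
  haveI := preservesColimit_sheafHom_of_isFinitePresentation D F
  haveI := preservesColimit_coyoneda_unit S hSa hSb (D ⋙ ModSite.sheafHom F)
  exact preservesColimit_of_natIso D (coyonedaSheafHomIso F)

end ModSiteLib
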