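import Groth.Agent.ModSiteLib.EqnOfFlat
import Groth.Prelude.Def_ModSite2

/-!
# Flatness and stalks at points
-/

set_option autoImplicit false
set_option backward.isDefEq.respectTransparency false

universe u

open CategoryTheory Limits Opposite _root_.ModSiteLib

namespace Groth.Agent.ModSiteLib.FlatStalk

variable {C : Type u} [SmallCategory C] {J : GrothendieckTopology C} {O : Sheaf J CommRingCat.{u}}
  (p : GrothendieckTopology.Point.{u} J)

/-- Finitely many germs of any presheaf of types come from one neighbourhood. -/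
theorem exists_common {ι : Type*} [Finite ι] (X : ι → C) (x : ∀ i, p.fiber.obj (X i)) :
    ∃ (W : C) (w : p.fiber.obj W) (g : ∀ i, W ⟶ X i), ∀ i, p.fiber.map (g i) w = x i := by
  classical
  obtain ⟨_⟩ := nonempty_fintype ι
  obtain ⟨S, hS⟩ := IsCofiltered.inf_objs_exists
    (Finset.univ.image fun i => Functor.elementsMk p.fiber (X i) (x i))
  have h : ∀ i, Nonempty (S ⟶ Functor.elementsMk p.fiber (X i) (x i)) := fun i =>
    hS (Finset.mem_image.2 ⟨i, Finset.mem_univ i, rfl⟩)
  exact ⟨S.1, S.2, fun i => (h i).some.1, fun i => (h i).some.2⟩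

theorem germ_res (F : ModSite.Mod O) {W V : C} (g : V ⟶ W) (v : p.fiber.obj V) (s : Sec F W) :
    ModSite.germ p F V v (res ((jP O).obj F) g.op s) = ModSite.germ p F W (p.fiber.map g v) s :=
  p.toPresheafFiber_w_apply g v (ModSite.toAb F).obj s

theorem germRing_res {W V : C} (g : V ⟶ W) (v : p.fiber.obj V) (r : O.obj.obj (op W)) :
    ModSite.germRing p V v (rC g r) = ModSite.germRing p W (p.fiber.map g v) r :=
  p.toPresheafFiber_w_apply g v O.obj r

/-- Finitely many ring and module germs from one neighbourhood. -/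
theorem exists_lifts (F : ModSite.Mod O) {ι κ : Type*} [Finite ι] [Finite κ]
    (r : ι → ModSite.stalkRing p O) (m : κ → ModSite.stalkAb p F) {U : C} (x : p.fiber.obj U) :
    ∃ (W : C) (h : W ⟶ U) (w : p.fiber.obj W) (f : ι → O.obj.obj (op W)) (s : κ → Sec F W),
      p.fiber.map h w = x ∧ (∀ i, ModSite.germRing p W w (f i) = r i) ∧
        ∀ k, ModSite.germ p F W w (s k) = m k := by
  choose A a r₀ hr using fun i => p.toPresheafFiber_jointly_surjective (P := O.obj) (r i)
  choose B b m₀ hm using fun k => p.toPresheafFiber_jointly_surjective (P := (ModSite.toAb F).obj) (m k)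
  obtain ⟨W, w, g, hg⟩ := exists_common p (Sum.elim (Sum.elim A B) fun _ : Unit => U)
    (by rintro ((i | k) | _); exacts [a i, b k, x])
  refine ⟨W, g (.inr ()), w, fun i => rC (g (.inl (.inl i))) (r₀ i),
    fun k => res ((jP O).obj F) (g (.inl (.inr k))).op (m₀ k), hg _, fun i => ?_, fun k => ?_⟩
  · exact (germRing_res p _ w _).trans ((congrArg (fun t => ModSite.germRing p (A i) t (r₀ i))
      (hg (.inl (.inl i)))).trans (hr i))
  · exact (germ_res p F _ w _).trans ((congrArg (fun t => ModSite.germ p F (B k) t (m₀ k))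
      (hg (.inl (.inr k)))).trans (hm k))

/-- Finitely many equalities of germs hold on one neighbourhood. -/
theorem exists_eq (F : ModSite.Mod O) {ι κ : Type*} [Finite ι] [Finite κ] {W : C} (w : p.fiber.obj W)
    (a b : ι → O.obj.obj (op W)) (c d : κ → Sec F W)
    (hab : ∀ i, ModSite.germRing p W w (a i) = ModSite.germRing p W w (b i))
    (hcd : ∀ k, ModSite.germ p F W w (c k) = ModSite.germ p F W w (d k)) :
    ∃ (V : C) (g : V ⟶ W) (v : p.fiber.obj V), p.fiber.map g v = w ∧ (∀ i, rC g (a i) = rC g (b i)) ∧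
      ∀ k, res ((jP O).obj F) g.op (c k) = res ((jP O).obj F) g.op (d k) := by
  choose A α y hy hα using fun i => (p.toPresheafFiber_eq_iff' W w _ _).1 (hab i)
  choose B β z hz hβ using fun k => (p.toPresheafFiber_eq_iff' (P := (ModSite.toAb F).obj) W w _ _).1 (hcd k)
  -- neighbourhoods over `(W, w)`
  let E₀ : p.fiber.Elements := Functor.elementsMk p.fiber W w
  classical
  obtain ⟨_⟩ := nonempty_fintype ι
  obtain ⟨_⟩ := nonempty_fintype κ
  let O' : Finset p.fiber.Elements := insert E₀
    ((Finset.univ.image fun i => Functor.elementsMk p.fiber (A i) (y i)) ∪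
      (Finset.univ.image fun k => Functor.elementsMk p.fiber (B k) (z k)))
  have hE : E₀ ∈ O' := Finset.mem_insert_self _ _
  let fa : ∀ i, Functor.elementsMk p.fiber (A i) (y i) ⟶ E₀ := fun i => ⟨α i, hy i⟩
  let fb : ∀ k, Functor.elementsMk p.fiber (B k) (z k) ⟶ E₀ := fun k => ⟨β k, hz k⟩
  have hA : ∀ i, Functor.elementsMk p.fiber (A i) (y i) ∈ O' := fun i =>
    Finset.mem_insert_of_mem (Finset.mem_union_left _ (Finset.mem_image.2 ⟨i, Finset.mem_univ i, rfl⟩))
  have hB : ∀ k, Functor.elementsMk p.fiber (B k) (z k) ∈ O' := fun k =>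
    Finset.mem_insert_of_mem (Finset.mem_union_right _ (Finset.mem_image.2 ⟨k, Finset.mem_univ k, rfl⟩))
  let H : Finset (Σ' (X Y : p.fiber.Elements) (_ : X ∈ O') (_ : Y ∈ O'), X ⟶ Y) :=
    (Finset.univ.image fun i => ⟨_, E₀, hA i, hE, fa i⟩) ∪ (Finset.univ.image fun k => ⟨_, E₀, hB k, hE, fb k⟩)
  obtain ⟨S, T, hT⟩ := IsCofiltered.inf_exists O' H
  have ha : ∀ i, T (hA i) ≫ fa i = T hE := fun i =>
    hT (hA i) hE (Finset.mem_union_left _ (Finset.mem_image.2 ⟨i, Finset.mem_univ i, rfl⟩))
  have hb : ∀ k, T (hB k) ≫ fb k = T hE := fun k =>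
    hT (hB k) hE (Finset.mem_union_right _ (Finset.mem_image.2 ⟨k, Finset.mem_univ k, rfl⟩))
  refine ⟨S.1, (T hE).1, S.2, (T hE).2, fun i => ?_, fun k => ?_⟩
  · have e : (T (hA i)).1 ≫ α i = (T hE).1 := congrArg (fun t => t.1) (ha i)
    rw [← e, rC_comp, rC_comp]
    exact congrArg (rC (T (hA i)).1) (hα i)
  · have e : (T (hB k)).1 ≫ β k = (T hE).1 := congrArg (fun t => t.1) (hb k)
    rw [← e]
    change ((ModSite.toAb F).obj.map ((T (hB k)).1 ≫ β k).op).hom (c k) =
      ((ModSite.toAb F).obj.map ((T (hB k)).1 ≫ β k).op).hom (d k)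
    rw [op_comp, Functor.map_comp]
    exact congrArg ((ModSite.toAb F).obj.map (T (hB k)).1.op).hom (hβ k)

theorem germ_sum (F : ModSite.Mod O) {W : C} (w : p.fiber.obj W) {ι : Type*} (s : Finset ι)
    (a : ι → O.obj.obj (op W)) (m : ι → Sec F W) :
    ModSite.germ p F W w (∑ i ∈ s, a i • m i) =
      ∑ i ∈ s, ModSite.germRing p W w (a i) • ModSite.germ p F W w (m i) :=
  (map_sum (p.toPresheafFiber W w (ModSite.toAb F).obj).hom _ _).trans
    (Finset.sum_congr rfl fun i _ => ModSite.germ_smul p F W w (a i) (m i))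

theorem germ_zero (F : ModSite.Mod O) {W : C} (w : p.fiber.obj W) :
    ModSite.germ p F W w (0 : Sec F W) = 0 :=
  map_zero (p.toPresheafFiber W w (ModSite.toAb F).obj).hom

theorem nonempty_point : ∃ (U : C), Nonempty (p.fiber.obj U) := by
  obtain ⟨X⟩ := (IsCofiltered.nonempty : Nonempty p.fiber.Elements)
  exact ⟨X.1, ⟨X.2⟩⟩

/-- Flat modules have flat stalks. -/
theorem flat_stalk {F : ModSite.Mod O} (hF : ModSite.IsFlat F) :
    Module.Flat (ModSite.stalkRing p O) (ModSite.stalkMod p F) := by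
  refine Module.Flat.of_forall_isTrivialRelation fun {n r m} hrel => ?_
  obtain ⟨U, ⟨x⟩⟩ := nonempty_point p
  obtain ⟨W, -, w, f, s, -, hf, hs⟩ := exists_lifts p F r m x
  obtain ⟨V, g, v, hv, -, h0⟩ := exists_eq p F (ι := Empty) (κ := Unit) w Empty.elim Empty.elim
    (fun _ => ∑ i, f i • s i) (fun _ => 0) (fun i => i.elim) fun _ => by
      rw [germ_sum, germ_zero]
      simpa only [hf, hs] using hrel
  have h0' : ∑ i, rC g (f i) • res ((jP O).obj F) g.op (s i) = 0 := by
    refine ((res_sum ((jP O).obj F) g.op _ _).trans (Finset.sum_congr rfl fun i _ => ?_)).symm.trans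
      ((h0 ()).trans (map_zero (((jP O).obj F).map g.op).hom))
    exact ((jP O).obj F).map_smul g.op (f i) (s i)
  obtain ⟨S, hS, hS'⟩ := eqn_of_isFlat hF V n _ _ h0'
  obtain ⟨V', g', hg', v', hv'⟩ := p.jointly_surjective S hS v
  obtain ⟨l, t, a, ht, hat⟩ := hS' g' hg'
  refine ⟨l, fun i k => ModSite.germRing p V' v' (a i k), fun k => ModSite.germ p F V' v' (t k),
    fun i => ?_, fun k => ?_⟩
  · refine Eq.trans ?_ (germ_sum p F v' Finset.univ (a i) t)
    rw [← ht i, germ_res, hv', germ_res, hv, hs]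
  · have h : ∀ i, r i = ModSite.germRing p V' v' (rC g' (rC g (f i))) := fun i => by
      rw [germRing_res, hv', germRing_res, hv, hf]
    simp only [h]
    refine Eq.trans ?_ ((congrArg (p.toPresheafFiber V' v' O.obj).hom ((Finset.sum_congr rfl fun i _ => mul_comm _ _).trans (hat k) :
      ∑ i, rC g' (rC g (f i)) * a i k = 0)).trans (map_zero _))
    exact ((map_sum (p.toPresheafFiber V' v' O.obj).hom _ _).trans (Finset.sum_congr rfl fun i _ => map_mul _ _ _)).symm

/-- A module with flat stalks at a conservative family of points is flat. -/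
theorem isFlat_of_flat_stalks {P : ObjectProperty (GrothendieckTopology.Point.{u} J)}
    (hP : P.IsConservativeFamilyOfPoints) (F : ModSite.Mod O)
    (h : ∀ p : GrothendieckTopology.Point.{u} J, P p →
      Module.Flat (ModSite.stalkRing p O) (ModSite.stalkMod p F)) : ModSite.IsFlat F := by
  refine isFlat_of_eqn fun U n f s hrel => ?_
  let Good : (Σ V : C, V ⟶ U) → Prop := fun a =>
    ∃ (l : ℕ) (t : Fin l → Sec F a.1) (b : Fin n → Fin l → O.obj.obj (op a.1)),
      (∀ j, res ((jP O).obj F) a.2.op (s j) = ∑ k, b j k • t k) ∧ ∀ k, ∑ j, b j k * rC a.2 (f j) = 0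
  have hcov : Sieve.ofArrows _ (fun a : {a // Good a} => a.1.2) ∈ J U := by
    rw [hP.jointly_reflect_ofArrows_mem]
    rintro ⟨q, hq⟩ x
    haveI := h q hq
    have hrel' : ∑ i, ModSite.germRing q U x (f i) • ModSite.germ q F U x (s i) = 0 := by
      rw [← germ_sum, hrel, germ_zero]
    obtain ⟨l, c, y, hy, hc⟩ := Module.Flat.isTrivialRelation_of_sum_smul_eq_zero hrel'
    obtain ⟨W, e, w, b, t, he, hb, ht⟩ := exists_lifts q F (fun a : Fin n × Fin l => c a.1 a.2) y x
    obtain ⟨V, g, v, hv, hR, hM⟩ := exists_eq q F w (fun k => ∑ j, b (j, k) * rC e (f j)) (fun _ => 0)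
      (fun j => res ((jP O).obj F) e.op (s j)) (fun j => ∑ k, b (j, k) • t k)
      (fun k => by
        refine (map_sum (q.toPresheafFiber W w O.obj).hom _ _).trans
          (Eq.trans ?_ (map_zero (q.toPresheafFiber W w O.obj).hom).symm)
        refine Eq.trans (Finset.sum_congr rfl fun j _ => ?_) (hc k)
        rw [map_mul]
        refine (congrArg₂ (· * ·) (hb (j, k)) ((germRing_res q e w (f j)).trans ?_)).trans (mul_comm _ _)
        rw [he])
      (fun j => by
        rw [germ_res, he, germ_sum]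
        simp only [hb, ht]
        exact hy j)
    refine ⟨⟨⟨V, g ≫ e⟩, l, fun k => res ((jP O).obj F) g.op (t k), fun j k => rC g (b (j, k)),
      fun j => ?_, fun k => ?_⟩, v, ?_⟩
    · refine Eq.trans ?_ ((hM j).trans ((res_sum ((jP O).obj F) g.op _ _).trans
        (Finset.sum_congr rfl fun k _ => ((jP O).obj F).map_smul g.op _ _)))
      exact PresheafOfModules.map_comp_apply _ e.op g.op (s j)
    · refine Eq.trans (Finset.sum_congr rfl fun j _ => ?_)
        (((map_sum (O.obj.map g.op).hom _ _).symm.trans (hR k)).trans (map_zero _))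
      rw [rC_comp]
      exact (map_mul _ _ _).symm
    · change q.fiber.map (g ≫ e) v = x
      rw [Functor.map_comp_apply, hv, he]
  refine ⟨_, hcov, ?_⟩
  rintro V _ ⟨W, d, _, ⟨⟨⟨W', e⟩, l, t, b, ht, hb⟩⟩, rfl⟩
  refine ⟨l, fun k => res ((jP O).obj F) d.op (t k), fun j k => rC d (b j k), fun j => ?_, fun k => ?_⟩
  · refine (PresheafOfModules.map_comp_apply _ e.op d.op (s j)).trans ?_
    refine (congrArg (((jP O).obj F).map d.op) (ht j)).trans ?_
    exact (res_sum ((jP O).obj F) d.op _ _).trans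
      (Finset.sum_congr rfl fun k _ => ((jP O).obj F).map_smul d.op _ _)
  · refine Eq.trans (Finset.sum_congr rfl fun j _ => ?_)
      (((map_sum (O.obj.map d.op).hom _ _).symm.trans (congrArg _ (hb k))).trans (map_zero _))
    rw [rC_comp]
    exact (map_mul _ _ _).symm

end Groth.Agent.ModSiteLib.FlatStalk
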