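/-
Stalks of the extension by zero along `C/U → C`.
-/
import Groth.Agent.ModSiteLib.ExtZero
import Groth.Prelude.Def_ModSite2
import Mathlib.CategoryTheory.Sites.Point.Over

set_option autoImplicit false
set_option linter.style.haveILetI false
set_option backward.isDefEq.respectTransparency false

universe u

open CategoryTheory Limits Opposite

namespace ModSiteLib

section Abstract

variable {C : Type u} [SmallCategory C] {J : GrothendieckTopology C}
  (p : GrothendieckTopology.Point.{u} J) {U : C}
  (P : (Over U)ᵒᵖ ⥤ AddCommGrpCat.{u}) (Q : Cᵒᵖ ⥤ AddCommGrpCat.{u})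
  (ι : ∀ (V : C) (g : V ⟶ U), P.obj (op (Over.mk g)) ⟶ Q.obj (op V))

/-- The germ of a summand, in the coproduct of the stalks. -/
noncomputable def germι (V : C) (g : V ⟶ U) (v : p.fiber.obj V) :
    P.obj (op (Over.mk g)) ⟶ ∐ fun x : p.fiber.obj U => (p.over x).presheafFiber.obj P :=
  (p.over (p.fiber.map g v)).toPresheafFiber (Over.mk g) ⟨v, rfl⟩ P ≫
    Sigma.ι (fun x : p.fiber.obj U => (p.over x).presheafFiber.obj P) (p.fiber.map g v)

lemma germι_eq (V : C) (g : V ⟶ U) (v : p.fiber.obj V) (x : p.fiber.obj U)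
    (h : p.fiber.map g v = x) :
    germι p P V g v = (p.over x).toPresheafFiber (Over.mk g) ⟨v, h⟩ P ≫
      Sigma.ι (fun x : p.fiber.obj U => (p.over x).presheafFiber.obj P) x := by
  subst h
  rfl

lemma germι_map {V W : C} (f : W ⟶ V) (g : V ⟶ U) (w : p.fiber.obj W) :
    P.map (Over.homMk (U := Over.mk (f ≫ g)) (V := Over.mk g) f rfl).op ≫
      germι p P W (f ≫ g) w = germι p P V g (p.fiber.map f w) := by
  have h : p.fiber.map (f ≫ g) w = p.fiber.map g (p.fiber.map f w) := by
    rw [Functor.map_comp]; rfl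
  rw [germι_eq p P W (f ≫ g) w _ h, germι, ← Category.assoc,
    GrothendieckTopology.Point.toPresheafFiber_w]
  rfl

variable (hQ : ∀ V : C, IsColimit (Cofan.mk (Q.obj (op V)) (ι V)))
  (hι : ∀ {V W : C} (f : W ⟶ V) (g : V ⟶ U),
    ι V g ≫ Q.map f.op = P.map (Over.homMk (U := Over.mk (f ≫ g)) (V := Over.mk g) f rfl).op ≫
      ι W (f ≫ g))

/-- The component of the comparison map at a neighbourhood. -/
noncomputable def toCoprodApp (V : C) (v : p.fiber.obj V) :
    Q.obj (op V) ⟶ ∐ fun x : p.fiber.obj U => (p.over x).presheafFiber.obj P :=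
  Cofan.IsColimit.desc (hQ V) fun g => germι p P V g v

lemma ι_toCoprodApp (V : C) (v : p.fiber.obj V) (g : V ⟶ U) :
    ι V g ≫ toCoprodApp p P Q ι hQ V v = germι p P V g v :=
  Cofan.IsColimit.fac (hQ V) _ g

/-- The comparison map out of a stalk of `P`. -/
noncomputable def ofFiber (x : p.fiber.obj U) :
    (p.over x).presheafFiber.obj P ⟶ p.presheafFiber.obj Q :=
  (p.over x).presheafFiberDesc
    (fun Y y => (ι Y.left Y.hom : P.obj (op Y) ⟶ Q.obj (op Y.left)) ≫ p.toPresheafFiber Y.left y.1 Q)
    (fun {Y Y'} k y => by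
      have h := hι k.left Y'.hom
      have e : P.map k.op ≫ (ι Y.left Y.hom : P.obj (op Y) ⟶ Q.obj (op Y.left)) =
          (ι Y'.left Y'.hom : P.obj (op Y') ⟶ Q.obj (op Y'.left)) ≫ Q.map k.left.op := by
        obtain ⟨Z, z, rfl⟩ := Over.mk_surjective Y
        obtain ⟨Z', z', rfl⟩ := Over.mk_surjective Y'
        obtain ⟨k, hk, rfl⟩ := Over.homMk_surjective k
        change Z ⟶ Z' at k
        change k ≫ z' = z at hk
        subst hk
        exact h.symm
      rw [← Category.assoc, e, Category.assoc, GrothendieckTopology.Point.toPresheafFiber_w]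
      rfl)

lemma toPresheafFiber_ofFiber (x : p.fiber.obj U) (V : C) (g : V ⟶ U) (v : p.fiber.obj V)
    (h : p.fiber.map g v = x) :
    (p.over x).toPresheafFiber (Over.mk g) ⟨v, h⟩ P ≫ ofFiber p P Q ι hι x =
      ι V g ≫ p.toPresheafFiber V v Q :=
  (p.over x).toPresheafFiber_presheafFiberDesc _ _ _ _

/-- The comparison map out of the stalk of `Q`. -/
noncomputable def toCoprod :
    p.presheafFiber.obj Q ⟶ ∐ fun x : p.fiber.obj U => (p.over x).presheafFiber.obj P :=
  p.presheafFiberDesc (fun V v => toCoprodApp p P Q ι hQ V v) (fun {W V} f w => by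
    refine Cofan.IsColimit.hom_ext (hQ V) _ _ fun g => ?_
    change ι V g ≫ Q.map f.op ≫ _ = ι V g ≫ _
    rw [← Category.assoc, hι f g, Category.assoc, ι_toCoprodApp, ι_toCoprodApp, germι_map])

lemma toPresheafFiber_toCoprod (V : C) (v : p.fiber.obj V) :
    p.toPresheafFiber V v Q ≫ toCoprod p P Q ι hQ hι = toCoprodApp p P Q ι hQ V v :=
  p.toPresheafFiber_presheafFiberDesc _ _ _ _

/-- The stalk of a coproduct extension. -/
noncomputable def presheafFiberExtIso :
    p.presheafFiber.obj Q ≅ ∐ fun x : p.fiber.obj U => (p.over x).presheafFiber.obj P where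
  hom := toCoprod p P Q ι hQ hι
  inv := Sigma.desc fun x => ofFiber p P Q ι hι x
  hom_inv_id := by
    refine p.presheafFiber_hom_ext fun V v => ?_
    rw [← Category.assoc, toPresheafFiber_toCoprod]
    refine Cofan.IsColimit.hom_ext (hQ V) _ _ fun g => ?_
    change ι V g ≫ toCoprodApp p P Q ι hQ V v ≫ _ = ι V g ≫ _
    rw [← Category.assoc, ι_toCoprodApp, germι, Category.assoc, Sigma.ι_desc,
      toPresheafFiber_ofFiber, Category.comp_id]
  inv_hom_id := by
    refine Sigma.hom_ext _ _ fun x => ?_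
    rw [Sigma.ι_desc_assoc, Category.comp_id]
    refine (p.over x).presheafFiber_hom_ext fun Y y => ?_
    obtain ⟨V, g, rfl⟩ := Over.mk_surjective Y
    obtain ⟨v, hv⟩ := y
    rw [← Category.assoc, toPresheafFiber_ofFiber p P Q ι hι x V g v hv, Category.assoc,
      toPresheafFiber_toCoprod, ι_toCoprodApp, germι_eq p P V g v x hv]

end Abstract

variable {C : Type u} [SmallCategory C] {J : GrothendieckTopology C} (O : Sheaf J CommRingCat.{u})
  (U : C) (p : GrothendieckTopology.Point.{u} J)

/-- The stalk of the presheaf extension by zero. -/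
noncomputable def oLanFiberIso (G : PMod (O.over U)) :
    p.presheafFiber.obj ((PresheafOfModules.toPresheaf _).obj ((oLan O U).obj G)) ≅
      ∐ fun x : p.fiber.obj U =>
        (p.over x).presheafFiber.obj ((PresheafOfModules.toPresheaf _).obj G) :=
  presheafFiberExtIso p _ _
    (fun V g => (forget₂ (ModuleCat _) AddCommGrpCat.{u}).map (mι G (op V) g))
    (fun V => isColimitCofanMkObjOfIsColimit (forget₂ (ModuleCat _) AddCommGrpCat.{u}) _ _
      (coproductIsCoproduct (mfib G (op V))))
    (fun {V W} f g => by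
      ext x
      exact oLanMap_mι G f.op g x)

/-- The stalk of the extension by zero. -/
noncomputable def stalkExtZeroIso (G : ModSite.Mod (O.over U)) :
    ModSite.stalkAb p ((ModSite.extZero O U).obj G) ≅
      ∐ fun x : p.fiber.obj U => ModSite.stalkAb (p.over x) G := by
  haveI := p.W_isInvertedBy_presheafFiber' (A := AddCommGrpCat.{u}) _
    (W_unit (O := O) ((oLan O U).obj ((jP (O.over U)).obj G)))
  exact p.sheafFiber.mapIso ((SheafOfModules.toSheaf _).mapIso ((extZeroIso O U).app G)) ≪≫
    (asIso (p.presheafFiber.map ((PresheafOfModules.toPresheaf _).map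
      ((adjP O).unit.app ((oLan O U).obj ((jP (O.over U)).obj G)))))).symm ≪≫
    oLanFiberIso O U p ((jP (O.over U)).obj G)

end ModSiteLib
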