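import Groth.Agent.ModSiteLib.CoprodQc
import Mathlib.CategoryTheory.Filtered.Basic

/-!
# Every module is a filtered colimit of finitely presented ones
-/

set_option autoImplicit false

noncomputable section

universe v w u

open CategoryTheory Limits

namespace Groth.Agent.FinPresColimLib

section Generic

variable {A : Type w} [Category.{v} A] [Abelian A] [HasCoproducts.{u} A]
  {ι κ : Type u} (f : ι → A) (W : κ → A) (χ : ∀ k, W k ⟶ ∐ f) {F : A} (p : (∐ f) ⟶ F)

open scoped Classical in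
/-- The `i`-th projection. -/
def prj (i : ι) : (∐ f) ⟶ f i :=
  Sigma.desc fun j => if h : j = i then eqToHom (congrArg f h) else 0

/-- The endomorphism keeping the components in `s`. -/
def keep (s : Finset ι) : (∐ f) ⟶ ∐ f := ∑ i ∈ s, prj f i ≫ Sigma.ι f i

theorem ι_keep {s : Finset ι} {i : ι} (h : i ∈ s) : Sigma.ι f i ≫ keep f s = Sigma.ι f i := by
  classical
  rw [keep, Preadditive.comp_sum, Finset.sum_eq_single i]
  · rw [← Category.assoc, prj, Sigma.ι_desc, dif_pos rfl, eqToHom_refl, Category.id_comp]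
  · intro j _ hj
    rw [← Category.assoc, prj, Sigma.ι_desc, dif_neg (Ne.symm hj), zero_comp]
  · exact fun h' => absurd h h'

theorem ι_keep_ne {s : Finset ι} {i : ι} (h : i ∉ s) : Sigma.ι f i ≫ keep f s = 0 := by
  classical
  rw [keep, Preadditive.comp_sum]
  refine Finset.sum_eq_zero fun j hj => ?_
  rw [← Category.assoc, prj, Sigma.ι_desc, dif_neg (by rintro rfl; exact h hj), zero_comp]

theorem keep_keep {s t : Finset ι} (h : s ⊆ t) : keep f s ≫ keep f t = keep f s := by
  rw [keep, Preadditive.sum_comp]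
  exact Finset.sum_congr rfl fun i hi => by rw [Category.assoc, ι_keep f (h hi)]

/-- Inclusion of finitely many summands. -/
def inc (s : Finset ι) : (∐ fun i : s => f i.1) ⟶ ∐ f := Sigma.desc fun i => Sigma.ι f i.1

open scoped Classical in
/-- Projection to finitely many summands. -/
def res (s : Finset ι) : (∐ f) ⟶ ∐ fun i : s => f i.1 :=
  Sigma.desc fun i => if h : i ∈ s then Sigma.ι (fun i : s => f i.1) ⟨i, h⟩ else 0

/-- Inclusion between finite sets of summands. -/
def incl {s s' : Finset ι} (h : s ⊆ s') : (∐ fun i : s => f i.1) ⟶ ∐ fun i : s' => f i.1 :=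
  Sigma.desc fun i => Sigma.ι (fun i : s' => f i.1) ⟨i.1, h i.2⟩

theorem res_inc (s : Finset ι) : res f s ≫ inc f s = keep f s := by
  classical
  refine Sigma.hom_ext _ _ fun i => ?_
  by_cases h : i ∈ s
  · rw [ι_keep f h, res, Sigma.ι_desc_assoc, dif_pos h, inc, Sigma.ι_desc]
  · rw [ι_keep_ne f h, res, Sigma.ι_desc_assoc, dif_neg h, zero_comp]

theorem inc_res {s s' : Finset ι} (h : s ⊆ s') : inc f s ≫ res f s' = incl f h := by
  classical
  refine Sigma.hom_ext _ _ fun i => ?_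
  rw [inc, Sigma.ι_desc_assoc, res, Sigma.ι_desc, dif_pos (h i.2), incl, Sigma.ι_desc]

theorem incl_inc {s s' : Finset ι} (h : s ⊆ s') : incl f h ≫ inc f s' = inc f s :=
  Sigma.hom_ext _ _ fun i => by rw [incl, inc, inc, Sigma.ι_desc_assoc, Sigma.ι_desc, Sigma.ι_desc]

theorem incl_refl (s : Finset ι) {h : s ⊆ s} : incl f h = 𝟙 _ :=
  Sigma.hom_ext _ _ fun i => (Sigma.ι_desc _ i).trans (Category.comp_id _).symm

theorem incl_trans {s s' s'' : Finset ι} (h : s ⊆ s') (h' : s' ⊆ s'') {h'' : s ⊆ s''} :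
    incl f h ≫ incl f h' = incl f h'' :=
  Sigma.hom_ext _ _ fun i => by rw [incl, Sigma.ι_desc_assoc, incl, Sigma.ι_desc, incl, Sigma.ι_desc]

/-- A finite piece of a presentation. -/
@[ext]
structure Idx : Type u where
  gens : Finset ι
  rels : Finset κ
  fixed : ∀ k ∈ rels, χ k ≫ keep f gens = χ k

instance : PartialOrder (Idx f W χ) where
  le a b := a.gens ⊆ b.gens ∧ a.rels ⊆ b.rels
  le_refl a := ⟨subset_rfl, subset_rfl⟩
  le_trans _ _ _ h h' := ⟨h.1.trans h'.1, h.2.trans h'.2⟩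
  le_antisymm _ _ h h' := Idx.ext (h.1.antisymm h'.1) (h.2.antisymm h'.2)

instance : Nonempty (Idx f W χ) := ⟨⟨∅, ∅, fun k hk => absurd hk (Finset.notMem_empty k)⟩⟩

theorem fixed_of_subset {s t : Finset ι} (h : s ⊆ t) {V : A} {a : V ⟶ ∐ f}
    (ha : a ≫ keep f s = a) : a ≫ keep f t = a := by
  rw [← ha, Category.assoc, keep_keep f h]

instance : IsDirectedOrder (Idx f W χ) where
  directed a b := by
    classical
    refine ⟨⟨a.gens ∪ b.gens, a.rels ∪ b.rels, fun k hk => ?_⟩,
      ⟨Finset.subset_union_left, Finset.subset_union_left⟩, ⟨Finset.subset_union_right, Finset.subset_union_right⟩⟩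
    rcases Finset.mem_union.1 hk with hk | hk
    · exact fixed_of_subset f Finset.subset_union_left (a.fixed k hk)
    · exact fixed_of_subset f Finset.subset_union_right (b.fixed k hk)

variable {f W χ}

/-- The finite presentation of an index. -/
def rel (l : Idx f W χ) : (∐ fun k : l.rels => W k.1) ⟶ ∐ fun i : l.gens => f i.1 :=
  Sigma.desc fun k => χ k.1 ≫ res f l.gens

theorem ι_rel (l : Idx f W χ) (k : l.rels) :
    Sigma.ι (fun k : l.rels => W k.1) k ≫ rel l = χ k.1 ≫ res f l.gens := Sigma.ι_desc _ _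

theorem rel_incl {l l' : Idx f W χ} (h : l ≤ l') : rel l ≫ incl f h.1 ≫ cokernel.π (rel l') = 0 := by
  refine Sigma.hom_ext _ _ fun k => ?_
  have e : (χ k.1 ≫ res f l.gens) ≫ incl f h.1 =
      Sigma.ι (fun k : l'.rels => W k.1) ⟨k.1, h.2 k.2⟩ ≫ rel l' := by
    rw [ι_rel, ← inc_res f h.1, Category.assoc, ← Category.assoc (res f l.gens), res_inc, ← Category.assoc,
      l.fixed k.1 k.2]
  rw [← Category.assoc, ι_rel, ← Category.assoc, e, Category.assoc, cokernel.condition, comp_zero, comp_zero]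

variable (f W χ)

/-- The diagram. -/
def diag : Idx f W χ ⥤ A where
  obj l := cokernel (rel l)
  map {l l'} h := cokernel.desc (rel l) (incl f h.le.1 ≫ cokernel.π (rel l')) (rel_incl h.le)
  map_id l := by
    rw [← cancel_epi (cokernel.π (rel l)), cokernel.π_desc, Category.comp_id, incl_refl, Category.id_comp]
  map_comp {l l' l''} h h' := by
    rw [← cancel_epi (cokernel.π (rel l)), cokernel.π_desc, cokernel.π_desc_assoc, Category.assoc,
      cokernel.π_desc, ← Category.assoc (incl f h.le.1), incl_trans]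

variable (hp : ∀ k, χ k ≫ p = 0)

include hp in
theorem rel_inc_p (l : Idx f W χ) : rel l ≫ inc f l.gens ≫ p = 0 := by
  refine Sigma.hom_ext _ _ fun k => ?_
  rw [← Category.assoc, ι_rel, comp_zero, Category.assoc, ← Category.assoc (res f l.gens), res_inc,
    ← Category.assoc, l.fixed k.1 k.2, hp]

/-- The cocone. -/
def coneι : diag f W χ ⟶ (Functor.const (Idx f W χ)).obj F where
  app l := cokernel.desc (rel l) (inc f l.gens ≫ p) (rel_inc_p f W χ p hp l)
  naturality l l' h := by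
    refine (cancel_epi (cokernel.π (rel l))).1 ?_
    simp only [diag, Functor.const_obj_map, Category.comp_id, cokernel.π_desc_assoc, Category.assoc,
      cokernel.π_desc]
    rw [← Category.assoc, incl_inc]
    exact congrArg (inc f l.gens ≫ ·) (Category.comp_id p).symm

theorem nonempty_isColimit [Epi p]
    (hker : ∀ (T : A) (σ : (∐ f) ⟶ T), (∀ k, χ k ≫ σ = 0) → kernel.ι p ≫ σ = 0)
    (hfix : ∀ k, ∃ s, χ k ≫ keep f s = χ k) :
    Nonempty (IsColimit (Cocone.mk F (coneι f W χ p hp))) := by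
  classical
  let one : ι → Idx f W χ := fun i => ⟨{i}, ∅, fun k hk => absurd hk (Finset.notMem_empty k)⟩
  let σ (c : Cocone (diag f W χ)) : (∐ f) ⟶ c.pt := Sigma.desc fun i =>
    Sigma.ι (fun j : (one i).gens => f j.1) ⟨i, Finset.mem_singleton_self i⟩ ≫
      cokernel.π (rel (one i)) ≫ c.ι.app (one i)
  have hσ : ∀ (c : Cocone (diag f W χ)) (l : Idx f W χ),
      inc f l.gens ≫ σ c = cokernel.π (rel l) ≫ c.ι.app l := fun c l => by
    refine Sigma.hom_ext _ _ fun i => ?_
    rw [inc, Sigma.ι_desc_assoc, Sigma.ι_desc]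
    have h : one i.1 ≤ l := ⟨Finset.singleton_subset_iff.2 i.2, Finset.empty_subset _⟩
    rw [← c.w (homOfLE h)]
    simp only [diag, cokernel.π_desc_assoc, Category.assoc, incl]
    exact Sigma.ι_desc_assoc _ _ _
  have hk : ∀ c, kernel.ι p ≫ σ c = 0 := fun c => hker _ _ fun k => by
    obtain ⟨s, hs⟩ := hfix k
    let l : Idx f W χ := ⟨s, {k}, fun k' hk' => by rw [Finset.mem_singleton.1 hk']; exact hs⟩
    rw [← hs, Category.assoc, ← res_inc, Category.assoc, hσ c l, ← Category.assoc]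
    rw [show χ k ≫ res f s = _ from (ι_rel l ⟨k, Finset.mem_singleton_self k⟩).symm, Category.assoc,
      cokernel.condition_assoc, zero_comp, comp_zero]
  let S := ShortComplex.mk (kernel.ι p) p (kernel.condition p)
  have hS : S.Exact := S.exact_of_f_is_kernel (kernelIsKernel _)
  haveI : Epi S.g := ‹Epi p›
  refine ⟨{ desc := fun c => hS.desc (σ c) (hk c), fac := fun c l => ?_, uniq := fun c m hm => ?_ }⟩
  · refine (cancel_epi (cokernel.π (rel l))).1 ?_
    show cokernel.π (rel l) ≫ (coneι f W χ p hp).app l ≫ hS.desc (σ c) (hk c) = _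
    rw [coneι, cokernel.π_desc_assoc, Category.assoc, ← hσ c l]
    exact congrArg (inc f l.gens ≫ ·) (hS.g_desc (σ c) (hk c))
  · refine (cancel_epi p).1 (Eq.trans ?_ (hS.g_desc (σ c) (hk c)).symm)
    refine Sigma.hom_ext _ _ fun i => ?_
    have h := congrArg (fun t => Sigma.ι (fun j : (one i).gens => f j.1) ⟨i, Finset.mem_singleton_self i⟩ ≫
      cokernel.π (rel (one i)) ≫ t) (hm (one i))
    refine Eq.trans ?_ (h.trans ?_)
    swap
    · simp only [σ, Sigma.ι_desc]
    show _ = Sigma.ι (fun j : (one i).gens => f j.1) ⟨i, Finset.mem_singleton_self i⟩ ≫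
      cokernel.π (rel (one i)) ≫ (coneι f W χ p hp).app (one i) ≫ m
    rw [coneι, cokernel.π_desc_assoc, Category.assoc, inc, Sigma.ι_desc_assoc]

theorem finPres (l : Idx f W χ) :
    ∃ (m n : ℕ) (e₁ : l.rels ≃ Fin m) (e₂ : l.gens ≃ Fin n)
      (ψ : (∐ fun j => W (e₁.symm j).1) ⟶ ∐ fun i => f (e₂.symm i).1),
      Nonempty ((diag f W χ).obj l ≅ cokernel ψ) := by
  let e₁ := l.rels.equivFin
  let e₂ := l.gens.equivFin
  let a : (∐ fun k : l.rels => W k.1) ≅ ∐ fun j => W (e₁.symm j).1 :=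
    Sigma.whiskerEquiv e₁ fun k => eqToIso (congrArg (fun q : l.rels => W q.1) (e₁.symm_apply_apply k))
  let b : (∐ fun i : l.gens => f i.1) ≅ ∐ fun j => f (e₂.symm j).1 :=
    Sigma.whiskerEquiv e₂ fun k => eqToIso (congrArg (fun q : l.gens => f q.1) (e₂.symm_apply_apply k))
  exact ⟨_, _, e₁, e₂, a.inv ≫ rel l ≫ b.hom,
    ⟨cokernel.mapIso (rel l) (a.inv ≫ rel l ≫ b.hom) a b (by simp)⟩⟩

end Generic

section Mod

variable {C : Type u} [SmallCategory C] {J : GrothendieckTopology C} (O : Sheaf J CommRingCat.{u}) (B : Set C)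

/-- Maps from the free modules on members of `B`. -/
abbrev Gen (F : ModSite.Mod O) : Type u := Σ U : {U : C // U ∈ B}, (ModSite.freeOn O U.1 ⟶ F)

variable (hB : ∀ X : C, ∃ (κ : Type u) (Y : κ → C) (g : ∀ k, Y k ⟶ X), Sieve.ofArrows Y g ∈ J X ∧ ∀ k, Y k ∈ B)

include hB in
theorem hom_ext_of_gen {M N : ModSite.Mod O} {a b : M ⟶ N} (h : ∀ i : Gen O B M, i.2 ≫ a = i.2 ≫ b) :
    a = b := by
  refine ModSiteLib.freeOn_isSeparating O B hB _ _ fun G hG c => ?_
  obtain ⟨U⟩ := hG
  exact h ⟨U, c⟩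

theorem keep_eq {ι : Type u} (f : ι → ModSite.Mod O) (s : Finset ι) :
    keep f s = CoprodQcLib.keep f s := by
  refine Sigma.hom_ext _ _ fun i => ?_
  by_cases h : i ∈ s
  · rw [ι_keep f h, CoprodQcLib.ι_keep f h]
  · rw [ι_keep_ne f h, CoprodQcLib.keep, Preadditive.comp_sum]
    refine (Finset.sum_eq_zero fun j hj => ?_).symm
    rw [← Category.assoc, CoprodQcLib.ι_prj_ne f (by rintro rfl; exact h hj), zero_comp]

include hB in
theorem exists_filtered (hqc : ∀ U ∈ B, CoprodQcLib.QcSep J O U) (F : ModSite.Mod O) :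
    ∃ (Λ : Type u) (_ : SmallCategory Λ) (_ : IsFiltered Λ) (D : Λ ⥤ ModSite.Mod O)
      (η : D ⟶ (Functor.const Λ).obj F),
      (∀ l, (∃ (m' n' : ℕ) (V' : Fin m' → C) (U' : Fin n' → C)
        (ψ : (∐ fun j => ModSite.freeOn O (V' j)) ⟶ ∐ fun i => ModSite.freeOn O (U' i)),
        (∀ j, V' j ∈ B) ∧ (∀ i, U' i ∈ B) ∧ Nonempty (D.obj l ≅ cokernel ψ))) ∧
      Nonempty (IsColimit (Cocone.mk F η)) := by
  let f : Gen O B F → ModSite.Mod O := fun i => ModSite.freeOn O i.1.1
  let p : (∐ f) ⟶ F := Sigma.desc fun i => i.2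
  haveI : Epi p := ⟨fun a b h => hom_ext_of_gen O B hB fun i => by
    have h' := congrArg (fun t => Sigma.ι f i ≫ t) h
    simp only [p, Sigma.ι_desc_assoc] at h'
    exact h'⟩
  let W : Gen O B (kernel p) → ModSite.Mod O := fun k => ModSite.freeOn O k.1.1
  let χ : ∀ k, W k ⟶ ∐ f := fun k => k.2 ≫ kernel.ι p
  have hp : ∀ k, χ k ≫ p = 0 := fun k => by simp [χ]
  refine ⟨Idx f W χ, inferInstance, inferInstance, diag f W χ, coneι f W χ p hp, fun l => ?_,
    nonempty_isColimit f W χ p hp (fun T σ hσ => hom_ext_of_gen O B hB fun k => ?_) fun k => ?_⟩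
  · obtain ⟨m, n, e₁, e₂, ψ, hψ⟩ := finPres f W χ l
    exact ⟨m, n, fun j => (e₁.symm j).1.1.1, fun i => (e₂.symm i).1.1.1, ψ, fun j => (e₁.symm j).1.1.2,
      fun i => (e₂.symm i).1.1.2, hψ⟩
  · exact ((Category.assoc _ _ _).symm.trans (hσ k)).trans comp_zero.symm
  · obtain ⟨s, hs⟩ := CoprodQcLib.exists_fixed f (hqc k.1.1 k.1.2) (ModSiteLib.freeOnEquiv _ _ (χ k))
    refine ⟨s, (ModSiteLib.freeOnEquiv _ _).injective ?_⟩
    rw [keep_eq]
    exact (ModSiteLib.freeOnEquiv_comp _ _ _).trans hs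

end Mod

end Groth.Agent.FinPresColimLib
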