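/-
Bounded above complexes of flat modules are K-flat; K-flat resolutions.
-/
import Groth.Agent.ModSiteLib.KFlatCx
import Groth.Agent.FreeResLib.Site

set_option autoImplicit false
set_option linter.unusedSectionVars false
set_option linter.style.haveILetI false

universe u

open CategoryTheory CategoryTheory.Limits HomologicalComplex KFlatLib
open CochainComplex (mappingCone)

namespace ModSiteLib

variable {C : Type u} [SmallCategory C] {J : GrothendieckTopology C} {O : Sheaf J CommRingCat.{u}}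

theorem isKFlat_colimit_nat (K : ℕ ⥤ CochainComplex (ModSite.Mod O) ℤ) {c : Cocone K} (hc : IsColimit c)
    (h : ∀ j, ModSite.IsKFlat (K.obj j)) : ModSite.IsKFlat c.pt :=
  haveI hp : ∀ Y, PreservesColimitsOfShape ℕ ((ModSite.tensorBi O).flip.obj Y) := fun Y =>
    (preservesColimitsOfSize_zero_tensor_flip (O := O) Y).preservesColimitsOfShape
  isKFlat_of_isColimit ℕ K hc h

theorem isKFlat_colimit_int (K : Discrete ℤ ⥤ CochainComplex (ModSite.Mod O) ℤ) {c : Cocone K}
    (hc : IsColimit c) (h : ∀ j, ModSite.IsKFlat (K.obj j)) : ModSite.IsKFlat c.pt :=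
  haveI hp : ∀ Y, PreservesColimitsOfShape (Discrete ℤ) ((ModSite.tensorBi O).flip.obj Y) := fun Y =>
    (preservesColimitsOfSize_zero_tensor_flip (O := O) Y).preservesColimitsOfShape
  haveI : HasExactColimitsOfShape (Discrete ℤ) (ModSite.Mod O) := AB4OfSize.ofShape ℤ
  isKFlat_of_isColimit (Discrete ℤ) K hc h

theorem isFlat_of_isZero {M : ModSite.Mod O} (h : IsZero M) : ModSite.IsFlat M := by
  refine isFlat_of_preservesMono ⟨fun {X Y} f _ => ?_⟩
  haveI := preservesColimits_tensor O X
  exact ⟨fun g g' _ => (((ModSite.tensorBi O).obj X).map_isZero h).eq_of_tgt _ _⟩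

theorem isFlat_biprod {M N : ModSite.Mod O} (hM : ModSite.IsFlat M) (hN : ModSite.IsFlat N) :
    ModSite.IsFlat (M ⊞ N) :=
  isFlat_X₂ (S := ShortComplex.mk (biprod.inl : M ⟶ M ⊞ N) biprod.snd biprod.inl_snd)
    (ShortComplex.Splitting.shortExact
      { r := biprod.fst, s := biprod.inr, f_r := biprod.inl_fst, s_g := biprod.inr_snd,
        id := biprod.total }) hM hN

/-- Finite complexes of flat modules are K-flat. -/
theorem isKFlat_of_bounded_flat (k : ℕ) : ∀ (K : CochainComplex (ModSite.Mod O) ℤ) (a : ℤ),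
    (∀ i, i < a ∨ a + (k : ℤ) ≤ i → IsZero (K.X i)) → (∀ i, ModSite.IsFlat (K.X i)) →
    ModSite.IsKFlat K := by
  induction k with
  | zero =>
    intro K a hK _
    refine isKFlat_of_isZero ((IsZero.iff_id_eq_zero K).2 ?_)
    ext i : 1
    exact (hK i (by omega)).eq_of_src _ _
  | succ k ih =>
    intro K a hK hflat
    have hd : ∀ n, (ComplexShape.up ℤ).Rel (a + k) n → 𝟙 (K.X (a + k)) ≫ K.d (a + k) n = 0 :=
      fun n hn => (hK n (by have : a + k + 1 = n := hn; omega)).eq_of_tgt _ _
    let i : (CochainComplex.singleFunctor (ModSite.Mod O) (a + k)).obj (K.X (a + k)) ⟶ K :=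
      HomologicalComplex.mkHomFromSingle (𝟙 (K.X (a + k))) hd
    have hiso : IsIso (i.f (a + k)) := by
      show IsIso ((HomologicalComplex.mkHomFromSingle (𝟙 (K.X (a + k))) hd).f (a + k))
      rw [HomologicalComplex.mkHomFromSingle_f, Category.comp_id]
      infer_instance
    have hz : ∀ n, n ≠ a + k →
        IsZero (((CochainComplex.singleFunctor (ModSite.Mod O) (a + k)).obj (K.X (a + k))).X n) :=
      fun n hn => isZero_single_obj_X (ComplexShape.up ℤ) (a + k) (K.X (a + k)) n hn
    haveI : ∀ n, Mono (i.f n) := fun n => by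
      by_cases hn : n = a + k
      · subst hn; infer_instance
      · exact ⟨fun g g' _ => (hz n hn).eq_of_tgt _ _⟩
    haveI : Mono i := HomologicalComplex.mono_of_mono_f _ inferInstance
    let S : ShortComplex (CochainComplex (ModSite.Mod O) ℤ) :=
      ShortComplex.mk i (cokernel.π i) (cokernel.condition i)
    have hS : S.ShortExact := { exact := ShortComplex.exact_cokernel i }
    have hSn := (shortExact_iff_degreewise_shortExact S).1 hS
    have hX : ∀ n, (n = a + k → IsZero (S.X₃.X n)) ∧ (n ≠ a + k → Nonempty (K.X n ≅ S.X₃.X n)) :=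
      fun n => ⟨fun hn => by
        subst hn
        haveI : Epi (S.f.f (a + k)) := (inferInstance : Epi (i.f (a + k)))
        haveI : Epi (S.g.f (a + k)) := (hSn (a + k)).epi_g
        refine (IsZero.iff_id_eq_zero _).2 ?_
        rw [← cancel_epi (S.g.f (a + k)), ← cancel_epi (S.f.f (a + k)), ← Category.assoc, ← comp_f,
          S.zero]
        simp, fun hn => by
        haveI : IsIso (S.g.f n) := (hSn n).isIso_g_iff.2 (hz n hn)
        exact ⟨asIso (S.g.f n)⟩⟩
    have hflat₃ : ∀ n, ModSite.IsFlat (S.X₃.X n) := fun n => by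
      by_cases hn : n = a + k
      · exact isFlat_of_isZero ((hX n).1 hn)
      · exact isFlat_of_iso O ((hX n).2 hn).some (hflat n)
    refine (isKFlat_three S (shortExact_tF_of_flat hS hflat₃)).2.1 (isKFlat_single (hflat _) _)
      (ih S.X₃ a (fun n hn => ?_) hflat₃)
    by_cases hn' : n = a + k
    · exact (hX n).1 hn'
    · exact (hK n (by omega)).of_iso ((hX n).2 hn').some.symm

section Brut

variable (K : CochainComplex (ModSite.Mod O) ℤ)

/-- The terms in degrees at least `a`. -/
noncomputable def brutX (a i : ℤ) : ModSite.Mod O := ∐ fun _ : PLift (a ≤ i) => K.X i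

/-- The subcomplex of terms in degrees at least `a`. -/
noncomputable def brut (a : ℤ) : CochainComplex (ModSite.Mod O) ℤ where
  X := brutX K a
  d i j := if h : i + 1 = j then
      Sigma.desc fun t => K.d i j ≫ Sigma.ι (fun _ : PLift (a ≤ j) => K.X j) ⟨by have := t.down; omega⟩
    else 0
  shape i j h := dif_neg h
  d_comp_d' i j l hij hjl := by
    refine Sigma.hom_ext _ _ fun t => ?_
    have hij' : i + 1 = j := hij
    have hjl' : j + 1 = l := hjl
    refine Eq.trans ?_ comp_zero.symm
    simp [hij', hjl']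
    refine (Sigma.ι_desc_assoc _ _ _).trans ?_
    refine (Category.assoc _ _ _).trans ((congrArg (K.d i j ≫ ·) (Sigma.ι_desc (f := fun _ : PLift (a ≤ j) => K.X j) _ _)).trans ?_)
    exact (Category.assoc _ _ _).symm.trans ((congrArg (· ≫ _) (K.d_comp_d i j l)).trans zero_comp)

/-- The inclusion. -/
noncomputable def brutι (a : ℤ) : brut K a ⟶ K where
  f i := Sigma.desc fun _ => 𝟙 _
  comm' i j h := by
    refine Sigma.hom_ext _ _ fun t => ?_
    simp [brut, brutX, dif_pos (show i + 1 = j from h)]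

/-- The transition maps. -/
noncomputable def brutMap (a b : ℤ) (h : b ≤ a) : brut K a ⟶ brut K b where
  f i := Sigma.desc fun t => Sigma.ι (fun _ : PLift (b ≤ i) => K.X i) ⟨h.trans t.down⟩
  comm' i j h := by
    refine Sigma.hom_ext _ _ fun t => ?_
    simp [brut, brutX, dif_pos (show i + 1 = j from h)]

theorem isZero_brut (a i : ℤ) (h : i < a) : IsZero ((brut K a).X i) :=
  (IsZero.iff_id_eq_zero _).2 (Sigma.hom_ext _ _ fun t => absurd t.down (by omega))

/-- The sequence of truncations. -/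
noncomputable def brutTower : ℕ ⥤ CochainComplex (ModSite.Mod O) ℤ :=
  Functor.ofSequence (X := fun n : ℕ => brut K (-(n : ℤ))) fun n => brutMap K _ _ (by omega)

theorem brutTower_map_succ (n : ℕ) :
    (brutTower K).map (homOfLE (Nat.le_succ n)) = brutMap K (-(n : ℤ)) (-((n + 1 : ℕ) : ℤ)) (by omega) :=
  Functor.ofSequence_map_homOfLE_succ _ n

/-- The cocone of truncations. -/
noncomputable def brutCocone : Cocone (brutTower K) :=
  ⟨K, NatTrans.ofSequence (fun n => brutι K (-(n : ℤ))) (fun n => by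
    refine Eq.trans ?_ (Category.comp_id _).symm
    rw [brutTower_map_succ]
    ext i : 1
    refine Sigma.hom_ext _ _ fun t => ?_
    simp [brutι, brutMap, brut, brutX]
    exact (Sigma.ι_desc_assoc _ _ _).trans (Sigma.ι_desc _ _))⟩

theorem isIso_brutι_f (a i : ℤ) (h : a ≤ i) : IsIso ((brutι K a).f i) := by
  refine ⟨Sigma.ι (fun _ : PLift (a ≤ i) => K.X i) ⟨h⟩, Sigma.hom_ext _ _ fun t => ?_,
    Sigma.ι_desc _ _⟩
  obtain ⟨_⟩ := t
  simp [brutι, brut, brutX]

theorem ι_brutTower_map (m n : ℕ) (h : m ≤ n) (i : ℤ) (t : PLift (-(m : ℤ) ≤ i)) :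
    Sigma.ι (fun _ : PLift (-(m : ℤ) ≤ i) => K.X i) t ≫ ((brutTower K).map (homOfLE h)).f i =
      Sigma.ι (fun _ : PLift (-(n : ℤ) ≤ i) => K.X i) ⟨by have := t.down; omega⟩ := by
  haveI := isIso_brutι_f K (-(n : ℤ)) i (by have := t.down; omega)
  have e : ((brutTower K).map (homOfLE h)).f i ≫ (brutι K (-(n : ℤ))).f i = (brutι K (-(m : ℤ))).f i :=
    congr_arg (fun t => HomologicalComplex.Hom.f t i) ((brutCocone K).w (homOfLE h))
  refine (cancel_mono ((brutι K (-(n : ℤ))).f i)).1 ?_
  refine (Category.assoc _ _ _).trans ((congrArg (_ ≫ ·) e).trans ?_)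
  exact (Sigma.ι_desc (fun _ => 𝟙 (K.X i)) t).trans (Sigma.ι_desc (fun _ => 𝟙 (K.X i)) _).symm

theorem neg_toNat_le (i : ℤ) : -(((-i).toNat : ℕ) : ℤ) ≤ i := by omega

/-- The truncations exhaust the complex. -/
noncomputable def isColimitBrut : IsColimit (brutCocone K) :=
  isColimitOfEval _ _ fun i =>
  { desc := fun s => Sigma.ι (fun _ : PLift (-(((-i).toNat : ℕ) : ℤ) ≤ i) => K.X i) ⟨neg_toNat_le i⟩ ≫
      s.ι.app (-i).toNat
    fac := fun s n => by
      refine Sigma.hom_ext _ _ fun t => ?_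
      have h₁ := congrArg (fun x => Sigma.ι (fun _ : PLift (-(n : ℤ) ≤ i) => K.X i) t ≫ x)
        (s.w (homOfLE (le_max_right (-i).toNat n)))
      have h₂ := congrArg
        (fun x => Sigma.ι (fun _ : PLift (-(((-i).toNat : ℕ) : ℤ) ≤ i) => K.X i) ⟨neg_toNat_le i⟩ ≫ x)
        (s.w (homOfLE (le_max_left (-i).toNat n)))
      refine ((Category.assoc _ _ _).symm.trans
        ((congrArg (· ≫ _) (Sigma.ι_desc (fun _ => 𝟙 (K.X i)) t)).trans (Category.id_comp _))).trans ?_
      refine h₂.symm.trans (Eq.trans ?_ h₁)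
      exact ((Category.assoc _ _ _).symm.trans
        (congrArg (· ≫ _) (ι_brutTower_map K _ _ (le_max_left (-i).toNat n) i ⟨neg_toNat_le i⟩))).trans
        ((Category.assoc _ _ _).symm.trans
        (congrArg (· ≫ _) (ι_brutTower_map K _ _ (le_max_right (-i).toNat n) i t))).symm
    uniq := fun s m hm => by
      refine Eq.trans ?_ (congrArg
        (fun x => Sigma.ι (fun _ : PLift (-(((-i).toNat : ℕ) : ℤ) ≤ i) => K.X i) ⟨neg_toNat_le i⟩ ≫ x)
        (hm (-i).toNat))
      exact ((Category.assoc _ _ _).symm.trans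
        ((congrArg (· ≫ m) (Sigma.ι_desc (f := fun _ : PLift (-(((-i).toNat : ℕ) : ℤ) ≤ i) => K.X i) (fun _ => 𝟙 (K.X i)) (PLift.up (neg_toNat_le i)))).trans
          (Category.id_comp _))).symm }

end Brut

/-- Bounded above complexes of flat modules are K-flat. -/
theorem isKFlat_of_boundedAbove_flat (K : CochainComplex (ModSite.Mod O) ℤ) (b : ℤ)
    (hb : ∀ i, b < i → IsZero (K.X i)) (hflat : ∀ i, ModSite.IsFlat (K.X i)) : ModSite.IsKFlat K := by
  refine (isKFlat_colimit_nat (brutTower K) (c := brutCocone K) (isColimitBrut K) fun n => ?_ :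
    ModSite.IsKFlat (brutCocone K).pt)
  show ModSite.IsKFlat (brut K (-(n : ℤ)))
  refine isKFlat_of_bounded_flat (b + 1 + n).toNat _ (-(n : ℤ)) (fun i hi => ?_) (fun i => ?_)
  · rcases hi with h | h
    · exact isZero_brut K _ i h
    · by_cases h' : -(n : ℤ) ≤ i
      · haveI := isIso_brutι_f K _ i h'
        exact (hb i (by omega)).of_iso (asIso ((brutι K (-(n : ℤ))).f i))
      · exact isZero_brut K _ i (by omega)
  · by_cases h : -(n : ℤ) ≤ i
    · haveI := isIso_brutι_f K _ i h
      exact isFlat_of_iso O (asIso ((brutι K (-(n : ℤ))).f i)).symm (hflat i)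
    · exact isFlat_of_isZero (isZero_brut K _ i (by omega))

section Mid

open Groth.Agent.FreeResLib

/-- Complexes of flat modules with zero differential are K-flat. -/
theorem isKFlat_zeroCx (L : ℤ → ModSite.Mod O) (hL : ∀ i, ModSite.IsFlat (L i)) :
    ModSite.IsKFlat (zeroCx L) := by
  let ι : ∀ j, (CochainComplex.singleFunctor (ModSite.Mod O) j).obj (L j) ⟶ zeroCx L := fun j =>
    HomologicalComplex.mkHomFromSingle (K := zeroCx L) (j := j) (A := L j) (𝟙 (L j)) (fun k _ => comp_zero)
  let D : Discrete ℤ ⥤ CochainComplex (ModSite.Mod O) ℤ :=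
    Discrete.functor fun j => (CochainComplex.singleFunctor (ModSite.Mod O) j).obj (L j)
  let c : Cocone D := Cofan.mk (zeroCx L) ι
  have hι : ∀ n, (ι n).f n = (singleObjXSelf (ComplexShape.up ℤ) n (L n)).hom := fun n =>
    (HomologicalComplex.mkHomFromSingle_f (K := zeroCx L) (j := n) (A := L n) (𝟙 (L n))
      (fun k _ => comp_zero)).trans (Category.comp_id _)
  refine isKFlat_colimit_int D (c := c) (isColimitOfEval _ _ fun n => ?_)
    fun j => isKFlat_single (hL j.as) j.as
  exact
  { desc := fun s => (singleObjXSelf (ComplexShape.up ℤ) n (L n)).inv ≫ s.ι.app ⟨n⟩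
    fac := fun s ⟨j⟩ => by
      by_cases hj : j = n
      · subst hj
        exact (congrArg (· ≫ _) (hι j)).trans (Iso.hom_inv_id_assoc _ _)
      · exact IsZero.eq_of_src (isZero_single_obj_X (ComplexShape.up ℤ) j (L j) n (Ne.symm hj)) _ _
    uniq := fun s m hm => by
      refine Eq.trans ?_ (congrArg ((singleObjXSelf (ComplexShape.up ℤ) n (L n)).inv ≫ ·) (hm ⟨n⟩))
      exact ((congrArg (_ ≫ ·) (congrArg (· ≫ m) (hι n))).trans (Iso.inv_hom_id_assoc _ _)).symm }

variable {P G : CochainComplex (ModSite.Mod O) ℤ} (f : P ⟶ G)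

theorem isKFlat_stage (hP : ModSite.IsKFlat P) (k : ℕ) :
    ModSite.IsKFlat (stage (siteCov O) (start (siteCov O) f) k).P := by
  induction k with
  | zero => exact isKFlat_biprod hP (isKFlat_of_contractible (coneIdContractible _))
  | succ k ih =>
    exact (isKFlat_cone_three _).1
      (isKFlat_zeroCx _ fun n => isFlat_of_isSum O (isSum_cov (siteCov O) _)) ih

/-- The factorisation through the middle object keeps K-flatness. -/
theorem isKFlat_mid (hP : ModSite.IsKFlat P) : ModSite.IsKFlat (mid (siteCov O) f) :=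
  isKFlat_colimit_nat (tower (siteCov O) (start (siteCov O) f)) (colimit.isColimit _)
    fun k => isKFlat_stage f hP k

theorem isFlat_mid (hP : ∀ n, ModSite.IsFlat (P.X n)) (n : ℤ) :
    ModSite.IsFlat ((mid (siteCov O) f).X n) := by
  obtain ⟨Q, e, hQ, -⟩ := exists_splitting (siteCov O) f n
  exact isFlat_of_iso O e.symm (isFlat_biprod (hP n) (isFlat_of_isSum O hQ))

end Mid

end ModSiteLib

namespace ModSiteLib

variable {C : Type u} [SmallCategory C] {J : GrothendieckTopology C} {O : Sheaf J CommRingCat.{u}}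

theorem symCx_natural {K K' : CochainComplex (ModSite.Mod O) ℤ} (a : K ⟶ K')
    {L L' : CochainComplex (ModSite.Mod O) ℤ} (b : L ⟶ L') :
    mapBifunctorMap b a (ModSite.tensorBi O) (ComplexShape.up ℤ) ≫ (symCx O K' L').hom =
      (symCx O K L).hom ≫ mapBifunctorMap a b (ModSite.tensorBi O) (ComplexShape.up ℤ) := by
  have e := totalMapIso_natural (ModSite.tensorBi O).flip (ModSite.tensorBi O) (𝟭 _) (𝟭 _) (𝟭 _)
    (fun a b => symX O a b) (fun f b => symX₁ f b) (fun a _ _ g => symX₂ a g) b a
  refine ((Category.assoc _ _ _).symm.trans (congrArg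
    (· ≫ (mapBifunctorFlipIso K' L' (ModSite.tensorBi O) (ComplexShape.up ℤ)).hom) e)).trans ?_
  refine (Category.assoc _ _ _).trans (Eq.trans ?_ (Category.assoc _ _ _).symm)
  congr 1
  exact mapBifunctorFlipIso_hom_naturality _ _ _ _

/-- Tensoring on the left with a K-flat complex preserves quasi-isomorphisms. -/
theorem quasiIso_map_right {F : CochainComplex (ModSite.Mod O) ℤ} (hF : ModSite.IsKFlat F)
    {P Q : CochainComplex (ModSite.Mod O) ℤ} (α : P ⟶ Q) [QuasiIso α] :
    QuasiIso (((ModSite.tensorCx O).obj F).map α) := by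
  haveI : QuasiIso ((bimap₁ (ModSite.tensorBi O) F).map α) := quasiIso_bimap₁ _ F hF α
  have h : (bimap₁ (ModSite.tensorBi O) F).map α ≫ (symCx O F Q).hom =
      (symCx O F P).hom ≫ ((ModSite.tensorCx O).obj F).map α :=
    symCx_natural (𝟙 F) α
  haveI : QuasiIso ((symCx O F P).hom ≫ ((ModSite.tensorCx O).obj F).map α) := by
    rw [← h]; infer_instance
  exact quasiIso_of_comp_left (symCx O F P).hom _

/-- Any complex has a surjective K-flat resolution. -/
theorem exists_kFlat_resolution (G : CochainComplex (ModSite.Mod O) ℤ) :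
    ∃ (K : CochainComplex (ModSite.Mod O) ℤ) (q : K ⟶ G), ModSite.IsKFlat K ∧ QuasiIso q := by
  letI := HasZeroObject.zero' (CochainComplex (ModSite.Mod O) ℤ)
  let f : (0 : CochainComplex (ModSite.Mod O) ℤ) ⟶ G := 0
  exact ⟨Groth.Agent.FreeResLib.mid (Groth.Agent.FreeResLib.siteCov O) f,
    Groth.Agent.FreeResLib.midπ _ f, isKFlat_mid f (isKFlat_of_isZero (isZero_zero _)),
    Groth.Agent.FreeResLib.quasiIso_midπ _ f⟩

/-- Quasi-isomorphisms of K-flat complexes stay quasi-isomorphisms after tensoring. -/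
theorem quasiIso_map_left {P Q : CochainComplex (ModSite.Mod O) ℤ}
    (hP : ∀ C, Acy C → Acy ((bimap₁ (ModSite.tensorBi O) P).obj C))
    (hQ : ∀ C, Acy C → Acy ((bimap₁ (ModSite.tensorBi O) Q).obj C)) (α : P ⟶ Q) [QuasiIso α] (F : CochainComplex (ModSite.Mod O) ℤ) :
    QuasiIso (mapBifunctorMap (𝟙 F) α (ModSite.tensorBi O) (ComplexShape.up ℤ)) := by
  obtain ⟨F', q, hF', hq⟩ := exists_kFlat_resolution F
  haveI h1 : QuasiIso (((ModSite.tensorCx O).map q).app P) :=
    quasiIso_bimap₁ (ModSite.tensorBi O) P hP q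
  haveI h2 : QuasiIso (((ModSite.tensorCx O).map q).app Q) :=
    quasiIso_bimap₁ (ModSite.tensorBi O) Q hQ q
  haveI h3 := quasiIso_map_right hF' α
  haveI : QuasiIso (((ModSite.tensorCx O).map q).app P ≫ ((ModSite.tensorCx O).obj F).map α) := by
    rw [← ((ModSite.tensorCx O).map q).naturality α]
    infer_instance
  exact quasiIso_of_comp_left (((ModSite.tensorCx O).map q).app P) (((ModSite.tensorCx O).obj F).map α)

end ModSiteLib
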