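/-
The cycles of an acyclic K-flat complex of flat modules are flat.
-/
import Groth.Agent.ModSiteLib.KFlatBounded

set_option autoImplicit false
set_option linter.unusedSectionVars false
set_option linter.style.haveILetI false

universe u

open CategoryTheory CategoryTheory.Limits HomologicalComplex KFlatLib

namespace ModSiteLib

/-- A map out of a cokernel is mono if the sequence into its composite is exact. -/
theorem mono_of_exact_comp {A : Type*} [Category* A] [Abelian A] {a b c d : A} (f : a ⟶ b) (g : b ⟶ c)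
    (m : c ⟶ d) (hfg : f ≫ g = 0) [Epi g] (w : f ≫ g ≫ m = 0)
    (hex : (ShortComplex.mk f (g ≫ m) w).Exact) : Mono m := by
  rw [Preadditive.mono_iff_cancel_zero]
  intro T t ht
  obtain ⟨T', π, hπ, x, hx⟩ := surjective_up_to_refinements_of_epi g t
  obtain ⟨T'', π', hπ', y, hy⟩ := hex.exact_up_to_refinements x (by
    show x ≫ g ≫ m = 0
    rw [← Category.assoc, ← hx, Category.assoc, ht, comp_zero])
  rw [← cancel_epi π, comp_zero, hx, ← cancel_epi π', comp_zero, ← Category.assoc]
  exact (congrArg (· ≫ g) hy).trans (by rw [Category.assoc, hfg, comp_zero])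

variable {C : Type u} [SmallCategory C] {J : GrothendieckTopology C} {O : Sheaf J CommRingCat.{u}}

/-- Any module tensored with an acyclic K-flat complex is acyclic. -/
theorem acy_tensor_of_acy_kFlat {K : CochainComplex (ModSite.Mod O) ℤ} (hK : ModSite.IsKFlat K)
    (hac : Acy K) (M : ModSite.Mod O) :
    Acy ((((ModSite.tensorBi O).obj M).mapHomologicalComplex (ComplexShape.up ℤ)).obj K) := by
  obtain ⟨P, q, hP, hq⟩ := exists_kFlat_resolution ((single (ModSite.Mod O) (ComplexShape.up ℤ) 0).obj M)
  have h1 : Acy ((bimap₁ (ModSite.tensorBi O) K).obj P) := (isKFlat_iff P).1 hP K hac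
  haveI hqi : QuasiIso ((bimap₁ (ModSite.tensorBi O) K).map q) := quasiIso_bimap₁ _ K hK q
  have hi : ∀ i, IsIso (homologyMap ((bimap₁ (ModSite.tensorBi O) K).map q) i) := fun i =>
    (quasiIsoAt_iff_isIso_homologyMap _ i).1 (hqi.quasiIsoAt i)
  have h2 : Acy ((bimap₁ (ModSite.tensorBi O) K).obj
      ((single (ModSite.Mod O) (ComplexShape.up ℤ) 0).obj M)) := fun i =>
    (h1 i).of_iso (@asIso _ _ _ _ _ (hi i)).symm
  exact acy_of_iso (Groth.Agent.ModSiteLib.BimapExact.singleIso (ModSite.tensorBi O) K M).symm h2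

variable {K : CochainComplex (ModSite.Mod O) ℤ}

theorem mono_tensor_iCycles (hac : Acy K) (M : ModSite.Mod O)
    (hM : Acy ((((ModSite.tensorBi O).obj M).mapHomologicalComplex (ComplexShape.up ℤ)).obj K)) (n : ℤ) :
    Mono (((ModSite.tensorBi O).obj M).map (K.iCycles n)) := by
  let F := (ModSite.tensorBi O).obj M
  haveI : Epi (K.toCycles (n - 1) n) := Preadditive.epi_of_cancel_zero _ fun {P} g hg => by
    obtain ⟨l, hl⟩ := CokernelCofork.IsColimit.desc' (K.homologyIsCokernel (n - 1) n (by simp)) g hg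
    rw [← hl, Cofork.π_ofπ, (hac n).eq_of_src l 0, comp_zero]
  haveI : Epi (F.map (K.toCycles (n - 1) n)) := inferInstance
  have w : F.map (K.d (n - 2) (n - 1)) ≫ F.map (K.toCycles (n - 1) n) ≫ F.map (K.iCycles n) = 0 := by
    rw [← F.map_comp, ← F.map_comp, toCycles_i, d_comp_d, F.map_zero]
  refine mono_of_exact_comp (F.map (K.d (n - 2) (n - 1))) (F.map (K.toCycles (n - 1) n))
    (F.map (K.iCycles n)) (by rw [← F.map_comp, d_toCycles, F.map_zero]) w ?_
  have e := (exactAt_iff' ((F.mapHomologicalComplex (ComplexShape.up ℤ)).obj K) (n - 2) (n - 1) n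
    (by simp; omega) (by simp)).1 ((exactAt_iff_isZero_homology _ (n - 1)).2 (hM (n - 1)))
  let e' : ((F.mapHomologicalComplex (ComplexShape.up ℤ)).obj K).sc' (n - 2) (n - 1) n ≅
      ShortComplex.mk (F.map (K.d (n - 2) (n - 1))) (F.map (K.toCycles (n - 1) n) ≫ F.map (K.iCycles n)) w :=
    ShortComplex.isoMk (Iso.refl _) (Iso.refl _) (Iso.refl _)
      ((Category.id_comp _).trans (Category.comp_id _).symm)
      ((Category.id_comp _).trans (((F.map_comp _ _).symm.trans
        (congrArg F.map (K.toCycles_i (n - 1) n))).trans (Category.comp_id _).symm))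
  exact (ShortComplex.exact_iff_of_iso e').1 e

theorem isFlat_cycles (hK : ModSite.IsKFlat K) (hac : Acy K) (hfl : ∀ i, ModSite.IsFlat (K.X i))
    (n : ℤ) : ModSite.IsFlat (K.cycles n) := by
  refine isFlat_of_preservesMono ⟨fun {X Y} f _ => ?_⟩
  haveI := mono_tensor_iCycles hac X (acy_tensor_of_acy_kFlat hK hac X) n
  haveI := preservesMono_flip_of_isFlat (hfl n)
  haveI : Mono (((ModSite.tensorBi O).flip.obj (K.X n)).map f) := inferInstance
  haveI : Mono (((ModSite.tensorBi O).map f).app (K.cycles n) ≫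
      ((ModSite.tensorBi O).obj Y).map (K.iCycles n)) := by
    rw [← ((ModSite.tensorBi O).map f).naturality (K.iCycles n)]
    exact mono_comp _ (((ModSite.tensorBi O).flip.obj (K.X n)).map f)
  exact mono_of_mono (((ModSite.tensorBi O).map f).app (K.cycles n))
    (((ModSite.tensorBi O).obj Y).map (K.iCycles n))

end ModSiteLib
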