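/-
Inverse images of K-flat complexes with flat terms are K-flat.
-/
import Groth.Agent.ModSiteLib.PullFlat
import Groth.Agent.ModSiteLib.KFlatCycles
import Mathlib.Algebra.Homology.HomotopyCategory.Acyclic
import Mathlib.Algebra.Homology.HomotopyCategory.MappingCone

set_option autoImplicit false
set_option linter.style.haveILetI false
set_option linter.unusedSectionVars false
set_option backward.isDefEq.respectTransparency false

universe u

open CategoryTheory CategoryTheory.Limits HomologicalComplex Groth.Agent.FreeResLib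
open CochainComplex (mappingCone)

namespace ModSiteLib

theorem acy_mappingCone {A : Type*} [Category* A] [Abelian A] {K L : CochainComplex A ℤ}
    (f : K ⟶ L) (hf : QuasiIso f) : Acy (mappingCone f) := by
  have h : (mappingCone f).Acyclic := by
    rw [← HomotopyCategory.quotient_obj_mem_subcategoryAcyclic_iff_acyclic]
    refine ((HomotopyCategory.subcategoryAcyclic A).trW_iff_of_distinguished _
      (HomotopyCategory.mappingCone_triangleh_distinguished f)).1 ?_
    rw [← HomotopyCategory.quasiIso_eq_trW_subcategoryAcyclic]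
    exact (HomotopyCategory.quotient_map_mem_quasiIso_iff f).2
      ((HomologicalComplex.mem_quasiIso_iff _).2 hf)
  exact acy_acyclic.1 h

variable {C : Type u} [SmallCategory C] {J : GrothendieckTopology C} {O : Sheaf J CommRingCat.{u}}
  {D : Type u} [SmallCategory D] {K : GrothendieckTopology D} {O_D : Sheaf K CommRingCat.{u}}
  (f : ModSite.RMor O O_D)

/-- Inverse image of complexes. -/
noncomputable abbrev pullCx : CochainComplex (ModSite.Mod O_D) ℤ ⥤ CochainComplex (ModSite.Mod O) ℤ :=
  haveI : f.pull.Additive := f.adj.left_adjoint_additive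
  f.pull.mapHomologicalComplex (ComplexShape.up ℤ)

instance additive_pull : f.pull.Additive := f.adj.left_adjoint_additive

/-- Inverse image of a complex with zero differential. -/
noncomputable def pullZeroCxIso (L : ℤ → ModSite.Mod O_D) :
    (pullCx f).obj (zeroCx L) ≅ zeroCx fun n => f.pull.obj (L n) :=
  HomologicalComplex.Hom.isoOfComponents (fun n => Iso.refl _) (fun i j _ => by
    refine (Category.id_comp _).trans (Eq.trans ?_ (Category.comp_id _).symm)
    exact (f.pull.map_zero _ _).symm)

theorem isKFlat_pull_zeroCx (L : ℤ → ModSite.Mod O_D) (hL : ∀ n, ModSite.IsFlat (L n)) :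
    ModSite.IsKFlat ((pullCx f).obj (zeroCx L)) :=
  isKFlat_of_iso (pullZeroCxIso f L).symm (isKFlat_zeroCx _ fun n => isFlat_pull f (hL n))

theorem isKFlat_pull_cone {P Q : CochainComplex (ModSite.Mod O_D) ℤ} (φ : P ⟶ Q)
    (hP : ModSite.IsKFlat ((pullCx f).obj P)) (hQ : ModSite.IsKFlat ((pullCx f).obj Q)) :
    ModSite.IsKFlat ((pullCx f).obj (mappingCone φ)) :=
  isKFlat_of_iso (CochainComplex.mappingCone.mapHomologicalComplexIso φ f.pull).symm
    ((isKFlat_cone_three _).1 hP hQ)

/-- An acyclic complex with flat cycles stays K-flat after inverse image. -/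
theorem isKFlat_pull_of_flat_cycles {L : CochainComplex (ModSite.Mod O_D) ℤ} (hac : Acy L)
    (hZ : ∀ n, ModSite.IsFlat (L.cycles n)) : ModSite.IsKFlat ((pullCx f).obj L) := by
  let i : zeroCx (fun n => L.cycles n) ⟶ L :=
    { f := fun n => L.iCycles n
      comm' := fun p q _ => (L.iCycles_d p q).trans zero_comp.symm }
  let p : L ⟶ zeroCx (fun n => L.cycles (n + 1)) :=
    { f := fun n => L.toCycles n (n + 1)
      comm' := fun a b _ => comp_zero.trans (L.d_toCycles a b (b + 1)).symm }
  have w : i ≫ p = 0 := by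
    refine HomologicalComplex.hom_ext _ _ fun n => ?_
    show L.iCycles n ≫ L.toCycles n (n + 1) = 0
    rw [← cancel_mono (L.iCycles (n + 1)), Category.assoc, toCycles_i, iCycles_d, zero_comp]
  let S : ShortComplex (CochainComplex (ModSite.Mod O_D) ℤ) := ShortComplex.mk i p w
  have hS : ∀ n, (S.map (eval _ _ n)).ShortExact := fun n =>
    { mono_f := inferInstanceAs (Mono (L.iCycles n))
      exact := by
        rw [ShortComplex.exact_iff_exact_up_to_refinements]
        intro T x hx
        change x ≫ L.toCycles n (n + 1) = 0 at hx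
        refine ⟨T, 𝟙 T, inferInstance, L.liftCycles x (n + 1) (by simp) ?_, ?_⟩
        · rw [← L.toCycles_i n (n + 1), ← Category.assoc, hx, zero_comp]
        · exact (Category.id_comp x).trans (L.liftCycles_i x (n + 1) _ _).symm
      epi_g := by
        show Epi (L.toCycles n (n + 1))
        refine Preadditive.epi_of_cancel_zero _ fun {P} g hg => ?_
        obtain ⟨l, hl⟩ := CokernelCofork.IsColimit.desc' (L.homologyIsCokernel n (n + 1) (by simp)) g hg
        rw [← hl, Cofork.π_ofπ, (hac (n + 1)).eq_of_src l 0, comp_zero] }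
  have hS' : (S.map (pullCx f)).ShortExact :=
    (shortExact_iff_degreewise_shortExact _).2 fun n => shortExact_pull f (hS n) (hZ (n + 1))
  exact (isKFlat_three _ (shortExact_tF_of_flat hS' fun n => isFlat_pull f (hZ (n + 1)))).2.1
    (isKFlat_pull_zeroCx f _ hZ) (isKFlat_pull_zeroCx f _ fun n => hZ (n + 1))

theorem isKFlat_pull_colimit {F : ℕ ⥤ CochainComplex (ModSite.Mod O_D) ℤ} {c : Cocone F}
    (hc : IsColimit c) (h : ∀ k, ModSite.IsKFlat ((pullCx f).obj (F.obj k))) :
    ModSite.IsKFlat ((pullCx f).obj c.pt) := by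
  haveI : PreservesColimitsOfSize.{0, 0} f.pull := f.adj.leftAdjoint_preservesColimits
  refine isKFlat_colimit_nat (F ⋙ pullCx f) (c := (pullCx f).mapCocone c)
    (isColimitOfEval _ _ fun i => ?_) h
  haveI : PreservesColimit F (eval (ModSite.Mod O_D) (ComplexShape.up ℤ) i) := inferInstance
  exact isColimitOfPreserves f.pull (isColimitOfPreserves (eval _ _ i) hc)

variable {G : CochainComplex (ModSite.Mod O_D) ℤ}
  {P₀ : CochainComplex (ModSite.Mod O_D) ℤ} (g : P₀ ⟶ G)

theorem isKFlat_pull_stage (hP : ModSite.IsKFlat ((pullCx f).obj P₀)) (k : ℕ) :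
    ModSite.IsKFlat ((pullCx f).obj (stage (siteCov O_D) (start (siteCov O_D) g) k).P) := by
  induction k with
  | zero =>
    haveI : (pullCx f).Additive := inferInstance
    haveI : PreservesBinaryBiproducts (pullCx f) := preservesBinaryBiproducts_of_preservesBiproducts _
    refine isKFlat_of_iso ((pullCx f).mapBiprod P₀ _).symm (isKFlat_biprod hP ?_)
    exact isKFlat_of_contractible ((Homotopy.ofEq ((pullCx f).map_id _).symm).trans
      ((f.pull.mapHomotopy (KFlatLib.coneIdContractible (baseL (siteCov O_D) G))).trans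
        (Homotopy.ofEq ((pullCx f).map_zero _ _))))
  | succ k ih =>
    exact isKFlat_pull_cone f _
      (isKFlat_pull_zeroCx f _ fun n => isFlat_of_isSum O_D (isSum_cov (siteCov O_D) _)) ih

theorem isKFlat_pull_mid (hP : ModSite.IsKFlat ((pullCx f).obj P₀)) :
    ModSite.IsKFlat ((pullCx f).obj (mid (siteCov O_D) g)) :=
  isKFlat_pull_colimit f (colimit.isColimit (tower (siteCov O_D) (start (siteCov O_D) g)))
    fun k => isKFlat_pull_stage f g hP k

/-- Inverse images of K-flat complexes with flat terms are K-flat. -/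
theorem isKFlat_pull {L : CochainComplex (ModSite.Mod O_D) ℤ} (hL : ModSite.IsKFlat L)
    (hfl : ∀ n, ModSite.IsFlat (L.X n)) : ModSite.IsKFlat ((pullCx f).obj L) := by
  letI := HasZeroObject.zero' (CochainComplex (ModSite.Mod O_D) ℤ)
  let g : (0 : CochainComplex (ModSite.Mod O_D) ℤ) ⟶ L := 0
  let q := midπ (siteCov O_D) g
  have hP : ModSite.IsKFlat (mid (siteCov O_D) g) :=
    isKFlat_mid g (isKFlat_of_isZero (isZero_zero _))
  have hPf : ∀ n, ModSite.IsFlat ((mid (siteCov O_D) g).X n) :=
    isFlat_mid g fun n => isFlat_of_isZero ((eval _ (ComplexShape.up ℤ) n).map_isZero (isZero_zero _))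
  have hc : ModSite.IsKFlat (mappingCone q) := (isKFlat_cone_three q).1 hP hL
  have hcf : ∀ n, ModSite.IsFlat ((mappingCone q).X n) := fun n =>
    isFlat_of_iso O_D (HomologicalComplex.homotopyCofiber.XIsoBiprod q n (n + 1) rfl).symm
      (isFlat_biprod (hPf _) (hfl n))
  have hac : Acy (mappingCone q) := acy_mappingCone q (quasiIso_midπ _ g)
  have h1 := isKFlat_pull_of_flat_cycles f hac fun n => isFlat_cycles hc hac hcf n
  have h2 : ModSite.IsKFlat ((pullCx f).obj (mid (siteCov O_D) g)) :=
    isKFlat_pull_mid f g (isKFlat_of_isZero ((pullCx f).map_isZero (isZero_zero _)))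
  exact (isKFlat_cone_three ((pullCx f).map q)).2.1 h2
    (isKFlat_of_iso (CochainComplex.mappingCone.mapHomologicalComplexIso q f.pull) h1)

end ModSiteLib
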