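/-
Direct image of the internal hom out of an inverse image.
-/
import Groth.Agent.ModSiteLib.PullTensorIso
import Groth.Agent.ModSiteLib.SheafHom

set_option autoImplicit false
set_option linter.style.haveILetI false

universe u

open CategoryTheory Limits Opposite

namespace ModSiteLib

variable {C : Type u} [SmallCategory C] {J : GrothendieckTopology C} {O : Sheaf J CommRingCat.{u}}
  {D : Type u} [SmallCategory D] {K : GrothendieckTopology D} {O_D : Sheaf K CommRingCat.{u}}
  (f : ModSite.RMor O O_D)

/-- `f_* Hom(f^*N, -) ≅ Hom(N, f_* -)`. -/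
noncomputable def pushSheafHomIso (N : ModSite.Mod O_D) [ModSite.HasSheafHom (f.pull.obj N)]
    [ModSite.HasSheafHom N] :
    ModSite.sheafHom (f.pull.obj N) ⋙ f.push ≅ f.push ⋙ ModSite.sheafHom N :=
  haveI : ∀ M, IsIso ((pullTensNat₁ f N).app M) := fun M => isIso_pullTens f M N
  Adjunction.rightAdjointUniq
    ((f.adj.comp (sheafHomAdj' (f.pull.obj N))).ofNatIsoLeft
      (@asIso _ _ _ _ (pullTensNat₁ f N) (NatIso.isIso_of_isIso_app _)).symm)
    ((sheafHomAdj' N).comp f.adj)

end ModSiteLib
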